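/-
Elementary tools: the decomposition of an element into a 2-element and an element of odd order,
and small facts on 2-groups.
-/
import Mathlib
import Cfsg.Agent.Transfer.Basic

set_option autoImplicit false
set_option linter.unusedSectionVars false
set_option linter.style.haveILetI false

namespace Cfsg.Lib.TwoTimesPSL

open Subgroup

variable {K : Type*} [Group K] [Finite K]

/-- The element `u` is a 2-element. -/
def IsTwoEl {K : Type*} [Group K] (u : K) : Prop := ∃ i : ℕ, u ^ 2 ^ i = 1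

theorem IsTwoEl.one {K : Type*} [Group K] : IsTwoEl (1 : K) := ⟨0, by simp⟩

theorem IsTwoEl.inv {K : Type*} [Group K] {u : K} (h : IsTwoEl u) : IsTwoEl u⁻¹ := by
  obtain ⟨i, hi⟩ := h
  exact ⟨i, by rw [inv_pow, hi, inv_one]⟩

theorem IsTwoEl.mul {K : Type*} [Group K] {u v : K} (h : IsTwoEl u) (h' : IsTwoEl v)
    (hc : Commute u v) : IsTwoEl (u * v) := by
  obtain ⟨i, hi⟩ := h
  obtain ⟨j, hj⟩ := h'
  refine ⟨i + j, ?_⟩
  rw [hc.mul_pow, pow_add, pow_mul, hi, one_pow, one_mul, mul_comm, pow_mul, hj, one_pow]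

theorem IsTwoEl.eq_one {K : Type*} [Group K] {u : K} (h : IsTwoEl u) (ho : Odd (orderOf u)) :
    u = 1 := by
  obtain ⟨i, hi⟩ := h
  have h1 := orderOf_dvd_of_pow_eq_one hi
  have h2 : Nat.Coprime (orderOf u) (2 ^ i) :=
    Nat.Coprime.pow_right i (Nat.coprime_two_right.mpr ho)
  exact orderOf_eq_one_iff.1 (h2.eq_one_of_dvd h1)

theorem IsTwoEl.of_mem {K : Type*} [Group K] {P : Subgroup K} (hP : IsPGroup 2 P) {u : K}
    (hu : u ∈ P) : IsTwoEl u := by
  obtain ⟨i, hi⟩ := hP ⟨u, hu⟩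
  exact ⟨i, by simpa using congrArg Subtype.val hi⟩

theorem IsTwoEl.isPGroup {K : Type*} [Group K] {u : K} (h : IsTwoEl u) :
    IsPGroup 2 (zpowers u) := by
  obtain ⟨i, hi⟩ := h
  rintro ⟨_, j, rfl⟩
  refine ⟨i, Subtype.ext ?_⟩
  push_cast
  rw [← zpow_natCast (u ^ j), ← zpow_mul, mul_comm, zpow_mul, zpow_natCast, hi, one_zpow]

theorem exists_split (g : K) : ∃ u s : K, IsTwoEl u ∧ Odd (orderOf s) ∧ Commute u s ∧ u * s = g ∧
    u ∈ zpowers g ∧ s ∈ zpowers g := by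
  haveI : Fact (Nat.Prime 2) := ⟨Nat.prime_two⟩
  obtain ⟨a, b, ha, hb, hab, ⟨k, hk⟩, hco⟩ := Cfsg.Lib.Transfer.exists_pPart 2 g
  obtain ⟨i, rfl⟩ := ha
  obtain ⟨j, rfl⟩ := hb
  exact ⟨_, _, ⟨k, hk ▸ pow_orderOf_eq_one _⟩, Nat.Coprime.odd_of_right hco,
    (Commute.refl g).zpow_zpow i j, hab, ⟨i, rfl⟩, ⟨j, rfl⟩⟩

theorem split_unique {g u s u' s' : K} (hu : IsTwoEl u) (hs : Odd (orderOf s))
    (hc : Commute u s) (he : u * s = g) (hu' : IsTwoEl u') (hs' : Odd (orderOf s'))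
    (hc' : Commute u' s') (he' : u' * s' = g) : u = u' ∧ s = s' := by
  obtain ⟨a, b, ha, hb, hab, heq, haz, hbz⟩ := exists_split g
  have key : ∀ {v r : K}, IsTwoEl v → Odd (orderOf r) → Commute v r → v * r = g → v = a ∧ r = b := by
    intro v r hv hr hvr hg
    obtain ⟨i, hi⟩ := haz
    obtain ⟨j, hj⟩ := hbz
    have hvg : Commute v g := hg ▸ (Commute.refl v).mul_right hvr
    have hrg : Commute r g := hg ▸ hvr.symm.mul_right (Commute.refl r)
    have hva : Commute v a := hi ▸ hvg.zpow_right i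
    have hrb : Commute r b := hj ▸ hrg.zpow_right j
    have e : a⁻¹ * v = b * r⁻¹ := by
      rw [inv_mul_eq_iff_eq_mul, ← mul_assoc, heq, ← hg, mul_inv_cancel_right]
    have h1 : IsTwoEl (a⁻¹ * v) := ha.inv.mul hv hva.symm.inv_left
    have h2 : Odd (orderOf (b * r⁻¹)) := by
      have hd : orderOf (b * r⁻¹) ∣ orderOf b * orderOf r := by
        have h3 := (hrb.symm.inv_right).orderOf_mul_dvd_lcm
        rw [orderOf_inv] at h3
        exact h3.trans (Nat.lcm_dvd_mul _ _)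
      exact (hb.mul hr).of_dvd_nat hd
    have h4 : a⁻¹ * v = 1 := h1.eq_one (by rwa [e])
    refine ⟨(inv_mul_eq_one.1 h4).symm, ?_⟩
    rw [e] at h4
    exact (mul_inv_eq_one.1 h4).symm
  obtain ⟨h1, h2⟩ := key hu hs hc he
  obtain ⟨h3, h4⟩ := key hu' hs' hc' he'
  exact ⟨h1.trans h3.symm, h2.trans h4.symm⟩

/-- A finite group is the disjoint union over its elements `s` of odd order of the 2-elements of
their centralizers. -/
noncomputable def splitEquiv :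
    (Σ s : {s : K // Odd (orderOf s)}, {u : K // IsTwoEl u ∧ Commute u (s : K)}) ≃ K :=
  Equiv.ofBijective (fun p => (p.2 : K) * p.1) ⟨by
    rintro ⟨⟨s, hs⟩, ⟨u, hu, hc⟩⟩ ⟨⟨s', hs'⟩, ⟨u', hu', hc'⟩⟩ h
    obtain ⟨rfl, rfl⟩ := split_unique hu hs hc (rfl : u * s = u * s) hu' hs' hc' h.symm
    rfl, fun g => by
    obtain ⟨u, s, hu, hs, hc, he, -, -⟩ := exists_split g
    exact ⟨⟨⟨s, hs⟩, ⟨u, hu, hc⟩⟩, he⟩⟩

theorem card_eq_sum_split [Fintype {s : K // Odd (orderOf s)}] :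
    Nat.card K = ∑ s : {s : K // Odd (orderOf s)},
      Nat.card {u : K // IsTwoEl u ∧ Commute u (s : K)} := by
  rw [← Nat.card_congr (splitEquiv (K := K)), Nat.card_sigma]

/-- A non-trivial 2-element has a power which is an involution. -/
theorem IsTwoEl.exists_invol {u : K} (h : IsTwoEl u) (h1 : u ≠ 1) :
    ∃ i : ℕ, orderOf (u ^ 2 ^ i) = 2 := by
  obtain ⟨i, hi⟩ := h
  obtain ⟨j, -, hj⟩ := (Nat.dvd_prime_pow Nat.prime_two).1 (orderOf_dvd_of_pow_eq_one hi)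
  have hj0 : j ≠ 0 := fun e => h1 (orderOf_eq_one_iff.1 (by rw [hj, e, pow_zero]))
  refine ⟨j - 1, ?_⟩
  rw [orderOf_pow' u (by positivity), hj,
    Nat.gcd_eq_right (pow_dvd_pow 2 (Nat.sub_le j 1)), Nat.pow_div (Nat.sub_le j 1) two_pos,
    show j - (j - 1) = 1 by omega, pow_one]

/-- The involution in a cyclic 2-group is unique. -/
theorem invol_unique {u : K} {i j : ℕ} (hi : orderOf (u ^ 2 ^ i) = 2)
    (hj : orderOf (u ^ 2 ^ j) = 2) : u ^ 2 ^ i = u ^ 2 ^ j := by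
  rcases lt_trichotomy i j with h | h | h
  · exfalso
    obtain ⟨d, rfl⟩ := Nat.exists_eq_add_of_lt h
    have h2 : u ^ 2 ^ (i + d + 1) = ((u ^ 2 ^ i) ^ 2) ^ 2 ^ d := by
      rw [← pow_mul, ← pow_mul]
      congr 1
      ring
    rw [h2, show (u ^ 2 ^ i) ^ 2 = 1 by
      have := pow_orderOf_eq_one (u ^ 2 ^ i)
      rwa [hi] at this, one_pow, orderOf_one] at hj
    omega
  · rw [h]
  · exfalso
    obtain ⟨d, rfl⟩ := Nat.exists_eq_add_of_lt h
    have h2 : u ^ 2 ^ (j + d + 1) = ((u ^ 2 ^ j) ^ 2) ^ 2 ^ d := by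
      rw [← pow_mul, ← pow_mul]
      congr 1
      ring
    rw [h2, show (u ^ 2 ^ j) ^ 2 = 1 by
      have := pow_orderOf_eq_one (u ^ 2 ^ j)
      rwa [hj] at this, one_pow, orderOf_one] at hi
    omega

theorem isTwoEl_of_orderOf_two {u : K} (h : orderOf u = 2) : IsTwoEl u :=
  ⟨1, by rw [pow_one, ← h, pow_orderOf_eq_one]⟩

end Cfsg.Lib.TwoTimesPSL
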