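/-
Basic tools for groups with an involution centralizer of type `2 × PSL₂(q)`.
-/
import Mathlib
import Cfsg.Agent.TwoTimesPSL.TwoPart
import Cfsg.Agent.Transfer.ThompsonTransfer
import Cfsg.Agent.InvolCalc.ZStarApps

set_option autoImplicit false
set_option linter.unusedSectionVars false
set_option linter.style.haveILetI false

namespace Cfsg.Lib.TwoTimesPSL

open Subgroup MulAction

variable {G : Type*} [Group G] [Finite G]

/-- The conjugates of `t` in `H`. -/
abbrev conjIn {G : Type*} [Group G] (t : G) (H : Subgroup G) : Set G := {x | x ∈ H ∧ IsConj t x}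

theorem index_ne_two [IsSimpleGroup G] (hG : ¬ IsMulCommutative G) (H : Subgroup G) :
    H.index ≠ 2 := by
  intro h2
  haveI := Subgroup.normal_of_index_eq_two h2
  rcases (inferInstance : H.Normal).eq_bot_or_eq_top with e | e
  · rw [e, Subgroup.index_bot] at h2
    haveI : Fact (Nat.Prime 2) := ⟨Nat.prime_two⟩
    haveI : IsCyclic G := isCyclic_of_prime_card h2
    exact hG IsCyclic.isMulCommutative
  · rw [e, Subgroup.index_top] at h2
    omega

/-- An involution of a simple group moves a multiple of four cosets. -/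
theorem four_dvd_moved [IsSimpleGroup G] (hG : ¬ IsMulCommutative G) {t : G} (ht : t * t = 1)
    (H : Subgroup G) :
    ∃ m : ℕ, H.index = Nat.card {c : G ⧸ H // t • c = c} + 4 * m := by
  classical
  haveI := Fintype.ofFinite (G ⧸ H)
  let ε : G →* ℤˣ := Equiv.Perm.sign.comp (MulAction.toPermHom G (G ⧸ H))
  have hε : ε t = 1 := by
    rcases (inferInstance : ε.ker.Normal).eq_bot_or_eq_top with e | e
    · exfalso
      refine hG ⟨⟨fun a b => ?_⟩⟩
      refine (MonoidHom.ker_eq_bot_iff ε).1 e ?_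
      rw [map_mul, map_mul, mul_comm]
    · rw [← MonoidHom.mem_ker, e]
      exact Subgroup.mem_top t
  set σ : Equiv.Perm (G ⧸ H) := MulAction.toPermHom G (G ⧸ H) t with hσ
  have hfix : Nat.card {c : G ⧸ H // t • c = c} + σ.support.card = H.index := by
    rw [Subgroup.index_eq_card, Nat.card_eq_fintype_card, Nat.card_eq_fintype_card,
      ← Finset.card_univ (α := G ⧸ H), Fintype.card_subtype]
    rw [← Finset.card_union_of_disjoint]
    · congr 1
      ext c
      simp only [Finset.mem_union, Finset.mem_filter, Finset.mem_univ, true_and,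
        Equiv.Perm.mem_support, iff_true]
      exact em (t • c = c)
    · rw [Finset.disjoint_left]
      intro c hc hc'
      rw [Equiv.Perm.mem_support] at hc'
      exact hc' (Finset.mem_filter.1 hc).2
  rcases eq_or_ne σ 1 with h1 | h1
  · exact ⟨0, by rw [← hfix, h1, Equiv.Perm.support_one, Finset.card_empty]⟩
  · have hord : orderOf σ = 2 := orderOf_eq_prime
      (by rw [hσ, ← map_pow, pow_two, ht, map_one]) h1
    obtain ⟨k, hk⟩ := Equiv.Perm.cycleType_prime_order (hord.symm ▸ Nat.prime_two)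
    have hsum := σ.sum_cycleType
    rw [hk, Multiset.sum_replicate, smul_eq_mul, hord] at hsum
    have hs : Equiv.Perm.sign σ = 1 := hε
    rw [Equiv.Perm.sign_of_cycleType, hk, Multiset.sum_replicate, Multiset.card_replicate, hord,
      smul_eq_mul] at hs
    rcases Nat.even_or_odd ((k + 1) * 2 + (k + 1)) with he | ho
    · obtain ⟨r, hr⟩ : Even (k + 1) := (Nat.even_add.1 he).1 ⟨k + 1, by ring⟩
      exact ⟨r, by rw [← hfix, ← hsum, hr]; ring⟩
    · rw [ho.neg_one_pow] at hs
      exact absurd hs (by decide)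

/-- The number of cosets of `H` fixed by `t`. -/
theorem fix_mul_card {t : G} (H : Subgroup G) :
    Nat.card {c : G ⧸ H // t • c = c} * Nat.card H =
      Nat.card (conjIn t H) * Nat.card (centralizer ({t} : Set G)) := by
  classical
  haveI := Fintype.ofFinite G
  have h1 : Nat.card {g : G // g⁻¹ * t * g ∈ H} = Nat.card {c : G ⧸ H // t • c = c} * Nat.card H := by
    rw [← Nat.card_prod]
    have key : ∀ g : G, g⁻¹ * t * g ∈ H ↔ t • (g : G ⧸ H) = g := fun g => by
      rw [show t • (g : G ⧸ H) = ((t * g : G) : G ⧸ H) from rfl, eq_comm, QuotientGroup.eq, mul_assoc]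
    let e : G ≃ (G ⧸ H) × H := Subgroup.groupEquivQuotientProdSubgroup
    have he : ∀ g : G, (e g).1 = (g : G ⧸ H) := fun g => rfl
    refine Nat.card_congr ((Equiv.subtypeEquiv e (q := fun p : (G ⧸ H) × H => t • p.1 = p.1)
      fun g => by rw [he]; exact key g).trans ?_)
    exact
      { toFun := fun p => (⟨p.1.1, p.2⟩, p.1.2)
        invFun := fun p => ⟨(p.1.1, p.2), p.1.2⟩
        left_inv := fun _ => rfl
        right_inv := fun _ => rfl }
  rw [← h1]
  have h2 : ∀ x : conjIn t H, Nat.card {g : G // g⁻¹ * t * g = (x : G)} =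
      Nat.card (centralizer ({t} : Set G)) := by
    rintro ⟨x, -, hx⟩
    obtain ⟨a, ha⟩ := isConj_iff.1 hx
    refine Nat.card_congr
      { toFun := fun g => ⟨(g : G) * a, Subgroup.mem_centralizer_singleton_iff.2 ?_⟩
        invFun := fun c => ⟨(c : G) * a⁻¹, ?_⟩
        left_inv := fun g => Subtype.ext (by simp)
        right_inv := fun c => Subtype.ext (by simp) }
    · have hg : (g : G)⁻¹ * t * g = a * t * a⁻¹ := g.2.trans ha.symm
      calc (g : G) * a * t = g * (a * t * a⁻¹) * a := by group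
        _ = g * ((g : G)⁻¹ * t * g) * a := by rw [hg]
        _ = t * (g * a) := by group
    · have hc := Subgroup.mem_centralizer_singleton_iff.1 c.2
      show ((c : G) * a⁻¹)⁻¹ * t * (c * a⁻¹) = x
      rw [← ha, show ((c : G) * a⁻¹)⁻¹ * t * (c * a⁻¹) = a * ((c : G)⁻¹ * (t * c)) * a⁻¹ by group,
        ← hc]
      group
  have h3 : Nat.card {g : G // g⁻¹ * t * g ∈ H} =
      Nat.card (Σ x : conjIn t H, {g : G // g⁻¹ * t * g = (x : G)}) :=
    Nat.card_congr
      { toFun := fun g => ⟨⟨(g : G)⁻¹ * t * g, g.2, isConj_iff.2 ⟨(g : G)⁻¹, by rw [inv_inv]⟩⟩, g, rfl⟩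
        invFun := fun p => ⟨p.2, by rw [p.2.2]; exact p.1.2.1⟩
        left_inv := fun g => rfl
        right_inv := fun ⟨⟨x, hx⟩, ⟨g, hg⟩⟩ => by
          obtain rfl : g⁻¹ * t * g = x := hg
          rfl }
  rw [h3, Nat.card_sigma, Finset.sum_congr rfl (fun x _ => h2 x), Finset.sum_const, smul_eq_mul,
    Finset.card_univ, ← Nat.card_eq_fintype_card]

/-- A non-abelian simple group has no isolated involution. -/
theorem exists_commuting_conj [IsSimpleGroup G] (hG : ¬ IsMulCommutative G) {t : G}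
    (ht : orderOf t = 2) : ∃ g : G, Commute t (g * t * g⁻¹) ∧ g * t * g⁻¹ ≠ t := by
  by_contra hcon
  push Not at hcon
  have hz := Cfsg.Lib.ZStarApps.zstarProp (z := t) ⟨ht, hcon⟩
  haveI hn : (Cfsg.pPrimeCore 2 G).Normal :=
    Cfsg.Lib.Components.normal_of_mem_sSup_normal fun N hN => hN.1
  have hbot : Cfsg.pPrimeCore 2 G = ⊥ := by
    rcases hn.eq_bot_or_eq_top with e | e
    · exact e
    · exfalso
      have h1 := Cfsg.Lib.ZStarApps.odd_card_pPrimeCore (G := G)
      rw [e, Subgroup.card_top] at h1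
      exact absurd (ht ▸ orderOf_dvd_natCard t) (Nat.two_dvd_ne_zero.2 (Nat.odd_iff.1 h1))
  have hc : t ∈ center G := Subgroup.mem_center_iff.2 fun g => by
    have h1 := hz g
    rw [hbot, Subgroup.mem_bot, mul_inv_eq_one, mul_inv_eq_iff_eq_mul] at h1
    exact h1.symm
  rcases (inferInstance : (center G).Normal).eq_bot_or_eq_top with e | e
  · rw [e, Subgroup.mem_bot] at hc
    rw [hc, orderOf_one] at ht
    omega
  · refine hG ⟨⟨fun a b => ?_⟩⟩
    exact (Subgroup.mem_center_iff.1 (e ▸ Subgroup.mem_top a : a ∈ center G) b).symm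

/-- Thompson transfer in a simple group. -/
theorem no_transfer [IsSimpleGroup G] (hG : ¬ IsMulCommutative G) {t : G} (ht : orderOf t = 2)
    (S : Sylow 2 G) {M : Subgroup G} (hMS : M ≤ (S : Subgroup G))
    (hM : Nat.card (S : Subgroup G) = 2 * Nat.card M) (hno : ∀ g : G, g⁻¹ * t * g ∉ M) : False := by
  haveI : Fact (Nat.Prime 2) := ⟨Nat.prime_two⟩
  have h1 := Subgroup.card_mul_index M
  have h2 := Subgroup.card_mul_index (S : Subgroup G)
  rw [hM] at h2
  have h3 : M.index = 2 * (S : Subgroup G).index := by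
    refine Nat.eq_of_mul_eq_mul_left (Nat.card_pos (α := M)) ?_
    rw [h1, ← h2]
    ring
  obtain ⟨N, -, hN, -⟩ := Cfsg.Lib.Transfer.exists_index_two_not_mem M
    (Nat.odd_iff.2 (Nat.two_dvd_ne_zero.1 S.not_dvd_index)) h3 ht hno
  exact index_ne_two hG N hN

/-- Involutions in the same coset of a subgroup of odd order are conjugate by it. -/
theorem coset_conj {O : Subgroup G} (hO : Odd (Nat.card O)) {x y : G} (hx : x * x = 1)
    (hy : y * y = 1) (h : x * y ∈ O) : ∃ o ∈ O, o * x * o⁻¹ = y := by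
  obtain ⟨k, hk⟩ : Odd (orderOf (x * y)) := by
    refine hO.of_dvd_nat ?_
    exact (Subgroup.orderOf_mk (x * y) h) ▸ orderOf_dvd_natCard (⟨x * y, h⟩ : O)
  refine ⟨((x * y) ^ (k + 1))⁻¹, inv_mem (pow_mem h _), ?_⟩
  have hinv : x * (x * y) * x⁻¹ = (x * y)⁻¹ := by
    rw [inv_eq_of_mul_eq_one_right hx, mul_inv_rev, inv_eq_of_mul_eq_one_right hx,
      inv_eq_of_mul_eq_one_right hy, ← mul_assoc, hx, one_mul]
  have e : x * (x * y) ^ (k + 1) = ((x * y) ^ (k + 1))⁻¹ * x := by
    rw [← inv_pow, ← hinv, conj_pow, inv_mul_cancel_right]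
  rw [inv_inv, ← e, mul_assoc, ← pow_add, show k + 1 + (k + 1) = orderOf (x * y) + 1 by omega,
    pow_succ, pow_orderOf_eq_one, one_mul, ← mul_assoc, hx, one_mul]

/-- A proper subgroup of a finite 2-group is properly contained in its normalizer. -/
theorem exists_normalizing {S Q : Subgroup G} (hS : IsPGroup 2 S) (hQS : Q < S) :
    ∃ g ∈ S, g ∈ normalizer (Q : Set G) ∧ g ∉ Q := by
  haveI : Fact (Nat.Prime 2) := ⟨Nat.prime_two⟩
  haveI := hS.isNilpotent
  have hlt : Q.subgroupOf S < ⊤ := by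
    rw [lt_top_iff_ne_top]
    intro e
    exact hQS.not_ge (Subgroup.subgroupOf_eq_top.1 e)
  obtain ⟨⟨g, hg⟩, hgn, hgQ⟩ := SetLike.exists_of_lt
    (Group.normalizerCondition_of_isNilpotent (Q.subgroupOf S) hlt)
  refine ⟨g, hg, ?_, fun h => hgQ h⟩
  rw [Subgroup.mem_normalizer_iff]
  intro x
  by_cases hxS : x ∈ S
  · exact Subgroup.mem_normalizer_iff.1 hgn ⟨x, hxS⟩
  · refine ⟨fun hx => absurd (hQS.le hx) hxS, fun hx => absurd ?_ hxS⟩
    have := mul_mem (mul_mem (inv_mem hg) (hQS.le hx)) hg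
    simpa [mul_assoc] using this

theorem even_card_of_invol {t : G} (ht : orderOf t = 2) : 2 ∣ Nat.card G :=
  ht ▸ orderOf_dvd_natCard t

end Cfsg.Lib.TwoTimesPSL
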