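/-
An involution whose centralizer has Sylow 2-subgroup `⟨t⟩ × D`, `D` dihedral of order at least 8,
with one class of involutions in `D` under the centralizer: impossible in a simple group.
-/
import Mathlib
import Cfsg.Agent.TwoTimesPSL.Basic

set_option autoImplicit false
set_option linter.unusedSectionVars false
set_option linter.style.haveILetI false

namespace Cfsg.Lib.TwoTimesPSL

open Subgroup MulAction

variable {G : Type*} [Group G] [Finite G]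

/-- Conjugation of 2-subgroups into a Sylow 2-subgroup of a subgroup. -/
theorem conj_into {H R : Subgroup G} (hR : R ≤ H) (hR2 : IsPGroup 2 R)
    (hmax : ∀ Q : Subgroup G, IsPGroup 2 Q → Q ≤ H → Nat.card Q ≤ Nat.card R)
    {Q : Subgroup G} (hQ : IsPGroup 2 Q) (hQH : Q ≤ H) :
    ∃ h ∈ H, ∀ x ∈ Q, h * x * h⁻¹ ∈ R := by
  haveI : Fact (Nat.Prime 2) := ⟨Nat.prime_two⟩
  obtain ⟨P, hP⟩ := (hR2.comap_of_injective H.subtype H.subtype_injective).exists_le_sylow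
  obtain ⟨P', hP'⟩ := (hQ.comap_of_injective H.subtype H.subtype_injective).exists_le_sylow
  have hPR : (P : Subgroup H).map H.subtype = R := by
    refine (Subgroup.eq_of_le_of_card_ge (fun x hx => ?_) ?_).symm
    · exact ⟨⟨x, hR hx⟩, hP hx, rfl⟩
    · exact hmax _ (P.isPGroup'.map H.subtype) (Subgroup.map_subtype_le _)
  obtain ⟨g, hg⟩ := MulAction.exists_smul_eq H P' P
  refine ⟨g, g.2, fun x hx => ?_⟩
  rw [← hPR]
  have h1 : g * ⟨x, hQH hx⟩ * g⁻¹ ∈ ((g • P' : Sylow 2 H) : Subgroup H) := by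
    rw [Cfsg.Lib.Transfer.sylow_smul_coe, Cfsg.Lib.Transfer.mem_map_conj]
    simp only [mul_assoc, inv_mul_cancel, mul_one, inv_mul_cancel_left]
    exact hP' hx
  rw [hg] at h1
  exact ⟨_, h1, rfl⟩

/-- The situation. -/
structure DihFrame (G : Type*) [Group G] where
  t : G
  c : G
  s : G
  n : ℕ
  two_le : 2 ≤ n
  ht : orderOf t = 2
  hc : orderOf c = 2 ^ n
  hs : s * s = 1
  hinv : s * c * s⁻¹ = c⁻¹
  hsc : s ∉ zpowers c
  htc : Commute t c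
  hts : Commute t s
  htD : ∀ i : ℤ, t ≠ c ^ i ∧ t ≠ c ^ i * s
  conjD : ∀ x y : G, (x ∈ zpowers c ∨ ∃ i : ℤ, x = c ^ i * s) →
    (y ∈ zpowers c ∨ ∃ i : ℤ, y = c ^ i * s) → orderOf x = 2 → orderOf y = 2 →
    ∃ g : G, Commute g t ∧ g * x * g⁻¹ = y
  sylC : ∀ Q : Subgroup G, IsPGroup 2 Q → (∀ x ∈ Q, Commute x t) →
    ∃ g : G, Commute g t ∧ ∀ x ∈ Q, ∃ a : G, (a = 1 ∨ a = t) ∧ ∃ i : ℤ,
      g * x * g⁻¹ = a * c ^ i ∨ g * x * g⁻¹ = a * (c ^ i * s)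

namespace DihFrame

variable (Δ : DihFrame G)

theorem tt : Δ.t * Δ.t = 1 := by rw [← pow_two, ← Δ.ht, pow_orderOf_eq_one]

theorem t_inv : Δ.t⁻¹ = Δ.t := inv_eq_of_mul_eq_one_right Δ.tt

theorem s_inv : Δ.s⁻¹ = Δ.s := inv_eq_of_mul_eq_one_right Δ.hs

theorem conj_zpow' (i : ℤ) : Δ.s * Δ.c ^ i = Δ.c ^ (-i) * Δ.s := by
  rw [zpow_neg, ← inv_zpow, ← Δ.hinv, conj_zpow]
  group

/-- The rotation or reflection part. -/
def InD (x : G) : Prop := x ∈ zpowers Δ.c ∨ ∃ i : ℤ, x = Δ.c ^ i * Δ.s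

theorem InD.commute_t {x : G} (h : Δ.InD x) : Commute Δ.t x := by
  rcases h with ⟨i, rfl⟩ | ⟨i, rfl⟩
  · exact Δ.htc.zpow_right i
  · exact (Δ.htc.zpow_right i).mul_right Δ.hts

/-- `⟨t⟩ × D`. -/
def R : Subgroup G where
  carrier := {x | ∃ a : G, (a = 1 ∨ a = Δ.t) ∧ ∃ i : ℤ, x = a * Δ.c ^ i ∨ x = a * (Δ.c ^ i * Δ.s)}
  one_mem' := ⟨1, Or.inl rfl, 0, Or.inl (by simp)⟩
  mul_mem' := by
    rintro x y ⟨a, ha, i, hx⟩ ⟨b, hb, j, hy⟩
    have hab : a * b = 1 ∨ a * b = Δ.t := by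
      rcases ha with rfl | rfl <;> rcases hb with rfl | rfl <;> simp [Δ.tt]
    have hcb : Commute (Δ.c ^ i) b := by
      rcases hb with rfl | rfl
      · exact Commute.one_right _
      · exact (Δ.htc.zpow_right i).symm
    have hsb : Commute Δ.s b := by
      rcases hb with rfl | rfl
      · exact Commute.one_right _
      · exact Δ.hts.symm
    refine ⟨a * b, hab, ?_⟩
    rcases hx with rfl | rfl <;> rcases hy with rfl | rfl
    · exact ⟨i + j, Or.inl (by rw [hcb.mul_mul_mul_comm, zpow_add])⟩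
    · exact ⟨i + j, Or.inr (by rw [hcb.mul_mul_mul_comm, zpow_add, mul_assoc (Δ.c ^ i)])⟩
    · exact ⟨i + -j, Or.inr (by
        rw [(hcb.mul_left hsb).mul_mul_mul_comm, zpow_add, mul_assoc (Δ.c ^ i) Δ.s, Δ.conj_zpow',
          mul_assoc (Δ.c ^ i)])⟩
    · exact ⟨i + -j, Or.inl (by
        rw [(hcb.mul_left hsb).mul_mul_mul_comm, zpow_add, mul_assoc (Δ.c ^ i) Δ.s,
          ← mul_assoc Δ.s, Δ.conj_zpow', mul_assoc (Δ.c ^ (-j)), Δ.hs, mul_one])⟩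
  inv_mem' := by
    rintro x ⟨a, ha, i, hx⟩
    have hai : a⁻¹ = a := by rcases ha with rfl | rfl <;> simp [Δ.t_inv]
    refine ⟨a, ha, ?_⟩
    rcases hx with rfl | rfl
    · refine ⟨-i, Or.inl ?_⟩
      rw [mul_inv_rev, hai, zpow_neg]
      rcases ha with rfl | rfl
      · simp
      · exact ((Δ.htc.zpow_right i).inv_right).symm.eq
    · refine ⟨i, Or.inr ?_⟩
      rw [mul_inv_rev, hai, mul_inv_rev, Δ.s_inv, ← zpow_neg, Δ.conj_zpow', neg_neg]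
      rcases ha with rfl | rfl
      · simp
      · exact ((Δ.htc.zpow_right i).mul_right Δ.hts).symm.eq

/-- The central involution of `D`. -/
def z : G := Δ.c ^ 2 ^ (Δ.n - 1)

theorem z_order : orderOf Δ.z = 2 := by
  rw [z, orderOf_pow' _ (by positivity), Δ.hc, Nat.gcd_eq_right (pow_dvd_pow 2 (Nat.sub_le _ 1)),
    Nat.pow_div (Nat.sub_le _ 1) two_pos, show Δ.n - (Δ.n - 1) = 1 by have := Δ.two_le; omega, pow_one]

theorem z_InD : Δ.InD Δ.z := Or.inl ⟨(2 ^ (Δ.n - 1) : ℕ), zpow_natCast _ _⟩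

theorem z_zpow : Δ.z = Δ.c ^ ((2 ^ (Δ.n - 1) : ℕ) : ℤ) := by rw [z, zpow_natCast]

theorem zpow_eq_one_iff (i : ℤ) : Δ.c ^ i = 1 ↔ (2 : ℤ) ^ Δ.n ∣ i := by
  rw [← orderOf_dvd_iff_zpow_eq_one, Δ.hc, Nat.cast_pow, Nat.cast_ofNat]

theorem two_pow_split : (2 : ℤ) ^ Δ.n = 2 * (2 : ℤ) ^ (Δ.n - 1) := by
  rw [← pow_succ', show Δ.n - 1 + 1 = Δ.n by have := Δ.two_le; omega]

/-- Twice-trivial rotations. -/
theorem zpow_sq_cases (i : ℤ) (h : Δ.c ^ (i + i) = 1) : Δ.c ^ i = 1 ∨ Δ.c ^ i = Δ.z := by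
  rw [Δ.zpow_eq_one_iff, Δ.two_pow_split, ← two_mul] at h
  obtain ⟨r, rfl⟩ := Int.dvd_of_mul_dvd_mul_left (by norm_num) h
  have hz2 : Δ.z ^ (2 : ℕ) = 1 := by
    have := pow_orderOf_eq_one Δ.z
    rwa [Δ.z_order] at this
  rw [show (2 : ℤ) ^ (Δ.n - 1) = ((2 ^ (Δ.n - 1) : ℕ) : ℤ) by push_cast; rfl, zpow_mul,
    ← Δ.z_zpow]
  rcases Int.even_or_odd r with ⟨q, rfl⟩ | ⟨q, rfl⟩
  · left
    rw [← two_mul, zpow_mul, show Δ.z ^ (2 : ℤ) = 1 by rw [show (2 : ℤ) = ((2 : ℕ) : ℤ) from rfl,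
      zpow_natCast, hz2], one_zpow]
  · right
    rw [zpow_add, zpow_mul, show Δ.z ^ (2 : ℤ) = 1 by rw [show (2 : ℤ) = ((2 : ℕ) : ℤ) from rfl,
      zpow_natCast, hz2], one_zpow, one_mul, zpow_one]

theorem refl_sq (i : ℤ) : Δ.c ^ i * Δ.s * (Δ.c ^ i * Δ.s) = 1 := by
  rw [mul_assoc, ← mul_assoc Δ.s, Δ.conj_zpow', mul_assoc, Δ.hs, mul_one, ← zpow_add,
    add_neg_cancel, zpow_zero]

theorem refl_ne (i j : ℤ) : Δ.c ^ i * Δ.s ≠ Δ.c ^ j := fun e =>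
  Δ.hsc ⟨-i + j, by
    show Δ.c ^ (-i + j) = Δ.s
    rw [zpow_add, ← e, zpow_neg, inv_mul_cancel_left]⟩

theorem refl_order (i : ℤ) : orderOf (Δ.c ^ i * Δ.s) = 2 :=
  orderOf_eq_prime (by rw [pow_two, Δ.refl_sq]) fun e => Δ.refl_ne i 0 (by rw [e, zpow_zero])

theorem z_comm_c (i : ℤ) : Commute Δ.z (Δ.c ^ i) :=
  ((Commute.refl Δ.c).pow_left _).zpow_right i

theorem zz : Δ.z * Δ.z = 1 := by
  have := pow_orderOf_eq_one Δ.z
  rwa [Δ.z_order, pow_two] at this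

theorem z_comm_s : Commute Δ.z Δ.s := by
  have h := Δ.conj_zpow' ((2 ^ (Δ.n - 1) : ℕ) : ℤ)
  rw [zpow_neg, ← Δ.z_zpow, inv_eq_of_mul_eq_one_right Δ.zz] at h
  exact h.symm

theorem mem_R {x : G} (a : G) (ha : a = 1 ∨ a = Δ.t) (d : G) (hd : Δ.InD d) (hx : x = a * d) :
    x ∈ Δ.R := by
  rcases hd with ⟨i, rfl⟩ | ⟨i, rfl⟩
  · exact ⟨a, ha, i, Or.inl hx⟩
  · exact ⟨a, ha, i, Or.inr hx⟩

theorem R_cases {x : G} (hx : x ∈ Δ.R) :
    ∃ a : G, (a = 1 ∨ a = Δ.t) ∧ ∃ d : G, Δ.InD d ∧ x = a * d := by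
  obtain ⟨a, ha, i, h | h⟩ := hx
  · exact ⟨a, ha, _, Or.inl ⟨i, rfl⟩, h⟩
  · exact ⟨a, ha, _, Or.inr ⟨i, rfl⟩, h⟩

theorem InD.mem_R {d : G} (h : Δ.InD d) : d ∈ Δ.R :=
  Δ.mem_R 1 (Or.inl rfl) d h (one_mul d).symm

theorem t_mem : Δ.t ∈ Δ.R := Δ.mem_R Δ.t (Or.inr rfl) 1 (Or.inl (one_mem _)) (mul_one _).symm

theorem z_mem : Δ.z ∈ Δ.R := Δ.z_InD.mem_R

theorem R_commute_t {x : G} (hx : x ∈ Δ.R) : Commute x Δ.t := by
  obtain ⟨a, ha, d, hd, rfl⟩ := Δ.R_cases hx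
  rcases ha with rfl | rfl
  · rw [one_mul]; exact hd.commute_t.symm
  · exact (Commute.refl _).mul_left hd.commute_t.symm

theorem R_commute_z {x : G} (hx : x ∈ Δ.R) : Commute x Δ.z := by
  have hzt : Commute Δ.t Δ.z := Δ.z_InD.commute_t
  obtain ⟨a, ha, d, hd, rfl⟩ := Δ.R_cases hx
  have h1 : Commute a Δ.z := by
    rcases ha with rfl | rfl
    · exact Commute.one_left _
    · exact hzt
  refine h1.mul_left ?_
  rcases hd with ⟨i, rfl⟩ | ⟨i, rfl⟩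
  · exact (Δ.z_comm_c i).symm
  · exact ((Δ.z_comm_c i).symm).mul_left Δ.z_comm_s.symm

/-- The decomposition is unique. -/
theorem split_eq {a b d e : G} (ha : a = 1 ∨ a = Δ.t) (hb : b = 1 ∨ b = Δ.t) (hd : Δ.InD d)
    (he : Δ.InD e) (h : a * d = b * e) : a = b ∧ d = e := by
  have key : ∀ u v : G, Δ.InD u → Δ.InD v → Δ.t * u ≠ v := by
    intro u v hu hv e
    have ht2 : Δ.t = v * u⁻¹ := by rw [← e, mul_inv_cancel_right]
    rcases hu with ⟨i, rfl⟩ | ⟨i, rfl⟩ <;> rcases hv with ⟨j, rfl⟩ | ⟨j, rfl⟩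
    · exact (Δ.htD (j - i)).1 (by rw [ht2, zpow_sub])
    · exact (Δ.htD (j + i)).2 (by
        rw [ht2, ← zpow_neg, mul_assoc, Δ.conj_zpow', neg_neg, ← mul_assoc, ← zpow_add])
    · exact (Δ.htD (j + i)).2 (by
        rw [ht2, mul_inv_rev, Δ.s_inv, ← zpow_neg, Δ.conj_zpow', neg_neg, ← mul_assoc, ← zpow_add])
    · exact (Δ.htD (j - i)).1 (by
        rw [ht2, mul_inv_rev, Δ.s_inv, mul_assoc, ← mul_assoc Δ.s Δ.s, Δ.hs, one_mul, zpow_sub])
  rcases ha with rfl | rfl <;> rcases hb with rfl | rfl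
  · exact ⟨rfl, by rwa [one_mul, one_mul] at h⟩
  · rw [one_mul] at h
    exact absurd h.symm (key e d he hd)
  · rw [one_mul] at h
    exact absurd h (key d e hd he)
  · exact ⟨rfl, mul_left_cancel h⟩

theorem R_card : Nat.card Δ.R = 2 ^ (Δ.n + 2) := by
  classical
  have e : Nat.card Δ.R = Nat.card ((Bool × Bool) × zpowers Δ.c) := by
    let f : (Bool × Bool) × zpowers Δ.c → Δ.R := fun p =>
      ⟨(cond p.1.1 Δ.t 1) * (p.2 * (cond p.1.2 Δ.s 1)), by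
        obtain ⟨⟨b, b'⟩, ⟨x, i, rfl⟩⟩ := p
        refine Δ.mem_R _ (by cases b <;> simp) _ ?_ rfl
        cases b'
        · exact Or.inl ⟨i, by simp⟩
        · exact Or.inr ⟨i, by simp⟩⟩
    refine (Nat.card_congr (Equiv.ofBijective f ⟨?_, ?_⟩)).symm
    · rintro ⟨⟨b, b'⟩, ⟨x, i, rfl⟩⟩ ⟨⟨d, d'⟩, ⟨y, j, rfl⟩⟩ h
      have h' : (cond b Δ.t 1) * (Δ.c ^ i * (cond b' Δ.s 1))
          = (cond d Δ.t 1) * (Δ.c ^ j * (cond d' Δ.s 1)) := congrArg Subtype.val h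
      obtain ⟨h1, h2⟩ := Δ.split_eq (by cases b <;> simp) (by cases d <;> simp)
        (by cases b'
            · exact Or.inl ⟨i, by simp⟩
            · exact Or.inr ⟨i, by simp⟩)
        (by cases d'
            · exact Or.inl ⟨j, by simp⟩
            · exact Or.inr ⟨j, by simp⟩) h'
      have hbd : b = d := by
        cases b <;> cases d <;> simp at h1 ⊢
        · exact (Δ.htD 0).1 (by rw [zpow_zero, ← h1])
        · exact (Δ.htD 0).1 (by rw [zpow_zero, h1])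
      have hbd' : b' = d' := by
        cases b' <;> cases d' <;> simp at h2 ⊢
        · exact Δ.refl_ne _ _ h2.symm
        · exact Δ.refl_ne _ _ h2
      subst hbd hbd'
      exact Prod.ext rfl (Subtype.ext (mul_right_cancel h2))
    · rintro ⟨x, a, ha, i, hx⟩
      rcases hx with rfl | rfl <;> rcases ha with rfl | rfl
      · exact ⟨⟨(false, false), ⟨_, i, rfl⟩⟩, Subtype.ext (by simp [f])⟩
      · exact ⟨⟨(true, false), ⟨_, i, rfl⟩⟩, Subtype.ext (by simp [f])⟩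
      · exact ⟨⟨(false, true), ⟨_, i, rfl⟩⟩, Subtype.ext (by simp [f])⟩
      · exact ⟨⟨(true, true), ⟨_, i, rfl⟩⟩, Subtype.ext (by simp [f])⟩
  rw [e, Nat.card_prod, Nat.card_prod, Nat.card_zpowers, Δ.hc, Nat.card_eq_fintype_card,
    Fintype.card_bool, pow_add]
  ring

theorem R_two : IsPGroup 2 Δ.R := IsPGroup.of_card Δ.R_card

theorem R_max (Q : Subgroup G) (hQ : IsPGroup 2 Q) (hQt : ∀ x ∈ Q, Commute x Δ.t) :
    Nat.card Q ≤ Nat.card Δ.R := by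
  obtain ⟨g, -, hg⟩ := Δ.sylC Q hQ hQt
  refine Nat.card_le_card_of_injective (fun x => (⟨g * x * g⁻¹, hg x x.2⟩ : Δ.R)) fun x y e => ?_
  exact Subtype.ext (mul_left_cancel (mul_right_cancel (congrArg Subtype.val e :)))

/-- Involutions of `R`. -/
theorem R_invol {x : G} (hx : x ∈ Δ.R) (h2 : x * x = 1) (h1 : x ≠ 1) :
    x = Δ.t ∨ ∃ d, Δ.InD d ∧ orderOf d = 2 ∧ (x = d ∨ x = Δ.t * d) := by
  obtain ⟨a, ha, d, hd, rfl⟩ := Δ.R_cases hx
  have hd2 : d * d = 1 := by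
    have hc : Commute a d := by
      rcases ha with rfl | rfl
      · exact Commute.one_left _
      · exact hd.commute_t
    rw [hc.symm.mul_mul_mul_comm, show a * a = 1 by rcases ha with rfl | rfl <;> simp [Δ.tt],
      one_mul] at h2
    exact h2
  by_cases hd1 : d = 1
  · subst hd1
    rcases ha with rfl | rfl
    · exact absurd (mul_one _) h1
    · exact Or.inl (mul_one _)
  · refine Or.inr ⟨d, hd, orderOf_eq_prime (by rw [pow_two, hd2]) hd1, ?_⟩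
    rcases ha with rfl | rfl
    · exact Or.inl (one_mul d)
    · exact Or.inr rfl

theorem InD_invol {d : G} (hd : Δ.InD d) (ho : orderOf d = 2) :
    d = Δ.z ∨ ∃ i : ℤ, d = Δ.c ^ i * Δ.s := by
  rcases hd with ⟨i, rfl⟩ | h
  · left
    have h2 : Δ.c ^ (i + i) = 1 := by
      rw [zpow_add, ← pow_two, ← ho, pow_orderOf_eq_one]
    rcases Δ.zpow_sq_cases i h2 with e | e
    · have ho' : orderOf (Δ.c ^ i) = 2 := ho
      rw [e, orderOf_one] at ho'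
      omega
    · exact e
  · exact Or.inr h

/-- A square in `R` which is an involution is `z`. -/
theorem sq_eq_z {x : G} (hx : x ∈ Δ.R) (h : orderOf (x * x) = 2) : x * x = Δ.z := by
  obtain ⟨a, ha, d, hd, rfl⟩ := Δ.R_cases hx
  have hc : Commute a d := by
    rcases ha with rfl | rfl
    · exact Commute.one_left _
    · exact hd.commute_t
  have e : a * d * (a * d) = d * d := by
    rw [hc.symm.mul_mul_mul_comm, show a * a = 1 by rcases ha with rfl | rfl <;> simp [Δ.tt], one_mul]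
  rw [e] at h ⊢
  rcases hd with ⟨i, rfl⟩ | ⟨i, rfl⟩
  · have h' : orderOf (Δ.c ^ (i + i)) = 2 := by rw [zpow_add]; exact h
    rcases Δ.InD_invol (Or.inl ⟨i + i, rfl⟩) h' with h2 | ⟨j, hj⟩
    · show Δ.c ^ i * Δ.c ^ i = Δ.z
      rw [← zpow_add]; exact h2
    · exact absurd hj.symm (Δ.refl_ne j (i + i))
  · rw [Δ.refl_sq, orderOf_one] at h
    omega

end DihFrame

end Cfsg.Lib.TwoTimesPSL
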