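/-
The dihedral case: a Sylow 2-subgroup would have order `2 |R|` and also contain an elementary group
of order 8 with too large a normalizer.
-/
import Mathlib
import Cfsg.Agent.TwoTimesPSL.Dihedral

set_option autoImplicit false
set_option linter.unusedSectionVars false
set_option linter.style.haveILetI false

namespace Cfsg.Lib.TwoTimesPSL

open Subgroup MulAction

variable {G : Type*} [Group G] [Finite G]

theorem isConj_conj {a b : G} (g : G) (h : g * a * g⁻¹ = b) (x : G) : IsConj x a ↔ IsConj x b := by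
  have hab : IsConj a b := isConj_iff.2 ⟨g, h⟩
  exact ⟨fun h1 => h1.trans hab, fun h1 => h1.trans hab.symm⟩

namespace DihFrame

variable (Δ : DihFrame G)

theorem cent_t_eq {g : G} (hg : Commute g Δ.t) : g * Δ.t * g⁻¹ = Δ.t := by
  rw [hg.eq, mul_inv_cancel_right]

theorem D_conj_iff {x : G} (hxD : Δ.InD x) (hx : orderOf x = 2) :
    (IsConj Δ.t x ↔ IsConj Δ.t Δ.z) ∧ (IsConj Δ.t (Δ.t * x) ↔ IsConj Δ.t (Δ.t * Δ.z)) := by
  obtain ⟨g, hg, hgx⟩ := Δ.conjD x Δ.z hxD Δ.z_InD hx Δ.z_order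
  refine ⟨isConj_conj g hgx _, isConj_conj g ?_ _⟩
  rw [show g * (Δ.t * x) * g⁻¹ = (g * Δ.t * g⁻¹) * (g * x * g⁻¹) by group, hgx, Δ.cent_t_eq hg]

/-- The involutions of `D`. -/
abbrev InvD : Set G := {x | Δ.InD x ∧ orderOf x = 2}

theorem InvD_card : Nat.card Δ.InvD = 2 ^ Δ.n + 1 := by
  have e : Δ.InvD = insert Δ.z ((fun x => x * Δ.s) '' (zpowers Δ.c : Set G)) := by
    ext x
    constructor
    · rintro ⟨hx, ho⟩
      rcases Δ.InD_invol hx ho with rfl | ⟨i, rfl⟩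
      · exact Set.mem_insert _ _
      · exact Set.mem_insert_of_mem _ ⟨_, ⟨i, rfl⟩, rfl⟩
    · rintro (rfl | ⟨_, ⟨i, rfl⟩, rfl⟩)
      · exact ⟨Δ.z_InD, Δ.z_order⟩
      · exact ⟨Or.inr ⟨i, rfl⟩, Δ.refl_order i⟩
  rw [e, Nat.card_coe_set_eq, Set.ncard_insert_of_notMem, Set.ncard_image_of_injective,
    ← Nat.card_coe_set_eq]
  · congr 1
    exact (Nat.card_zpowers Δ.c).trans Δ.hc
  · exact fun a b h => mul_right_cancel h
  · rintro ⟨_, ⟨i, rfl⟩, h⟩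
    exact Δ.refl_ne i ((2 ^ (Δ.n - 1) : ℕ) : ℤ) (h.trans Δ.z_zpow)

theorem conjIn_eq :
    conjIn Δ.t Δ.R = {x | x = Δ.t ∨ (IsConj Δ.t Δ.z ∧ x ∈ Δ.InvD) ∨
      (IsConj Δ.t (Δ.t * Δ.z) ∧ x ∈ (fun d => Δ.t * d) '' Δ.InvD)} := by
  ext x
  constructor
  · rintro ⟨hxR, hx⟩
    obtain ⟨g, hg⟩ := isConj_iff.1 hx
    have hx2 : x * x = 1 := by
      rw [← hg, show g * Δ.t * g⁻¹ * (g * Δ.t * g⁻¹) = g * (Δ.t * Δ.t) * g⁻¹ by group, Δ.tt]
      group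
    have hx1 : x ≠ 1 := fun e => by
      rw [e] at hx
      have := Δ.ht
      rw [isConj_one_left.1 hx, orderOf_one] at this
      omega
    rcases Δ.R_invol hxR hx2 hx1 with rfl | ⟨d, hd, hdo, rfl | rfl⟩
    · exact Or.inl rfl
    · exact Or.inr (Or.inl ⟨(Δ.D_conj_iff hd hdo).1.1 hx, hd, hdo⟩)
    · exact Or.inr (Or.inr ⟨(Δ.D_conj_iff hd hdo).2.1 hx, d, ⟨hd, hdo⟩, rfl⟩)
  · rintro (rfl | ⟨h, hxD, hxo⟩ | ⟨h, d, ⟨hd, hdo⟩, rfl⟩)
    · exact ⟨Δ.t_mem, IsConj.refl _⟩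
    · exact ⟨hxD.mem_R, (Δ.D_conj_iff hxD hxo).1.2 h⟩
    · exact ⟨mul_mem Δ.t_mem hd.mem_R, (Δ.D_conj_iff hd hdo).2.2 h⟩

open Classical in
theorem conjIn_card :
    Nat.card (conjIn Δ.t Δ.R) = 1 + (if IsConj Δ.t Δ.z then 2 ^ Δ.n + 1 else 0)
      + (if IsConj Δ.t (Δ.t * Δ.z) then 2 ^ Δ.n + 1 else 0) := by
  have h1 : Δ.t ∉ Δ.InvD := fun h => by
    obtain ⟨-, h2⟩ := Δ.split_eq (Or.inr rfl) (Or.inl rfl) (Or.inl (one_mem _)) h.1
      (show Δ.t * 1 = 1 * Δ.t by rw [mul_one, one_mul])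
    have := Δ.ht
    rw [← h2, orderOf_one] at this
    omega
  have h2 : Δ.t ∉ (fun d => Δ.t * d) '' Δ.InvD := by
    rintro ⟨d, hd, e⟩
    have e' : d = 1 := mul_left_cancel (a := Δ.t) (by rw [mul_one]; exact e)
    have := hd.2
    rw [e', orderOf_one] at this
    omega
  have h3 : Disjoint Δ.InvD ((fun d => Δ.t * d) '' Δ.InvD) := by
    rw [Set.disjoint_left]
    rintro x hx ⟨d, hd, rfl⟩
    obtain ⟨e, -⟩ := Δ.split_eq (Or.inl rfl) (Or.inr rfl) hx.1 hd.1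
      (show 1 * (Δ.t * d) = Δ.t * d by rw [one_mul])
    have := Δ.ht
    rw [← e, orderOf_one] at this
    omega
  have hA := Δ.InvD_card
  have hB : ((fun d => Δ.t * d) '' Δ.InvD).ncard = 2 ^ Δ.n + 1 := by
    rw [Set.ncard_image_of_injective _ fun a b h => mul_left_cancel h, ← Nat.card_coe_set_eq, hA]
  rw [Nat.card_coe_set_eq] at hA
  rw [Δ.conjIn_eq, Nat.card_coe_set_eq]
  by_cases p1 : IsConj Δ.t Δ.z <;> by_cases p2 : IsConj Δ.t (Δ.t * Δ.z) <;>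
    simp only [p1, p2, true_and, false_and, or_false, false_or, if_true, if_false, Nat.add_zero]
  · rw [show {x | x = Δ.t ∨ x ∈ Δ.InvD ∨ x ∈ (fun d => Δ.t * d) '' Δ.InvD}
        = insert Δ.t (Δ.InvD ∪ (fun d => Δ.t * d) '' Δ.InvD) from rfl,
      Set.ncard_insert_of_notMem (fun h => h.elim h1 h2), Set.ncard_union_eq h3, hA, hB]
    ring
  · rw [show {x | x = Δ.t ∨ x ∈ Δ.InvD} = insert Δ.t Δ.InvD from rfl,
      Set.ncard_insert_of_notMem h1, hA]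
    ring
  · rw [show {x | x = Δ.t ∨ x ∈ (fun d => Δ.t * d) '' Δ.InvD}
        = insert Δ.t ((fun d => Δ.t * d) '' Δ.InvD) from rfl,
      Set.ncard_insert_of_notMem h2, hB]
    ring
  · rw [show {x | x = Δ.t} = {Δ.t} from rfl, Set.ncard_singleton]

theorem cent_card_eq : ∃ m : ℕ, Odd m ∧ Nat.card (centralizer ({Δ.t} : Set G)) = Nat.card Δ.R * m := by
  haveI : Fact (Nat.Prime 2) := ⟨Nat.prime_two⟩
  set C := centralizer ({Δ.t} : Set G) with hC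
  have hle : Δ.R ≤ C := fun x hx => Subgroup.mem_centralizer_singleton_iff.2 (Δ.R_commute_t hx).eq
  obtain ⟨P, hP⟩ := (Δ.R_two.comap_of_injective C.subtype C.subtype_injective).exists_le_sylow
  have hPc : Nat.card (P : Subgroup C) = Nat.card Δ.R := by
    refine le_antisymm ?_ ?_
    · rw [← Subgroup.card_map_of_injective C.subtype_injective]
      refine Δ.R_max _ (P.isPGroup'.map C.subtype) ?_
      rintro _ ⟨y, -, rfl⟩
      exact Subgroup.mem_centralizer_singleton_iff.1 y.2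
    · rw [← Nat.card_congr (subgroupOfEquivOfLe hle).toEquiv]
      exact Nat.le_of_dvd Nat.card_pos (Subgroup.card_dvd_of_le hP)
  refine ⟨(P : Subgroup C).index, ?_, ?_⟩
  · exact Nat.odd_iff.2 (Nat.two_dvd_ne_zero.1 P.not_dvd_index)
  · rw [← hPc, Subgroup.card_mul_index]

theorem R_center {x : G} (hx : x ∈ Δ.R) (hc : Commute x Δ.c) (hs : Commute x Δ.s) (h2 : x * x = 1) :
    x = 1 ∨ x = Δ.t ∨ x = Δ.z ∨ x = Δ.t * Δ.z := by
  by_cases h1 : x = 1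
  · exact Or.inl h1
  rcases Δ.R_invol hx h2 h1 with rfl | ⟨d, hd, hdo, hxd⟩
  · exact Or.inr (Or.inl rfl)
  have hdc : Commute d Δ.c := by
    rcases hxd with rfl | rfl
    · exact hc
    · have := Δ.htc.mul_left (Commute.refl Δ.c) 
      have h3 : Commute (Δ.t⁻¹ * (Δ.t * d)) Δ.c := Δ.htc.inv_left.mul_left hc
      rwa [inv_mul_cancel_left] at h3
  rcases Δ.InD_invol hd hdo with rfl | ⟨i, rfl⟩
  · rcases hxd with rfl | rfl
    · exact Or.inr (Or.inr (Or.inl rfl))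
    · exact Or.inr (Or.inr (Or.inr rfl))
  · exfalso
    have h3 : Δ.c ^ i * Δ.s * Δ.c = Δ.c * (Δ.c ^ i * Δ.s) := hdc.eq
    have h4 := Δ.conj_zpow' 1
    rw [zpow_one] at h4
    rw [mul_assoc, h4, ← mul_assoc, ← mul_assoc, ← zpow_one_add, ← zpow_add, mul_left_inj] at h3
    have h5 : Δ.c ^ (2 : ℤ) = 1 := by
      have h6 : Δ.c ^ (1 + i - (i + -1)) = 1 := by rw [zpow_sub, ← h3, mul_inv_cancel]
      rwa [show 1 + i - (i + -1) = (2 : ℤ) by ring] at h6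
    rw [Δ.zpow_eq_one_iff] at h5
    have h6 := Int.le_of_dvd (by norm_num) h5
    have h7 : (2 : ℤ) ^ 2 ≤ 2 ^ Δ.n := pow_le_pow_right₀ (by norm_num) Δ.two_le
    omega

theorem t_ne_z : Δ.t ≠ Δ.z := fun e =>
  (Δ.htD ((2 ^ (Δ.n - 1) : ℕ) : ℤ)).1 (by rw [← Δ.z_zpow]; exact e)

/-- The possible fusion: `|S| = 2|R|`, and `t ~ t z` while `z` is not a conjugate of `t`. -/
theorem sylow_facts [IsSimpleGroup G] (hG : ¬ IsMulCommutative G) :
    ∃ (S : Sylow 2 G) (w : G), Δ.R ≤ (S : Subgroup G) ∧ Nat.card (S : Subgroup G) = 2 * Nat.card Δ.R ∧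
      w ∈ (S : Subgroup G) ∧ w * Δ.t * w⁻¹ = Δ.t * Δ.z ∧ w * Δ.z * w⁻¹ = Δ.z ∧
      (∀ x, w * x * w⁻¹ ∈ Δ.R ↔ x ∈ Δ.R) ∧
      IsConj Δ.t (Δ.t * Δ.z) ∧ ¬ IsConj Δ.t Δ.z ∧
      (∀ x ∈ (S : Subgroup G), Commute x Δ.t → x ∈ Δ.R) := by
  classical
  haveI : Fact (Nat.Prime 2) := ⟨Nat.prime_two⟩
  obtain ⟨S, hS⟩ := Δ.R_two.exists_le_sylow
  obtain ⟨m, hm, hCm⟩ := Δ.cent_card_eq
  obtain ⟨k, hk⟩ := four_dvd_moved hG Δ.tt Δ.R
  have hfix := fix_mul_card (t := Δ.t) Δ.R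
  rw [hCm, ← mul_assoc, mul_comm (Nat.card (conjIn Δ.t Δ.R)) (Nat.card Δ.R), mul_assoc,
    mul_comm (Nat.card {c : G ⧸ Δ.R // Δ.t • c = c})] at hfix
  have hf : Nat.card {c : G ⧸ Δ.R // Δ.t • c = c} = Nat.card (conjIn Δ.t Δ.R) * m :=
    Nat.eq_of_mul_eq_mul_left Nat.card_pos hfix
  rw [hf, Δ.conjIn_card] at hk
  obtain ⟨e, he⟩ : ∃ e, Nat.card (S : Subgroup G) = Nat.card Δ.R * 2 ^ e := by
    obtain ⟨a, ha⟩ := IsPGroup.iff_card.1 S.isPGroup'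
    have hd := Subgroup.card_dvd_of_le hS
    rw [Δ.R_card, ha, Nat.pow_dvd_pow_iff_le_right one_lt_two] at hd
    exact ⟨a - (Δ.n + 2), by rw [Δ.R_card, ha, ← pow_add]; congr 1; omega⟩
  obtain ⟨o, ho, hidx⟩ : ∃ o, Odd o ∧ Δ.R.index = 2 ^ e * o := by
    refine ⟨(S : Subgroup G).index, Nat.odd_iff.2 (Nat.two_dvd_ne_zero.1 S.not_dvd_index), ?_⟩
    refine Nat.eq_of_mul_eq_mul_left (Nat.card_pos (α := Δ.R)) ?_
    rw [Subgroup.card_mul_index, ← mul_assoc, ← he, Subgroup.card_mul_index]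
  rw [hidx] at hk
  obtain ⟨m', rfl⟩ := hm
  obtain ⟨o', rfl⟩ := ho
  have hq : ∃ r, 2 ^ Δ.n = 4 * r := ⟨2 ^ (Δ.n - 2), by
    rw [show (4 : ℕ) = 2 ^ 2 from rfl, ← pow_add]; congr 1; have := Δ.two_le; omega⟩
  obtain ⟨r, hr⟩ := hq
  rw [hr] at hk
  -- both or none is impossible
  have hone : ¬ (¬ IsConj Δ.t Δ.z ∧ ¬ IsConj Δ.t (Δ.t * Δ.z)) := by
    rintro ⟨p1, p2⟩
    obtain ⟨g, hg, hne⟩ := exists_commuting_conj hG Δ.ht
    set y := g * Δ.t * g⁻¹ with hy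
    have hy2 : orderOf y = 2 := ((MulAut.conj g).orderOf_eq Δ.t).trans Δ.ht
    obtain ⟨h, hh, hh'⟩ := Δ.sylC (zpowers y) (IsTwoEl.isPGroup (isTwoEl_of_orderOf_two hy2))
      fun x hx => by
        obtain ⟨i, rfl⟩ := hx
        exact hg.symm.zpow_left i
    have hmem : h * y * h⁻¹ ∈ conjIn Δ.t Δ.R := ⟨hh' y (mem_zpowers y),
      (isConj_iff.2 ⟨g, rfl⟩ : IsConj Δ.t y).trans (isConj_iff.2 ⟨h, rfl⟩)⟩
    rw [Δ.conjIn_eq] at hmem
    rcases hmem with e' | ⟨p, -⟩ | ⟨p, -⟩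
    · exact hne (mul_left_cancel (a := h) (mul_right_cancel (b := h⁻¹) (e'.trans (Δ.cent_t_eq hh).symm)))
    · exact p1 p
    · exact p2 p
  rcases e with _ | e
  · -- `R` is a Sylow subgroup
    exfalso
    rw [pow_zero, one_mul] at hk
    rw [pow_zero, mul_one] at he
    have hSR : (S : Subgroup G) = Δ.R := (Subgroup.eq_of_le_of_card_ge hS he.le).symm
    split_ifs at hk with p1 p2
    · obtain ⟨g, hg⟩ := isConj_iff.1 p1.symm
      have hcen : ∀ x ∈ Δ.R, Commute x Δ.z := fun x hx => Δ.R_commute_z hx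
      obtain ⟨a, ha, hae⟩ := S.conj_eq_normalizer_conj_of_mem_centralizer Δ.z g⁻¹
        (Subgroup.mem_centralizer_iff.2 fun x hx => (hcen x (hSR ▸ hx)).eq)
        (Subgroup.mem_centralizer_iff.2 fun x hx => by
          rw [inv_inv, hg]
          exact (Δ.R_commute_t (hSR ▸ hx)).eq)
      rw [inv_inv, hg] at hae
      set u := Δ.c ^ 2 ^ (Δ.n - 2) with hu
      have huu : u * u = Δ.z := by
        rw [hu, z, ← pow_add, ← two_mul, ← pow_succ', show Δ.n - 2 + 1 = Δ.n - 1 by have := Δ.two_le; omega]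
      have humem : u ∈ (S : Subgroup G) := hS ((show Δ.InD u from Or.inl (pow_mem (mem_zpowers _) _)).mem_R)
      have h2 : a⁻¹ * u * a ∈ (S : Subgroup G) := ((Subgroup.mem_normalizer_iff'').1 ha u).1 humem
      rw [hSR] at h2
      have h3 : (a⁻¹ * u * a) * (a⁻¹ * u * a) = Δ.t := by
        rw [hae, show a⁻¹ * u * a * (a⁻¹ * u * a) = a⁻¹ * (u * u) * a by group, huu]
      exact Δ.t_ne_z ((h3 ▸ Δ.sq_eq_z h2 (by rw [h3]; exact Δ.ht) :))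
    · rw [show (1 + (4 * r + 1) + 0) * (2 * m' + 1) = 2 * ((2 * r + 1) * (2 * m' + 1)) by ring] at hk
      omega
    · rw [show (1 + 0 + (4 * r + 1)) * (2 * m' + 1) = 2 * ((2 * r + 1) * (2 * m' + 1)) by ring] at hk
      omega
    · exact hone ⟨p1, by assumption⟩
  · rw [pow_succ'] at hk
    have hxor : (IsConj Δ.t Δ.z ∧ ¬ IsConj Δ.t (Δ.t * Δ.z)) ∨
        (¬ IsConj Δ.t Δ.z ∧ IsConj Δ.t (Δ.t * Δ.z)) := by
      by_cases p1 : IsConj Δ.t Δ.z <;> by_cases p2 : IsConj Δ.t (Δ.t * Δ.z)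
      · exfalso
        rw [if_pos p1, if_pos p2] at hk
        generalize 2 ^ e = E at hk
        have h1 : (1 + (4 * r + 1) + (4 * r + 1)) * (2 * m' + 1)
            = 2 * ((8 * r + 3) * m' + 4 * r + 1) + 1 := by ring
        rw [h1, mul_assoc] at hk
        omega
      · exact Or.inl ⟨p1, p2⟩
      · exact Or.inr ⟨p1, p2⟩
      · exact absurd ⟨p1, p2⟩ hone
    have hadd : 1 + (if IsConj Δ.t Δ.z then 4 * r + 1 else 0) +
        (if IsConj Δ.t (Δ.t * Δ.z) then 4 * r + 1 else 0) = 4 * r + 2 := by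
      rcases hxor with ⟨p1, p2⟩ | ⟨p1, p2⟩
      · rw [if_pos p1, if_neg p2]
        ring
      · rw [if_neg p1, if_pos p2]
        ring
    rw [hadd, show (4 * r + 2) * (2 * m' + 1) = 4 * (2 * r * m' + r + m') + 2 by ring] at hk
    obtain rfl : e = 0 := by
      by_contra hne
      obtain ⟨e', rfl⟩ := Nat.exists_eq_succ_of_ne_zero hne
      rw [pow_succ', show 2 * (2 * 2 ^ e') * (2 * o' + 1) = 4 * (2 ^ e' * (2 * o' + 1)) by ring] at hk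
      omega
    rw [pow_one, mul_comm] at he
    obtain ⟨w, hwS, hwn, hwR⟩ := exists_normalizing S.isPGroup'
      (lt_of_le_of_ne hS fun e' => by
        have h1 := he
        rw [← e'] at h1
        have := Nat.card_pos (α := Δ.R)
        omega)
    have hnorm : ∀ x, w * x * w⁻¹ ∈ Δ.R ↔ x ∈ Δ.R := fun x =>
      ((Subgroup.mem_normalizer_iff).1 hwn x).symm
    have hSt : ∀ x ∈ (S : Subgroup G), Commute x Δ.t → x ∈ Δ.R := by
      intro x hx hxt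
      have h1 : Δ.R ⊔ zpowers x ≤ (S : Subgroup G) := sup_le hS (zpowers_le.2 hx)
      have h2 : Nat.card ↥(Δ.R ⊔ zpowers x) ≤ Nat.card Δ.R := by
        refine Δ.R_max _ (S.isPGroup'.to_le h1) ?_
        intro y hy
        have : Δ.R ⊔ zpowers x ≤ centralizer ({Δ.t} : Set G) := sup_le
          (fun v hv => Subgroup.mem_centralizer_singleton_iff.2 (Δ.R_commute_t hv).eq)
          (zpowers_le.2 (Subgroup.mem_centralizer_singleton_iff.2 hxt.eq))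
        exact Subgroup.mem_centralizer_singleton_iff.1 (this hy)
      rw [Subgroup.eq_of_le_of_card_ge le_sup_left h2]
      exact mem_sup_right (mem_zpowers x)
    have hwt : w * Δ.t * w⁻¹ ≠ Δ.t := fun e' =>
      hwR (hSt w hwS (mul_inv_eq_iff_eq_mul.1 e'))
    set u := Δ.c ^ 2 ^ (Δ.n - 2) with hu
    have huu : u * u = Δ.z := by
      rw [hu, z, ← pow_add, ← two_mul, ← pow_succ', show Δ.n - 2 + 1 = Δ.n - 1 by have := Δ.two_le; omega]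
    have hwz : w * Δ.z * w⁻¹ = Δ.z := by
      rw [← huu, show w * (u * u) * w⁻¹ = (w * u * w⁻¹) * (w * u * w⁻¹) by group, huu]
      refine Δ.sq_eq_z ((hnorm u).2 (show Δ.InD u from Or.inl (pow_mem (mem_zpowers _) _)).mem_R) ?_
      rw [show (w * u * w⁻¹) * (w * u * w⁻¹) = w * (u * u) * w⁻¹ by group, huu]
      exact ((MulAut.conj w).orderOf_eq Δ.z).trans Δ.z_order
    have hcomm : ∀ y ∈ Δ.R, Commute (w * Δ.t * w⁻¹) y := by
      intro y hy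
      have h1 : w⁻¹ * y * w ∈ Δ.R := (hnorm _).1 (by simpa [mul_assoc] using hy)
      have := (Δ.R_commute_t h1).symm.map (MulAut.conj w)
      simpa [mul_assoc] using this
    have hcases := Δ.R_center ((hnorm Δ.t).2 Δ.t_mem)
      (hcomm _ (show Δ.InD Δ.c from Or.inl (mem_zpowers _)).mem_R)
      (hcomm _ (show Δ.InD Δ.s from Or.inr ⟨0, by simp⟩).mem_R)
      (by rw [show w * Δ.t * w⁻¹ * (w * Δ.t * w⁻¹) = w * (Δ.t * Δ.t) * w⁻¹ by group, Δ.tt]; group)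
    have hwtz : w * Δ.t * w⁻¹ = Δ.t * Δ.z := by
      rcases hcases with e' | e' | e' | e'
      · exfalso
        have := ((MulAut.conj w).orderOf_eq Δ.t).trans Δ.ht
        rw [MulAut.conj_apply, e', orderOf_one] at this
        omega
      · exact absurd e' hwt
      · exact absurd (mul_left_cancel (a := w) (mul_right_cancel (b := w⁻¹) (e'.trans hwz.symm)))
          Δ.t_ne_z
      · exact e'
    have hp2 : IsConj Δ.t (Δ.t * Δ.z) := isConj_iff.2 ⟨w, hwtz⟩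
    refine ⟨S, w, hS, by rw [he], hwS, hwtz, hwz, hnorm, hp2, ?_, hSt⟩
    rcases hxor with ⟨-, p2⟩ | ⟨p1, -⟩
    · exact absurd hp2 p2
    · exact p1

/-- The elementary abelian group of order 8 attached to a reflection. -/
def A (i : ℤ) : Subgroup G := Δ.R ⊓ centralizer ({Δ.c ^ i * Δ.s} : Set G)

theorem mem_A {i : ℤ} {x : G} : x ∈ Δ.A i ↔ x ∈ Δ.R ∧ Commute x (Δ.c ^ i * Δ.s) := by
  rw [A, Subgroup.mem_inf, Subgroup.mem_centralizer_singleton_iff]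
  rfl

theorem A_cases {i : ℤ} {x : G} (hx : x ∈ Δ.A i) : ∃ a b f : G, (a = 1 ∨ a = Δ.t) ∧
    (b = 1 ∨ b = Δ.z) ∧ (f = 1 ∨ f = Δ.c ^ i * Δ.s) ∧ x = a * (b * f) := by
  obtain ⟨hxR, hc⟩ := Δ.mem_A.1 hx
  obtain ⟨a, ha, d, hd, rfl⟩ := Δ.R_cases hxR
  have hcd : Commute d (Δ.c ^ i * Δ.s) := by
    have hf : Δ.InD (Δ.c ^ i * Δ.s) := Or.inr ⟨i, rfl⟩
    rcases ha with rfl | rfl
    · simpa using hc
    · have h3 : Commute (Δ.t⁻¹ * (Δ.t * d)) (Δ.c ^ i * Δ.s) := hf.commute_t.inv_left.mul_left hc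
      rwa [inv_mul_cancel_left] at h3
  rcases hd with ⟨j, rfl⟩ | ⟨j, rfl⟩
  · have h : Δ.c ^ j * (Δ.c ^ i * Δ.s) = Δ.c ^ i * Δ.s * Δ.c ^ j := hcd.eq
    rw [mul_assoc (Δ.c ^ i), Δ.conj_zpow', ← mul_assoc, ← mul_assoc, ← zpow_add, ← zpow_add,
      mul_left_inj] at h
    have h' : Δ.c ^ (j + j) = 1 := by
      rw [show j + j = j + i - (i + -j) by ring, zpow_sub, h, mul_inv_cancel]
    rcases Δ.zpow_sq_cases j h' with e | e
    · exact ⟨a, 1, 1, ha, Or.inl rfl, Or.inl rfl, by simp [show (fun x => Δ.c ^ x) j = Δ.c ^ j from rfl, e]⟩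
    · exact ⟨a, Δ.z, 1, ha, Or.inr rfl, Or.inl rfl, by simp [show (fun x => Δ.c ^ x) j = Δ.c ^ j from rfl, e]⟩
  · have h : Δ.c ^ j * Δ.s * (Δ.c ^ i * Δ.s) = Δ.c ^ i * Δ.s * (Δ.c ^ j * Δ.s) := hcd.eq
    rw [mul_assoc (Δ.c ^ i), ← mul_assoc Δ.s, Δ.conj_zpow', mul_assoc (Δ.c ^ j), ← mul_assoc Δ.s,
      Δ.conj_zpow', mul_assoc, Δ.hs, mul_assoc, Δ.hs, mul_one, mul_one, ← zpow_add, ← zpow_add] at h
    have h' : Δ.c ^ ((j - i) + (j - i)) = 1 := by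
      rw [show (j - i) + (j - i) = j + -i - (i + -j) by ring, zpow_sub, h, mul_inv_cancel]
    rcases Δ.zpow_sq_cases _ h' with e | e
    · refine ⟨a, 1, _, ha, Or.inl rfl, Or.inr rfl, ?_⟩
      rw [zpow_sub, mul_inv_eq_one] at e
      rw [e, one_mul]
    · refine ⟨a, Δ.z, _, ha, Or.inr rfl, Or.inr rfl, ?_⟩
      rw [zpow_sub, mul_inv_eq_iff_eq_mul] at e
      rw [e, mul_assoc]

theorem A_card_le (i : ℤ) : Nat.card (Δ.A i) ≤ 8 := by
  classical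
  let F : Finset G := ((({1, Δ.t} : Finset G) ×ˢ ({1, Δ.z} : Finset G)) ×ˢ
    ({1, Δ.c ^ i * Δ.s} : Finset G)).image fun p => p.1.1 * (p.1.2 * p.2)
  have hsub : (Δ.A i : Set G) ⊆ ↑F := by
    intro x hx
    obtain ⟨a, b, f, ha, hb, hf, rfl⟩ := Δ.A_cases hx
    rw [Finset.mem_coe, Finset.mem_image]
    exact ⟨((a, b), f), by simp [ha, hb, hf], rfl⟩
  calc Nat.card (Δ.A i) = (Δ.A i : Set G).ncard := Nat.card_coe_set_eq _
    _ ≤ (↑F : Set G).ncard := Set.ncard_le_ncard hsub (Finset.finite_toSet F)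
    _ = F.card := Set.ncard_coe_finset F
    _ ≤ (({1, Δ.t} : Finset G) ×ˢ ({1, Δ.z} : Finset G) ×ˢ ({1, Δ.c ^ i * Δ.s} : Finset G)).card := by
        refine Finset.card_image_le.trans (le_of_eq ?_)
        rw [Finset.card_product, Finset.card_product, Finset.card_product, Finset.card_product]
        ring
    _ ≤ 8 := by
        rw [Finset.card_product, Finset.card_product]
        exact Nat.mul_le_mul Finset.card_le_two (Nat.mul_le_mul Finset.card_le_two Finset.card_le_two)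

theorem A_refl_mem (i : ℤ) : Δ.c ^ i * Δ.s ∈ Δ.A i :=
  Δ.mem_A.2 ⟨(show Δ.InD _ from Or.inr ⟨i, rfl⟩).mem_R, Commute.refl _⟩

theorem A_t_mem (i : ℤ) : Δ.t ∈ Δ.A i :=
  Δ.mem_A.2 ⟨Δ.t_mem, (show Δ.InD (Δ.c ^ i * Δ.s) from Or.inr ⟨i, rfl⟩).commute_t⟩

theorem A_z_mem (i : ℤ) : Δ.z ∈ Δ.A i :=
  Δ.mem_A.2 ⟨Δ.z_mem, (Δ.z_comm_c i).mul_right Δ.z_comm_s⟩

theorem A_elem {i : ℤ} {x : G} (hx : x ∈ Δ.A i) :
    x * x = 1 ∧ ∀ y ∈ Δ.A i, Commute x y := by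
  have htz : Commute Δ.t Δ.z := Δ.z_InD.commute_t
  have htf : Commute Δ.t (Δ.c ^ i * Δ.s) := (show Δ.InD _ from Or.inr ⟨i, rfl⟩).commute_t
  have hzf : Commute Δ.z (Δ.c ^ i * Δ.s) := (Δ.z_comm_c i).mul_right Δ.z_comm_s
  obtain ⟨a, b, f, ha, hb, hf, rfl⟩ := Δ.A_cases hx
  have e1 : ∀ y ∈ Δ.A i, Commute a y := fun y hy => by
    rcases ha with rfl | rfl
    · exact Commute.one_left y
    · exact (Δ.R_commute_t (Δ.mem_A.1 hy).1).symm
  have e2 : ∀ y ∈ Δ.A i, Commute b y := fun y hy => by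
    rcases hb with rfl | rfl
    · exact Commute.one_left y
    · exact (Δ.R_commute_z (Δ.mem_A.1 hy).1).symm
  have e3 : ∀ y ∈ Δ.A i, Commute f y := fun y hy => by
    rcases hf with rfl | rfl
    · exact Commute.one_left y
    · exact (Δ.mem_A.1 hy).2.symm
  have hall : ∀ y ∈ Δ.A i, Commute (a * (b * f)) y := fun y hy =>
    (e1 y hy).mul_left ((e2 y hy).mul_left (e3 y hy))
  refine ⟨?_, hall⟩
  have hab : Commute a (b * f) := by
    rcases ha with rfl | rfl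
    · exact Commute.one_left _
    · refine Commute.mul_right ?_ ?_
      · rcases hb with rfl | rfl
        · exact Commute.one_right _
        · exact htz
      · rcases hf with rfl | rfl
        · exact Commute.one_right _
        · exact htf
  have hbf : Commute b f := by
    rcases hb with rfl | rfl
    · exact Commute.one_left _
    · rcases hf with rfl | rfl
      · exact Commute.one_right _
      · exact hzf
  rw [hab.symm.mul_mul_mul_comm, hbf.symm.mul_mul_mul_comm,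
    show a * a = 1 by rcases ha with rfl | rfl <;> simp [Δ.tt],
    show b * b = 1 by rcases hb with rfl | rfl <;> simp [Δ.zz],
    show f * f = 1 by rcases hf with rfl | rfl <;> simp [Δ.refl_sq]]
  simp

theorem refl_inj {i j : ℤ} (h : Δ.c ^ i * Δ.s = Δ.c ^ j * Δ.s) : Δ.c ^ i = Δ.c ^ j :=
  mul_right_cancel h

theorem A_card (i : ℤ) : Nat.card (Δ.A i) = 8 := by
  classical
  refine le_antisymm (Δ.A_card_le i) ?_
  let f : Bool × Bool × Bool → Δ.A i := fun p =>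
    ⟨(cond p.1 Δ.t 1) * ((cond p.2.1 Δ.z 1) * (cond p.2.2 (Δ.c ^ i * Δ.s) 1)), by
      obtain ⟨b1, b2, b3⟩ := p
      refine mul_mem ?_ (mul_mem ?_ ?_)
      · cases b1 <;> simp [Δ.A_t_mem, one_mem]
      · cases b2 <;> simp [Δ.A_z_mem, one_mem]
      · cases b3 <;> simp [Δ.A_refl_mem, one_mem]⟩
  have hf : Function.Injective f := by
    rintro ⟨a1, a2, a3⟩ ⟨b1, b2, b3⟩ h
    have h' : (cond a1 Δ.t 1) * ((cond a2 Δ.z 1) * (cond a3 (Δ.c ^ i * Δ.s) 1))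
        = (cond b1 Δ.t 1) * ((cond b2 Δ.z 1) * (cond b3 (Δ.c ^ i * Δ.s) 1)) := congrArg Subtype.val h
    have hD : ∀ x y : Bool, Δ.InD ((cond x Δ.z 1) * (cond y (Δ.c ^ i * Δ.s) 1)) := by
      intro x y
      cases y
      · refine Or.inl ?_
        cases x
        · simp
        · simp only [cond_true, cond_false, mul_one, z]
          exact pow_mem (mem_zpowers _) _
      · refine Or.inr ?_
        cases x
        · exact ⟨i, by simp⟩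
        · exact ⟨((2 ^ (Δ.n - 1) : ℕ) : ℤ) + i, by rw [zpow_add, ← Δ.z_zpow]; simp [mul_assoc]⟩
    obtain ⟨h1, h2⟩ := Δ.split_eq (by cases a1 <;> simp) (by cases b1 <;> simp) (hD a2 a3) (hD b2 b3) h'
    have e1 : a1 = b1 := by
      cases a1 <;> cases b1 <;> simp at h1 ⊢
      · exact (Δ.htD 0).1 (by rw [zpow_zero, ← h1])
      · exact (Δ.htD 0).1 (by rw [zpow_zero, h1])
    have hzne : Δ.z ≠ 1 := fun e => by
      have := Δ.z_order
      rw [e, orderOf_one] at this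
      omega
    have e3 : a3 = b3 := by
      have hrot : ∀ x : Bool, ∃ j : ℤ, cond x Δ.z 1 = Δ.c ^ j := by
        intro x
        cases x
        · exact ⟨0, by simp⟩
        · exact ⟨_, Δ.z_zpow⟩
      obtain ⟨j, hj⟩ := hrot a2
      obtain ⟨l, hl⟩ := hrot b2
      cases a3 <;> cases b3 <;> simp only [cond_true, cond_false, mul_one, reduceCtorEq, hj, hl] at h2 ⊢
      · exact Δ.refl_ne (l + i) j (by rw [zpow_add, h2, mul_assoc])
      · exact Δ.refl_ne (j + i) l (by rw [zpow_add, ← h2, mul_assoc])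
    subst e1 e3
    have e2 : cond a2 Δ.z 1 = cond b2 Δ.z 1 := mul_right_cancel h2
    have : a2 = b2 := by
      cases a2 <;> cases b2 <;> simp at e2 ⊢ <;> first | exact hzne e2 | exact hzne e2.symm
    rw [this]
  have := Nat.card_le_card_of_injective f hf
  simpa [Nat.card_eq_fintype_card] using this


/-- `g` conjugates `A i` onto `A j`. -/
def Maps (g : G) (i j : ℤ) : Prop := ∀ x, x ∈ Δ.A i ↔ g * x * g⁻¹ ∈ Δ.A j

theorem maps_of_le {g : G} {i j : ℤ} (h : ∀ x ∈ Δ.A i, g * x * g⁻¹ ∈ Δ.A j) : Δ.Maps g i j := by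
  have hsurj : Function.Surjective fun x : Δ.A i => (⟨g * x * g⁻¹, h x x.2⟩ : Δ.A j) := by
    refine ((Nat.bijective_iff_injective_and_card _).2 ⟨fun x y e => ?_, ?_⟩).2
    · exact Subtype.ext (mul_left_cancel (mul_right_cancel (congrArg Subtype.val e :)))
    · rw [Δ.A_card, Δ.A_card]
  intro x
  refine ⟨h x, fun hx => ?_⟩
  obtain ⟨y, hy⟩ := hsurj ⟨_, hx⟩
  have : (y : G) = x := mul_left_cancel (mul_right_cancel (congrArg Subtype.val hy :))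
  exact this ▸ y.2

theorem maps_mul {g h : G} {i j k : ℤ} (h1 : Δ.Maps g i j) (h2 : Δ.Maps h j k) :
    Δ.Maps (h * g) i k := fun x => by
  rw [show h * g * x * (h * g)⁻¹ = h * (g * x * g⁻¹) * h⁻¹ by group, ← h2, ← h1]

theorem maps_inv {g : G} {i j : ℤ} (h1 : Δ.Maps g i j) : Δ.Maps g⁻¹ j i := fun x => by
  rw [h1]
  rw [show g * (g⁻¹ * x * g⁻¹⁻¹) * g⁻¹ = x by group]

theorem maps_of_refl {g : G} {i j : ℤ} (hR : ∀ x ∈ Δ.R, g * x * g⁻¹ ∈ Δ.R)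
    (hf : g * (Δ.c ^ i * Δ.s) * g⁻¹ = Δ.c ^ j * Δ.s) : Δ.Maps g i j :=
  Δ.maps_of_le fun x hx => Δ.mem_A.2 ⟨hR x (Δ.mem_A.1 hx).1, by
    rw [← hf]
    exact (Δ.mem_A.1 hx).2.map (MulAut.conj g)⟩

/-- The rotation of order four. -/
def u : G := Δ.c ^ 2 ^ (Δ.n - 2)

theorem u_sq : Δ.u * Δ.u = Δ.z := by
  rw [u, z, ← pow_add, ← two_mul, ← pow_succ', show Δ.n - 2 + 1 = Δ.n - 1 by have := Δ.two_le; omega]

theorem u_mem : Δ.u ∈ Δ.R := (show Δ.InD Δ.u from Or.inl (pow_mem (mem_zpowers _) _)).mem_R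

theorem conj_R {g : G} (hg : g ∈ Δ.R) : ∀ x ∈ Δ.R, g * x * g⁻¹ ∈ Δ.R :=
  fun _ hx => mul_mem (mul_mem hg hx) (inv_mem hg)

theorem u_conj (i : ℤ) : Δ.u * (Δ.c ^ i * Δ.s) * Δ.u⁻¹ = Δ.z * (Δ.c ^ i * Δ.s) := by
  have hi : Δ.u⁻¹ = Δ.c ^ (-((2 ^ (Δ.n - 2) : ℕ) : ℤ)) := by rw [u, zpow_neg, zpow_natCast]
  have h : Δ.s * Δ.u⁻¹ = Δ.u * Δ.s := by
    rw [hi, Δ.conj_zpow', neg_neg, zpow_natCast, u]
  have hc : Commute (Δ.c ^ i) Δ.u := ((Commute.refl Δ.c).zpow_left i).pow_right _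
  rw [← Δ.u_sq, mul_assoc Δ.u, mul_assoc (Δ.c ^ i), h, ← mul_assoc (Δ.c ^ i), hc.eq]
  simp only [mul_assoc]

theorem u_t : Δ.u * Δ.t * Δ.u⁻¹ = Δ.t := Δ.cent_t_eq (Δ.R_commute_t Δ.u_mem)

theorem u_z : Δ.u * Δ.z * Δ.u⁻¹ = Δ.z := by
  rw [(Δ.R_commute_z Δ.u_mem).eq, mul_inv_cancel_right]

theorem u_maps (i : ℤ) : Δ.Maps Δ.u i i := by
  refine Δ.maps_of_le fun x hx => Δ.mem_A.2 ⟨Δ.conj_R Δ.u_mem x (Δ.mem_A.1 hx).1, ?_⟩
  have h1 : Commute (Δ.u * x * Δ.u⁻¹) (Δ.z * (Δ.c ^ i * Δ.s)) := by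
    rw [← Δ.u_conj i]
    exact (Δ.mem_A.1 hx).2.map (MulAut.conj Δ.u)
  have h2 : Commute (Δ.u * x * Δ.u⁻¹) (Δ.z⁻¹ * (Δ.z * (Δ.c ^ i * Δ.s))) :=
    (Δ.R_commute_z (Δ.conj_R Δ.u_mem x (Δ.mem_A.1 hx).1)).inv_right.mul_right h1
  rwa [inv_mul_cancel_left] at h2

theorem same_class {i j : ℤ} (h : 2 ∣ j - i) : ∃ g ∈ Δ.R, g * Δ.t * g⁻¹ = Δ.t ∧
    g * Δ.z * g⁻¹ = Δ.z ∧ g * (Δ.c ^ i * Δ.s) * g⁻¹ = Δ.c ^ j * Δ.s ∧ Δ.Maps g i j := by
  obtain ⟨k, hk⟩ := h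
  have hm : Δ.c ^ k ∈ Δ.R := (show Δ.InD _ from Or.inl ⟨k, rfl⟩).mem_R
  have hf : Δ.c ^ k * (Δ.c ^ i * Δ.s) * (Δ.c ^ k)⁻¹ = Δ.c ^ j * Δ.s := by
    rw [← zpow_neg, mul_assoc, mul_assoc (Δ.c ^ i), Δ.conj_zpow', neg_neg, ← mul_assoc,
      ← mul_assoc, ← zpow_add, ← zpow_add, show k + i + k = j by omega]
  exact ⟨_, hm, Δ.cent_t_eq (Δ.R_commute_t hm), by rw [(Δ.R_commute_z hm).eq, mul_inv_cancel_right],
    hf, Δ.maps_of_refl (Δ.conj_R hm) hf⟩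

theorem parity_eq {i j : ℤ} (h : Δ.c ^ i = Δ.c ^ j) : 2 ∣ j - i := by
  have h1 : Δ.c ^ (j - i) = 1 := by rw [zpow_sub, ← h, mul_inv_cancel]
  rw [Δ.zpow_eq_one_iff] at h1
  exact (dvd_pow_self 2 (by have := Δ.two_le; omega)).trans h1

theorem R_parity {r : G} (hr : r ∈ Δ.R) {i j : ℤ}
    (h : r * (Δ.c ^ i * Δ.s) * r⁻¹ = Δ.c ^ j * Δ.s) : 2 ∣ j - i := by
  obtain ⟨a, ha, d, hd, rfl⟩ := Δ.R_cases hr
  have hac : ∀ y, Δ.InD y → a * y * a⁻¹ = y := fun y hy => by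
    rcases ha with rfl | rfl
    · simp
    · rw [hy.commute_t.eq, mul_inv_cancel_right]
  rcases hd with ⟨l, rfl⟩ | ⟨l, rfl⟩
  · have e : Δ.c ^ l * (Δ.c ^ i * Δ.s) * (Δ.c ^ l)⁻¹ = Δ.c ^ (l + i + l) * Δ.s := by
      rw [← zpow_neg, mul_assoc, mul_assoc (Δ.c ^ i), Δ.conj_zpow', neg_neg, ← mul_assoc,
        ← mul_assoc, ← zpow_add, ← zpow_add]
    rw [show a * (fun x => Δ.c ^ x) l = a * Δ.c ^ l from rfl,
      show a * Δ.c ^ l * (Δ.c ^ i * Δ.s) * (a * Δ.c ^ l)⁻¹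
        = a * (Δ.c ^ l * (Δ.c ^ i * Δ.s) * (Δ.c ^ l)⁻¹) * a⁻¹ by group, e,
      hac _ (Or.inr ⟨_, rfl⟩)] at h
    have := Δ.parity_eq (Δ.refl_inj h)
    omega
  · have e : Δ.c ^ l * Δ.s * (Δ.c ^ i * Δ.s) * (Δ.c ^ l * Δ.s)⁻¹ = Δ.c ^ (l + (l - i)) * Δ.s := by
      rw [mul_inv_rev, Δ.s_inv, mul_assoc (Δ.c ^ l), ← mul_assoc Δ.s, Δ.conj_zpow',
        mul_assoc (Δ.c ^ (-i)), Δ.hs, mul_one, ← zpow_neg, ← zpow_add, Δ.conj_zpow',
        neg_neg, ← mul_assoc, ← zpow_add, show l + -i + l = l + (l - i) by ring]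
    rw [show a * (Δ.c ^ l * Δ.s) * (Δ.c ^ i * Δ.s) * (a * (Δ.c ^ l * Δ.s))⁻¹
        = a * (Δ.c ^ l * Δ.s * (Δ.c ^ i * Δ.s) * (Δ.c ^ l * Δ.s)⁻¹) * a⁻¹ by group, e,
      hac _ (Or.inr ⟨_, rfl⟩)] at h
    have := Δ.parity_eq (Δ.refl_inj h)
    omega

theorem R_centre_or_refl {x : G} (hx : x ∈ Δ.R) (h2 : x * x = 1) :
    (x = 1 ∨ x = Δ.t ∨ x = Δ.z ∨ x = Δ.t * Δ.z) ∨
      ∃ k : ℤ, x = Δ.c ^ k * Δ.s ∨ x = Δ.t * (Δ.c ^ k * Δ.s) := by
  by_cases h1 : x = 1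
  · exact Or.inl (Or.inl h1)
  rcases Δ.R_invol hx h2 h1 with rfl | ⟨d, hd, hdo, hxd⟩
  · exact Or.inl (Or.inr (Or.inl rfl))
  rcases Δ.InD_invol hd hdo with rfl | ⟨k, rfl⟩
  · rcases hxd with rfl | rfl
    · exact Or.inl (Or.inr (Or.inr (Or.inl rfl)))
    · exact Or.inl (Or.inr (Or.inr (Or.inr rfl)))
  · exact Or.inr ⟨k, hxd⟩

theorem comm_mem_A {x y : G} {k : ℤ} (hx : x = Δ.c ^ k * Δ.s ∨ x = Δ.t * (Δ.c ^ k * Δ.s))
    (hy : y ∈ Δ.R) (h : Commute y x) : y ∈ Δ.A k := by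
  refine Δ.mem_A.2 ⟨hy, ?_⟩
  rcases hx with rfl | rfl
  · exact h
  · have h2 : Commute y (Δ.t⁻¹ * (Δ.t * (Δ.c ^ k * Δ.s))) := (Δ.R_commute_t hy).inv_right.mul_right h
    rwa [inv_mul_cancel_left] at h2

theorem centre_card (E : Subgroup G)
    (h : ∀ x ∈ E, x = 1 ∨ x = Δ.t ∨ x = Δ.z ∨ x = Δ.t * Δ.z) : Nat.card E ≤ 4 := by
  classical
  calc Nat.card E = (E : Set G).ncard := Nat.card_coe_set_eq _
    _ ≤ (↑({1, Δ.t, Δ.z, Δ.t * Δ.z} : Finset G) : Set G).ncard := by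
        refine Set.ncard_le_ncard (fun x hx => ?_) (Finset.finite_toSet _)
        simpa using h x hx
    _ ≤ 4 := by rw [Set.ncard_coe_finset]; exact Finset.card_le_four

theorem elem_le_eight {E : Subgroup G} (hE : E ≤ Δ.R)
    (h : ∀ x ∈ E, x * x = 1 ∧ ∀ y ∈ E, Commute x y) : Nat.card E ≤ 8 := by
  by_cases hc : ∀ x ∈ E, x = 1 ∨ x = Δ.t ∨ x = Δ.z ∨ x = Δ.t * Δ.z
  · exact (Δ.centre_card E hc).trans (by norm_num)
  push Not at hc
  obtain ⟨x, hx, hxc⟩ := hc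
  rcases Δ.R_centre_or_refl (hE hx) (h x hx).1 with h1 | ⟨k, hk⟩
  · rcases h1 with h1 | h1 | h1 | h1
    · exact absurd h1 hxc.1
    · exact absurd h1 hxc.2.1
    · exact absurd h1 hxc.2.2.1
    · exact absurd h1 hxc.2.2.2
  · refine (Nat.le_of_dvd Nat.card_pos (Subgroup.card_dvd_of_le fun y hy =>
      Δ.comm_mem_A hk (hE hy) ((h y hy).2 x hx))).trans (Δ.A_card k).le

theorem A_two (i : ℤ) : IsPGroup 2 (Δ.A i) := Δ.R_two.to_le inf_le_left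

theorem conj_z_into {i : ℤ} {g : G} (hgt : g * Δ.t * g⁻¹ = Δ.t)
    (hgf : g * (Δ.c ^ i * Δ.s) * g⁻¹ = Δ.z) :
    ∃ (j : ℤ) (h : G), h * Δ.t * h⁻¹ = Δ.t ∧ h * (Δ.c ^ i * Δ.s) * h⁻¹ = Δ.z ∧ Δ.Maps h i j := by
  set H := centralizer ({Δ.t} : Set G) ⊓ centralizer ({Δ.z} : Set G) with hH
  have hRH : Δ.R ≤ H := fun x hx => Subgroup.mem_inf.2
    ⟨Subgroup.mem_centralizer_singleton_iff.2 (Δ.R_commute_t hx).eq,
      Subgroup.mem_centralizer_singleton_iff.2 (Δ.R_commute_z hx).eq⟩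
  obtain ⟨k, hk, hk'⟩ := conj_into hRH Δ.R_two
    (fun Q hQ hQH => Δ.R_max Q hQ fun x hx =>
      Subgroup.mem_centralizer_singleton_iff.1 (Subgroup.mem_inf.1 (hQH hx)).1)
    ((Δ.A_two i).map (MulAut.conj g).toMonoidHom) (by
      rintro _ ⟨x, hx, rfl⟩
      refine Subgroup.mem_inf.2 ⟨Subgroup.mem_centralizer_singleton_iff.2 ?_,
        Subgroup.mem_centralizer_singleton_iff.2 ?_⟩
      · rw [← hgt]
        exact ((Δ.R_commute_t (Δ.mem_A.1 hx).1).map (MulAut.conj g)).eq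
      · rw [← hgf]
        exact ((Δ.mem_A.1 hx).2.map (MulAut.conj g)).eq)
  have hkt := Subgroup.mem_centralizer_singleton_iff.1 (Subgroup.mem_inf.1 hk).1
  have hkz := Subgroup.mem_centralizer_singleton_iff.1 (Subgroup.mem_inf.1 hk).2
  have hin : ∀ x ∈ Δ.A i, k * g * x * (k * g)⁻¹ ∈ Δ.R := fun x hx => by
    rw [show k * g * x * (k * g)⁻¹ = k * (g * x * g⁻¹) * k⁻¹ by group]
    exact hk' _ ⟨x, hx, rfl⟩
  set E := (Δ.A i).map (MulAut.conj (k * g)).toMonoidHom with hE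
  have hEc : ∀ x ∈ E, x * x = 1 ∧ ∀ y ∈ E, Commute x y := by
    rintro _ ⟨x, hx, rfl⟩
    refine ⟨by rw [← map_mul, (Δ.A_elem hx).1, map_one], ?_⟩
    rintro _ ⟨y, hy, rfl⟩
    exact ((Δ.A_elem hx).2 y hy).map _
  have hE8 : Nat.card E = 8 := by
    rw [hE, Subgroup.card_map_of_injective (MulAut.conj (k * g)).injective, Δ.A_card]
  have hER : E ≤ Δ.R := by
    rintro _ ⟨x, hx, rfl⟩
    exact hin x hx
  obtain ⟨x, hxE, hxc⟩ : ∃ x ∈ E, ¬ (x = 1 ∨ x = Δ.t ∨ x = Δ.z ∨ x = Δ.t * Δ.z) := by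
    by_contra hcon
    push Not at hcon
    have := Δ.centre_card E hcon
    omega
  obtain ⟨j, hj⟩ := (Δ.R_centre_or_refl (hER hxE) (hEc x hxE).1).resolve_left hxc
  refine ⟨j, k * g, ?_, ?_, Δ.maps_of_le fun y hy => ?_⟩
  · rw [show k * g * Δ.t * (k * g)⁻¹ = k * (g * Δ.t * g⁻¹) * k⁻¹ by group, hgt, hkt,
      mul_inv_cancel_right]
  · rw [show k * g * (Δ.c ^ i * Δ.s) * (k * g)⁻¹ = k * (g * (Δ.c ^ i * Δ.s) * g⁻¹) * k⁻¹ by group,
      hgf, hkz, mul_inv_cancel_right]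
  · exact Δ.comm_mem_A hj (hin y hy) ((hEc _ ⟨y, hy, rfl⟩).2 x hxE)

/-- The conjugates of `t` in `A i`. -/
theorem A_conjugates (hp2 : IsConj Δ.t (Δ.t * Δ.z)) (hp1 : ¬ IsConj Δ.t Δ.z) {i : ℤ} {x : G}
    (hx : x ∈ Δ.A i) :
    IsConj Δ.t x ↔ x = Δ.t ∨ x = Δ.t * Δ.z ∨ x = Δ.t * (Δ.c ^ i * Δ.s) ∨
      x = Δ.t * (Δ.z * (Δ.c ^ i * Δ.s)) := by
  have hf : Δ.InD (Δ.c ^ i * Δ.s) := Or.inr ⟨i, rfl⟩
  have hzf : Δ.InD (Δ.z * (Δ.c ^ i * Δ.s)) :=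
    Or.inr ⟨((2 ^ (Δ.n - 1) : ℕ) : ℤ) + i, by rw [zpow_add, ← Δ.z_zpow, mul_assoc]⟩
  have hzf2 : orderOf (Δ.z * (Δ.c ^ i * Δ.s)) = 2 := by
    rw [Δ.z_zpow, ← mul_assoc, ← zpow_add]
    exact Δ.refl_order _
  constructor
  · intro hc
    obtain ⟨a, b, f, ha, hb, hf', rfl⟩ := Δ.A_cases hx
    rcases ha with rfl | rfl
    · exfalso
      rw [one_mul] at hc
      rcases hb with rfl | rfl <;> rcases hf' with rfl | rfl <;>
        try simp only [one_mul, mul_one] at hc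
      · have := Δ.ht
        rw [isConj_one_left.1 hc, orderOf_one] at this
        omega
      · exact hp1 ((Δ.D_conj_iff hf (Δ.refl_order i)).1.1 hc)
      · exact hp1 hc
      · exact hp1 ((Δ.D_conj_iff hzf hzf2).1.1 hc)
    · rcases hb with rfl | rfl <;> rcases hf' with rfl | rfl <;> simp
  · rintro (rfl | rfl | rfl | rfl)
    · exact IsConj.refl _
    · exact hp2
    · exact (Δ.D_conj_iff hf (Δ.refl_order i)).2.2 hp2
    · exact (Δ.D_conj_iff hzf hzf2).2.2 hp2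

/-- A class with full fusion in the normalizer. -/
theorem exists_full {w : G} (hwt : w * Δ.t * w⁻¹ = Δ.t * Δ.z) (hwz : w * Δ.z * w⁻¹ = Δ.z)
    (hwR : ∀ x, w * x * w⁻¹ ∈ Δ.R ↔ x ∈ Δ.R) (hp1 : ¬ IsConj Δ.t Δ.z)
    (hp2 : IsConj Δ.t (Δ.t * Δ.z)) :
    ∃ i : ℤ, (∃ g, Δ.Maps g i i ∧ g * Δ.t * g⁻¹ = Δ.t * Δ.z) ∧
      ∃ g, Δ.Maps g i i ∧ g * Δ.t * g⁻¹ = Δ.t * (Δ.c ^ i * Δ.s) := by
  have par : ∀ j : ℤ, ∃ b : ℤ, (b = 0 ∨ b = 1) ∧ 2 ∣ b - j := fun j =>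
    ⟨j % 2, Int.emod_two_eq_zero_or_one j, by omega⟩
  -- `h` sends the reflection to `z`
  have hh : ∀ i : ℤ, ∃ (j : ℤ) (h : G), (j = 0 ∨ j = 1) ∧ h * Δ.t * h⁻¹ = Δ.t ∧
      h * (Δ.c ^ i * Δ.s) * h⁻¹ = Δ.z ∧ h * Δ.z * h⁻¹ = Δ.c ^ j * Δ.s ∧ Δ.Maps h i j := by
    intro i
    obtain ⟨g, hg, hgf⟩ := Δ.conjD (Δ.c ^ i * Δ.s) Δ.z (Or.inr ⟨i, rfl⟩) Δ.z_InD (Δ.refl_order i)
      Δ.z_order
    obtain ⟨j0, h0, ht0, hf0, hM0⟩ := Δ.conj_z_into (Δ.cent_t_eq hg) hgf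
    obtain ⟨b, hb, hd⟩ := par j0
    obtain ⟨r, hr, hrt, hrz, -, hrM⟩ := Δ.same_class hd
    have e1 : r * h0 * Δ.t * (r * h0)⁻¹ = Δ.t := by
      rw [show r * h0 * Δ.t * (r * h0)⁻¹ = r * (h0 * Δ.t * h0⁻¹) * r⁻¹ by group, ht0, hrt]
    have e2 : r * h0 * (Δ.c ^ i * Δ.s) * (r * h0)⁻¹ = Δ.z := by
      rw [show r * h0 * (Δ.c ^ i * Δ.s) * (r * h0)⁻¹ = r * (h0 * (Δ.c ^ i * Δ.s) * h0⁻¹) * r⁻¹ by group,
        hf0, hrz]
    have hM1 : Δ.Maps (r * h0) i b := Δ.maps_mul hM0 hrM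
    generalize r * h0 = h1 at e1 e2 hM1
    have hzA := (hM1 Δ.z).1 (Δ.A_z_mem i)
    have hz2 : h1 * Δ.z * h1⁻¹ = Δ.c ^ b * Δ.s ∨ h1 * Δ.z * h1⁻¹ = Δ.z * (Δ.c ^ b * Δ.s) := by
      obtain ⟨a, v, f, ha, hv, hf, e⟩ := Δ.A_cases hzA
      rcases ha with rfl | rfl
      · rw [one_mul] at e
        rcases hf with rfl | rfl
        · exfalso
          rw [mul_one] at e
          rcases hv with rfl | rfl
          · have := Δ.z_order
            rw [show Δ.z = 1 from mul_left_cancel (a := h1) (mul_right_cancel (b := h1⁻¹)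
              (e.trans (by group))), orderOf_one] at this
            omega
          · have : Δ.z = Δ.c ^ i * Δ.s :=
              mul_left_cancel (a := h1) (mul_right_cancel (b := h1⁻¹) (e.trans e2.symm))
            exact Δ.refl_ne i _ (this.symm.trans Δ.z_zpow)
        · rcases hv with rfl | rfl
          · exact Or.inl (by rw [e, one_mul])
          · exact Or.inr e
      · exfalso
        apply hp1
        have hA := (Δ.A_conjugates hp2 hp1 hzA).2 (by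
          rw [e]
          rcases hv with rfl | rfl <;> rcases hf with rfl | rfl <;> simp)
        exact hA.trans (isConj_iff.2 ⟨h1⁻¹, by group⟩)
    rcases hz2 with e | e
    · exact ⟨b, h1, hb, e1, e2, e, hM1⟩
    · refine ⟨b, Δ.u * h1, hb, ?_, ?_, ?_, Δ.maps_mul hM1 (Δ.u_maps b)⟩
      · rw [show Δ.u * h1 * Δ.t * (Δ.u * h1)⁻¹ = Δ.u * (h1 * Δ.t * h1⁻¹) * Δ.u⁻¹ by group, e1, Δ.u_t]
      · rw [show Δ.u * h1 * (Δ.c ^ i * Δ.s) * (Δ.u * h1)⁻¹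
          = Δ.u * (h1 * (Δ.c ^ i * Δ.s) * h1⁻¹) * Δ.u⁻¹ by group, e2, Δ.u_z]
      · rw [show Δ.u * h1 * Δ.z * (Δ.u * h1)⁻¹ = Δ.u * (h1 * Δ.z * h1⁻¹) * Δ.u⁻¹ by group, e,
          show Δ.u * (Δ.z * (Δ.c ^ b * Δ.s)) * Δ.u⁻¹
            = (Δ.u * Δ.z * Δ.u⁻¹) * (Δ.u * (Δ.c ^ b * Δ.s) * Δ.u⁻¹) by group, Δ.u_z, Δ.u_conj,
          ← mul_assoc, Δ.zz, one_mul]
  -- the action of `w` on the classes
  have hw : ∀ i : ℤ, ∃ (j : ℤ) (v : G), (j = 0 ∨ j = 1) ∧ v * Δ.t * v⁻¹ = Δ.t * Δ.z ∧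
      v * Δ.z * v⁻¹ = Δ.z ∧ v * (Δ.c ^ i * Δ.s) * v⁻¹ = Δ.c ^ j * Δ.s ∧ Δ.Maps v i j ∧
      ∃ r ∈ Δ.R, v = r * w := by
    intro i
    have hf : Δ.InD (Δ.c ^ i * Δ.s) := Or.inr ⟨i, rfl⟩
    have hm := (hwR _).2 hf.mem_R
    have h2 : w * (Δ.c ^ i * Δ.s) * w⁻¹ * (w * (Δ.c ^ i * Δ.s) * w⁻¹) = 1 := by
      rw [show w * (Δ.c ^ i * Δ.s) * w⁻¹ * (w * (Δ.c ^ i * Δ.s) * w⁻¹)
        = w * (Δ.c ^ i * Δ.s * (Δ.c ^ i * Δ.s)) * w⁻¹ by group, Δ.refl_sq]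
      group
    have hnc : ¬ IsConj Δ.t (w * (Δ.c ^ i * Δ.s) * w⁻¹) := fun hc =>
      hp1 ((Δ.D_conj_iff hf (Δ.refl_order i)).1.1 (hc.trans (isConj_iff.2 ⟨w⁻¹, by group⟩)))
    obtain ⟨j0, hj0⟩ : ∃ j0 : ℤ, w * (Δ.c ^ i * Δ.s) * w⁻¹ = Δ.c ^ j0 * Δ.s := by
      rcases Δ.R_centre_or_refl hm h2 with (e | e | e | e) | ⟨k, e | e⟩
      · exact absurd (show Δ.c ^ i * Δ.s = Δ.c ^ (0 : ℤ) by
          rw [zpow_zero]
          exact mul_left_cancel (a := w) (mul_right_cancel (b := w⁻¹) (e.trans (by group))))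
          (Δ.refl_ne i 0)
      · exact absurd (e ▸ IsConj.refl Δ.t) hnc
      · exact absurd (show Δ.c ^ i * Δ.s = Δ.c ^ ((2 ^ (Δ.n - 1) : ℕ) : ℤ) by
          rw [← Δ.z_zpow]
          exact mul_left_cancel (a := w) (mul_right_cancel (b := w⁻¹) (e.trans hwz.symm)))
          (Δ.refl_ne i _)
      · exact absurd (e ▸ hp2) hnc
      · exact ⟨k, e⟩
      · exact absurd (e ▸ (Δ.D_conj_iff (Or.inr ⟨k, rfl⟩) (Δ.refl_order k)).2.2 hp2) hnc
    obtain ⟨b, hb, hd⟩ := par j0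
    obtain ⟨r, hr, hrt, hrz, hrf, hrM⟩ := Δ.same_class hd
    refine ⟨b, r * w, hb, ?_, ?_, ?_,
      Δ.maps_mul (Δ.maps_of_refl (fun x hx => (hwR x).2 hx) hj0) hrM, r, hr, rfl⟩
    · rw [show r * w * Δ.t * (r * w)⁻¹ = r * (w * Δ.t * w⁻¹) * r⁻¹ by group, hwt,
        show r * (Δ.t * Δ.z) * r⁻¹ = (r * Δ.t * r⁻¹) * (r * Δ.z * r⁻¹) by group, hrt, hrz]
    · rw [show r * w * Δ.z * (r * w)⁻¹ = r * (w * Δ.z * w⁻¹) * r⁻¹ by group, hwz, hrz]
    · rw [show r * w * (Δ.c ^ i * Δ.s) * (r * w)⁻¹ = r * (w * (Δ.c ^ i * Δ.s) * w⁻¹) * r⁻¹ by group,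
        hj0, hrf]
  choose σ v hσ vt vz vf vM vr using hw
  choose τ h hτ ht hf hz hM using hh
  have hne : σ 0 ≠ σ 1 := by
    intro e
    obtain ⟨r, hr, er⟩ := vr 0
    obtain ⟨r', hr', er'⟩ := vr 1
    have e1 := vf 0
    rw [e, ← vf 1, er, er'] at e1
    have hm : w⁻¹ * (r'⁻¹ * r) * w ∈ Δ.R := (hwR _).1 (by
      rw [show w * (w⁻¹ * (r'⁻¹ * r) * w) * w⁻¹ = r'⁻¹ * r by group]
      exact mul_mem (inv_mem hr') hr)
    have := Δ.R_parity hm (i := 0) (j := 1) (by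
      rw [show w⁻¹ * (r'⁻¹ * r) * w * (Δ.c ^ (0 : ℤ) * Δ.s) * (w⁻¹ * (r'⁻¹ * r) * w)⁻¹
        = (r' * w)⁻¹ * (r * w * (Δ.c ^ (0 : ℤ) * Δ.s) * (r * w)⁻¹) * (r' * w) by group, e1]
      group)
    omega
  have cj : ∀ (a b x : G), a * b * x * (a * b)⁻¹ = a * (b * x * b⁻¹) * a⁻¹ := fun a b x => by group
  have cm : ∀ (a x y : G), a * (x * y) * a⁻¹ = (a * x * a⁻¹) * (a * y * a⁻¹) := fun a x y => by group
  have ci : ∀ (a x y : G), a * x * a⁻¹ = y → a⁻¹ * y * a⁻¹⁻¹ = x := fun a x y e => by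
    rw [← e]; group
  -- full fusion from `t ~ t z` at the target of `h`
  have L1 : ∀ i, (∃ g, Δ.Maps g (τ i) (τ i) ∧ g * Δ.t * g⁻¹ = Δ.t * Δ.z) →
      ∃ g, Δ.Maps g i i ∧ g * Δ.t * g⁻¹ = Δ.t * (Δ.c ^ i * Δ.s) := by
    rintro i ⟨g, hg, hgt⟩
    refine ⟨(h i)⁻¹ * (g * h i), Δ.maps_mul (Δ.maps_mul (hM i) hg) (Δ.maps_inv (hM i)), ?_⟩
    rw [cj, cj, ht, hgt, cm, ci _ _ _ (ht i), ci _ _ _ (hf i)]
  by_cases hid : σ 0 = 0
  · have hid1 : σ 1 = 1 := (hσ 1).resolve_left fun e => hne (hid.trans e.symm)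
    have hP : ∀ b : ℤ, b = 0 ∨ b = 1 → ∃ g, Δ.Maps g b b ∧ g * Δ.t * g⁻¹ = Δ.t * Δ.z := by
      rintro b (rfl | rfl)
      · exact ⟨v 0, by simpa only [hid] using vM 0, vt 0⟩
      · exact ⟨v 1, by simpa only [hid1] using vM 1, vt 1⟩
    exact ⟨0, hP 0 (Or.inl rfl), L1 0 (hP _ (hτ 0))⟩
  · have hs0 : σ 0 = 1 := (hσ 0).resolve_left hid
    have hs1 : σ 1 = 0 := (hσ 1).resolve_right fun e => hne (hs0.trans e.symm)
    have hswap : ∀ b c : ℤ, (b = 0 ∧ c = 1 ∨ b = 1 ∧ c = 0) → σ b = c := by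
      rintro b c (⟨rfl, rfl⟩ | ⟨rfl, rfl⟩) <;> assumption
    by_cases hmv : ∃ b c : ℤ, (b = 0 ∧ c = 1 ∨ b = 1 ∧ c = 0) ∧ τ b = c
    · obtain ⟨b, c, hbc, hτb⟩ := hmv
      have hσc : σ c = b := hswap c b (by tauto)
      have hσb : σ b = c := hswap b c hbc
      have hvc : Δ.Maps (v c) c b := by simpa only [hσc] using vM c
      have hvb : Δ.Maps (v b) b c := by simpa only [hσb] using vM b
      have hhb : Δ.Maps (h b) b c := by simpa only [hτb] using hM b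
      refine ⟨b, ⟨v c * h b, Δ.maps_mul hhb hvc, by rw [cj, ht, vt]⟩, L1 b ?_⟩
      rw [hτb]
      have hτc : τ c = b ∨ τ c = c := by
        rcases hτ c with e | e <;> rcases hbc with ⟨rfl, rfl⟩ | ⟨rfl, rfl⟩ <;> simp [e]
      rcases hτc with e | e
      · exact ⟨v b * h c, Δ.maps_mul (by simpa only [e] using hM c) hvb, by rw [cj, ht, vt]⟩
      · refine ⟨h c * (h b * v c), Δ.maps_mul (Δ.maps_mul hvc hhb) (by simpa only [e] using hM c), ?_⟩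
        rw [cj, cj, vt, cm (h b) Δ.t Δ.z, ht, hz, hτb, cm (h c) Δ.t, ht, hf]
    · push Not at hmv
      have hτ0 : τ 0 = 0 := (hτ 0).resolve_right (hmv 0 1 (Or.inl ⟨rfl, rfl⟩))
      have hτ1 : τ 1 = 1 := (hτ 1).resolve_left (hmv 1 0 (Or.inr ⟨rfl, rfl⟩))
      have hv : Δ.Maps (v 0) 0 1 := by simpa only [hs0] using vM 0
      have hh1 : Δ.Maps (h 1) 1 1 := by simpa only [hτ1] using hM 1
      have hh0 : Δ.Maps (h 0) 0 0 := by simpa only [hτ0] using hM 0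
      have hvf : v 0 * (Δ.c ^ (0 : ℤ) * Δ.s) * (v 0)⁻¹ = Δ.c ^ (1 : ℤ) * Δ.s := by
        simpa only [hs0] using vf 0
      have hvtz : v 0 * (Δ.t * Δ.z) * (v 0)⁻¹ = Δ.t := by
        rw [cm, vt, vz, mul_assoc, Δ.zz, mul_one]
      have hQ : Δ.Maps (Δ.u * ((v 0)⁻¹ * ((h 1)⁻¹ * v 0))) 0 0 ∧
          Δ.u * ((v 0)⁻¹ * ((h 1)⁻¹ * v 0)) * Δ.t * (Δ.u * ((v 0)⁻¹ * ((h 1)⁻¹ * v 0)))⁻¹
            = Δ.t * (Δ.c ^ (0 : ℤ) * Δ.s) := by
        refine ⟨Δ.maps_mul (Δ.maps_mul (Δ.maps_mul hv (Δ.maps_inv hh1)) (Δ.maps_inv hv))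
          (Δ.u_maps 0), ?_⟩
        rw [cj, cj, cj, vt, cm (h 1)⁻¹ Δ.t Δ.z, ci _ _ _ (ht 1), ci _ _ _ (hf 1),
          cm (v 0)⁻¹ Δ.t, ci _ _ _ hvtz, ci _ _ _ hvf,
          mul_assoc Δ.t, cm Δ.u Δ.t, Δ.u_t, cm Δ.u Δ.z, Δ.u_z, Δ.u_conj, ← mul_assoc Δ.z, Δ.zz,
          one_mul]
      refine ⟨0, ⟨h 0 * (Δ.u * ((v 0)⁻¹ * ((h 1)⁻¹ * v 0))), Δ.maps_mul hQ.1 hh0, ?_⟩, _, hQ.1, hQ.2⟩
      rw [cj, hQ.2, cm (h 0) Δ.t, ht, hf]

include Δ in
/-- There is no simple group with such an involution. -/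
theorem false_of_simple [IsSimpleGroup G] (hG : ¬ IsMulCommutative G) : False := by
  classical
  haveI : Fact (Nat.Prime 2) := ⟨Nat.prime_two⟩
  obtain ⟨S, w, hRS, hScard, hwS, hwt, hwz, hwR, hp2, hp1, hSt⟩ := Δ.sylow_facts hG
  obtain ⟨i, ⟨g1, hg1, hg1t⟩, g2, hg2, hg2t⟩ := Δ.exists_full hwt hwz hwR hp1 hp2
  set N := normalizer (Δ.A i : Set G) with hN
  have memN : ∀ g, Δ.Maps g i i → g ∈ N := fun g hg => Subgroup.mem_normalizer_iff.2 hg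
  set C := (centralizer ({Δ.t} : Set G)).subgroupOf N with hC
  -- the orbit of `t`
  have hidx : 4 ∣ C.index := by
    let φ : N ⧸ C → G := Quotient.lift (fun g : N => (g : G) * Δ.t * (g : G)⁻¹) fun a b hab => by
      have h1 := QuotientGroup.leftRel_apply.1 hab
      rw [hC, Subgroup.mem_subgroupOf, Subgroup.mem_centralizer_singleton_iff] at h1
      push_cast at h1
      calc (a : G) * Δ.t * (a : G)⁻¹
          = (a : G) * ((a : G)⁻¹ * b * Δ.t) * (b : G)⁻¹ * 1 := by rw [h1]; group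
        _ = (b : G) * Δ.t * (b : G)⁻¹ := by group
    have hinj : Function.Injective φ := by
      rintro ⟨a⟩ ⟨b⟩ e
      refine Quotient.sound (QuotientGroup.leftRel_apply.2 ?_)
      have e' : (a : G) * Δ.t * (a : G)⁻¹ = (b : G) * Δ.t * (b : G)⁻¹ := e
      rw [hC, Subgroup.mem_subgroupOf, Subgroup.mem_centralizer_singleton_iff]
      push_cast
      calc (a : G)⁻¹ * b * Δ.t = (a : G)⁻¹ * ((b : G) * Δ.t * (b : G)⁻¹) * b := by group
        _ = (a : G)⁻¹ * ((a : G) * Δ.t * (a : G)⁻¹) * b := by rw [e']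
        _ = Δ.t * ((a : G)⁻¹ * b) := by group
    have hrange : Set.range φ =
        ↑({Δ.t, Δ.t * Δ.z, Δ.t * (Δ.c ^ i * Δ.s), Δ.t * (Δ.z * (Δ.c ^ i * Δ.s))} : Finset G) := by
      ext x
      simp only [Finset.coe_insert, Finset.coe_singleton, Set.mem_insert_iff, Set.mem_singleton_iff]
      constructor
      · rintro ⟨⟨a⟩, rfl⟩
        exact (Δ.A_conjugates hp2 hp1 ((Subgroup.mem_normalizer_iff.1 a.2 Δ.t).1 (Δ.A_t_mem i))).1
          (isConj_iff.2 ⟨a, rfl⟩)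
      · rintro (rfl | rfl | rfl | rfl)
        · exact ⟨QuotientGroup.mk (1 : N), show ((1 : N) : G) * Δ.t * ((1 : N) : G)⁻¹ = Δ.t by simp⟩
        · exact ⟨QuotientGroup.mk (⟨g1, memN _ hg1⟩ : N), hg1t⟩
        · exact ⟨QuotientGroup.mk (⟨g2, memN _ hg2⟩ : N), hg2t⟩
        · refine ⟨QuotientGroup.mk (⟨Δ.u * g2, memN _ (Δ.maps_mul hg2 (Δ.u_maps i))⟩ : N), ?_⟩
          show Δ.u * g2 * Δ.t * (Δ.u * g2)⁻¹ = _
          rw [show Δ.u * g2 * Δ.t * (Δ.u * g2)⁻¹ = Δ.u * (g2 * Δ.t * g2⁻¹) * Δ.u⁻¹ by group, hg2t,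
            show Δ.u * (Δ.t * (Δ.c ^ i * Δ.s)) * Δ.u⁻¹
              = (Δ.u * Δ.t * Δ.u⁻¹) * (Δ.u * (Δ.c ^ i * Δ.s) * Δ.u⁻¹) by group, Δ.u_t, Δ.u_conj]
    have hzne : Δ.z ≠ 1 := fun e => by
      have := Δ.z_order
      rw [e, orderOf_one] at this
      omega
    have hfne : Δ.c ^ i * Δ.s ≠ 1 := fun e => Δ.refl_ne i 0 (e.trans (zpow_zero _).symm)
    have hfz : Δ.c ^ i * Δ.s ≠ Δ.z := fun e => Δ.refl_ne i _ (e.trans Δ.z_zpow)
    have hzf : Δ.z * (Δ.c ^ i * Δ.s) ≠ 1 := fun e => hfz (by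
      rw [← mul_one Δ.z, ← e, ← mul_assoc, Δ.zz, one_mul])
    rw [Subgroup.index_eq_card, Nat.card_congr (Equiv.ofInjective φ hinj), hrange,
      Nat.card_coe_set_eq, Set.ncard_coe_finset]
    rw [Finset.card_insert_of_notMem, Finset.card_insert_of_notMem, Finset.card_insert_of_notMem,
      Finset.card_singleton]
    · simp only [Finset.mem_singleton, mul_right_inj]
      intro e
      exact hzne (mul_right_cancel (b := Δ.c ^ i * Δ.s) (by rw [one_mul]; exact e.symm))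
    · simp only [Finset.mem_insert, Finset.mem_singleton, mul_right_inj, not_or]
      exact ⟨Ne.symm hfz, fun e => hfne (mul_left_cancel (a := Δ.z) (by rw [mul_one]; exact e.symm))⟩
    · simp only [Finset.mem_insert, Finset.mem_singleton, left_eq_mul, not_or]
      exact ⟨hzne, hfne, hzf⟩
  -- the stabiliser of `t`
  have hCdvd : 16 ∣ Nat.card C := by
    set K := Δ.A i ⊔ zpowers Δ.u with hK
    have hKR : K ≤ Δ.R := sup_le inf_le_left (zpowers_le.2 Δ.u_mem)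
    have hKN : K ≤ N := sup_le Subgroup.le_normalizer (zpowers_le.2 (memN _ (Δ.u_maps i)))
    have hKC : K ≤ centralizer ({Δ.t} : Set G) := fun x hx =>
      Subgroup.mem_centralizer_singleton_iff.2 (Δ.R_commute_t (hKR hx)).eq
    obtain ⟨a, ha⟩ := IsPGroup.iff_card.1 (Δ.R_two.to_le hKR)
    have h8 : 8 < Nat.card K := by
      rcases Nat.lt_or_ge 8 (Nat.card K) with h | h
      · exact h
      · exfalso
        have hu : Δ.u ∈ Δ.A i := by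
          rw [show Δ.A i = Δ.A i ⊔ zpowers Δ.u from
            Subgroup.eq_of_le_of_card_ge le_sup_left (by rw [Δ.A_card]; exact h)]
          exact mem_sup_right (mem_zpowers _)
        have := Δ.z_order
        rw [← Δ.u_sq, (Δ.A_elem hu).1, orderOf_one] at this
        omega
    have h4 : 4 ≤ a := by
      by_contra h
      have h9 : 2 ^ a ≤ 2 ^ 3 := Nat.pow_le_pow_right two_pos (by omega)
      omega
    refine ((pow_dvd_pow 2 h4).trans (ha ▸ dvd_refl _) : 2 ^ 4 ∣ Nat.card K).trans ?_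
    rw [← Nat.card_congr (subgroupOfEquivOfLe hKN).toEquiv]
    exact Subgroup.card_dvd_of_le fun x hx => hKC hx
  have hN64 : 2 ^ 6 ∣ Nat.card N := by
    rw [← Subgroup.card_mul_index C]
    exact (show 2 ^ 6 = 16 * 4 by norm_num) ▸ Nat.mul_dvd_mul hCdvd hidx
  -- a Sylow subgroup of the normalizer
  have hAN : Δ.A i ≤ N := Subgroup.le_normalizer
  obtain ⟨P, hP⟩ := ((Δ.A_two i).comap_of_injective N.subtype N.subtype_injective).exists_le_sylow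
  have hP64 : 2 ^ 6 ∣ Nat.card (P : Subgroup N) :=
    (Nat.Coprime.pow_left 6 ((Nat.Prime.coprime_iff_not_dvd Nat.prime_two).2 P.not_dvd_index)).dvd_of_dvd_mul_right
      (by rwa [Subgroup.card_mul_index])
  obtain ⟨S', hS'⟩ := (P.isPGroup'.map N.subtype).exists_le_sylow
  obtain ⟨g, hg⟩ := MulAction.exists_smul_eq G S' S
  have hgS : ∀ x ∈ (S' : Subgroup G), g * x * g⁻¹ ∈ (S : Subgroup G) := by
    intro x hx
    have h1 : g * x * g⁻¹ ∈ ((g • S' : Sylow 2 G) : Subgroup G) := by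
      rw [Cfsg.Lib.Transfer.sylow_smul_coe, Cfsg.Lib.Transfer.mem_map_conj]
      simpa [mul_assoc] using hx
    rwa [hg] at h1
  have hAS : ∀ x ∈ Δ.A i, g * x * g⁻¹ ∈ S := fun x hx =>
    hgS x (hS' ⟨⟨x, hAN hx⟩, hP hx, rfl⟩)
  have hidxR : (Δ.R.subgroupOf (S : Subgroup G)).index = 2 := by
    refine Nat.eq_of_mul_eq_mul_left (Nat.card_pos (α := Δ.R.subgroupOf (S : Subgroup G))) ?_
    rw [Subgroup.card_mul_index, Nat.card_congr (subgroupOfEquivOfLe hRS).toEquiv, hScard, mul_comm]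
  have hout : ∀ x ∈ (S : Subgroup G), ∀ y ∈ (S : Subgroup G), x ∉ Δ.R → y ∉ Δ.R → x⁻¹ * y ∈ Δ.R := by
    intro x hx y hy hxR hyR
    have := (Subgroup.mul_mem_iff_of_index_two hidxR (a := (⟨x, hx⟩ : (S : Subgroup G))⁻¹)
      (b := ⟨y, hy⟩)).2 (by
        simp only [Subgroup.mem_subgroupOf, Subgroup.coe_inv, inv_mem_iff]
        exact iff_of_false hxR hyR)
    simpa [Subgroup.mem_subgroupOf] using this
  have hzc : ∀ x ∈ (S : Subgroup G), Commute x Δ.z := by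
    intro x hx
    by_cases hxR : x ∈ Δ.R
    · exact Δ.R_commute_z hxR
    · have h1 := Δ.R_commute_z (hout w hwS x hx (fun hwmem => by
        have h2 := hwt
        rw [Δ.cent_t_eq (Δ.R_commute_t hwmem)] at h2
        have h3 := Δ.z_order
        rw [mul_left_cancel (a := Δ.t) (h2.symm.trans (mul_one _).symm), orderOf_one] at h3
        omega) hxR)
      have h2 : Commute (w * (w⁻¹ * x)) Δ.z := Commute.mul_left (mul_inv_eq_iff_eq_mul.1 hwz) h1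
      rwa [mul_inv_cancel_left] at h2
  set A' := (Δ.A i).map (MulAut.conj g).toMonoidHom with hA'
  have hA'S : A' ≤ S := by
    rintro _ ⟨x, hx, rfl⟩
    exact hAS x hx
  have hA'c : ∀ x ∈ A', x * x = 1 ∧ ∀ y ∈ A', Commute x y := by
    rintro _ ⟨x, hx, rfl⟩
    refine ⟨by rw [← map_mul, (Δ.A_elem hx).1, map_one], ?_⟩
    rintro _ ⟨y, hy, rfl⟩
    exact ((Δ.A_elem hx).2 y hy).map _
  have hA'8 : Nat.card A' = 8 := by
    rw [hA', Subgroup.card_map_of_injective (MulAut.conj g).injective, Δ.A_card]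
  -- `z` lies in the conjugate
  have hzA' : Δ.z ∈ A' := by
    set y := g⁻¹ * Δ.z * g with hy
    have hyA : ∀ x ∈ Δ.A i, Commute y x := fun x hx => by
      have h1 := ((hzc _ (hAS x hx)).symm).map (MulAut.conj g⁻¹)
      simpa [hy, mul_assoc] using h1
    have hy2 : y * y = 1 := by
      rw [hy, show g⁻¹ * Δ.z * g * (g⁻¹ * Δ.z * g) = g⁻¹ * (Δ.z * Δ.z) * g by group, Δ.zz]
      group
    set B := Δ.A i ⊔ zpowers y with hB
    have hBc : ∀ x ∈ B, x * x = 1 ∧ ∀ v ∈ B, Commute x v := by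
      have hcl : B = Subgroup.closure ((Δ.A i : Set G) ∪ {y}) := by
        rw [Subgroup.closure_union, Subgroup.closure_eq, ← Subgroup.zpowers_eq_closure]
      haveI hcomm : IsMulCommutative B := by
        rw [hcl]
        exact Subgroup.isMulCommutative_closure (by
          rintro a (ha | rfl) b (hb | rfl)
          · exact (Δ.A_elem ha).2 b hb
          · exact (hyA a ha).symm
          · exact hyA b hb
          · rfl)
      have hcc : ∀ x ∈ B, ∀ v ∈ B, Commute x v := fun x hx v hv =>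
        congrArg Subtype.val (mul_comm' (⟨x, hx⟩ : B) ⟨v, hv⟩)
      intro x hx
      refine ⟨?_, hcc x hx⟩
      have hx' := hx
      rw [hcl] at hx'
      induction hx' using Subgroup.closure_induction with
      | mem v hv =>
        rcases hv with hv | rfl
        · exact (Δ.A_elem hv).1
        · exact hy2
      | one => simp
      | mul v1 v2 h1 h2 e1 e2 =>
        rw [← hcl] at h1 h2
        rw [(hcc v2 h2 v1 h1).mul_mul_mul_comm, e1 h1, e2 h2, one_mul]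
      | inv v h1 e1 =>
        rw [← hcl] at h1
        rw [← mul_inv_rev, e1 h1, inv_one]
    have hB2 : IsPGroup 2 B := fun x => ⟨1, Subtype.ext (by
      rw [pow_one, pow_two]
      exact (hBc x x.2).1)⟩
    obtain ⟨k, -, hk⟩ := Δ.sylC B hB2 fun x hx => (hBc x hx).2 Δ.t (mem_sup_left (Δ.A_t_mem i))
    have hBR : B.map (MulAut.conj k).toMonoidHom ≤ Δ.R := by
      rintro _ ⟨x, hx, rfl⟩
      exact hk x hx
    have h8 := Δ.elem_le_eight hBR (by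
      rintro _ ⟨x, hx, rfl⟩
      refine ⟨by rw [← map_mul, (hBc x hx).1, map_one], ?_⟩
      rintro _ ⟨v, hv, rfl⟩
      exact ((hBc x hx).2 v hv).map _)
    rw [Subgroup.card_map_of_injective (MulAut.conj k).injective] at h8
    refine ⟨y, ?_, by simp [hy, mul_assoc]⟩
    rw [show Δ.A i = Δ.A i ⊔ zpowers y from
      Subgroup.eq_of_le_of_card_ge le_sup_left (by rw [Δ.A_card]; exact h8)]
    exact mem_sup_right (mem_zpowers _)
  -- an element of `A'` outside the centre of `R`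
  obtain ⟨x, hxA, hxR, j, hxj⟩ : ∃ x ∈ A', x ∈ Δ.R ∧
      ∃ j : ℤ, x = Δ.c ^ j * Δ.s ∨ x = Δ.t * (Δ.c ^ j * Δ.s) := by
    by_contra hcon
    push Not at hcon
    have hsmall : ∀ x ∈ A' ⊓ Δ.R, x = 1 ∨ x = Δ.t ∨ x = Δ.z ∨ x = Δ.t * Δ.z := by
      intro x hx
      rcases Δ.R_centre_or_refl hx.2 (hA'c x hx.1).1 with h | ⟨k, h | h⟩
      · exact h
      · exact absurd h (hcon x hx.1 hx.2 k).1
      · exact absurd h (hcon x hx.1 hx.2 k).2
    have h4 := Δ.centre_card _ hsmall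
    by_cases hle : A' ≤ Δ.R
    · rw [inf_eq_left.2 hle] at h4
      omega
    · obtain ⟨a0, ha0, ha0R⟩ := SetLike.not_le_iff_exists.1 hle
      have hcov : (A' : Set G) ⊆ ↑(A' ⊓ Δ.R) ∪ (fun x => a0 * x) '' ↑(A' ⊓ Δ.R) := by
        intro x hx
        by_cases hxR : x ∈ Δ.R
        · exact Or.inl ⟨hx, hxR⟩
        · exact Or.inr ⟨a0⁻¹ * x, ⟨A'.mul_mem (A'.inv_mem ha0) hx,
            hout a0 (hA'S ha0) x (hA'S hx) ha0R hxR⟩, mul_inv_cancel_left _ _⟩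
      have hc1 := (Set.ncard_le_ncard hcov (Set.toFinite _)).trans (Set.ncard_union_le _ _)
      rw [Set.ncard_image_of_injective _ (mul_right_injective a0), ← Nat.card_coe_set_eq,
        ← Nat.card_coe_set_eq] at hc1
      have h8 : 8 ≤ Nat.card ↥(A' ⊓ Δ.R) + Nat.card ↥(A' ⊓ Δ.R) := hA'8 ▸ hc1
      have htA : Δ.t ∈ A' ⊓ Δ.R := by
        by_contra htA
        have h3 : Nat.card ↥(A' ⊓ Δ.R) ≤ 3 := by
          calc Nat.card ↥(A' ⊓ Δ.R) = (↑(A' ⊓ Δ.R) : Set G).ncard := Nat.card_coe_set_eq _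
            _ ≤ (↑({1, Δ.z, Δ.t * Δ.z} : Finset G) : Set G).ncard := by
                refine Set.ncard_le_ncard (fun x hx => ?_) (Finset.finite_toSet _)
                rcases hsmall x hx with e | e | e | e
                · simp [e]
                · exact absurd (e ▸ hx) htA
                · simp [e]
                · simp [e]
            _ ≤ 3 := by rw [Set.ncard_coe_finset]; exact Finset.card_le_three
        omega
      exact hle fun x hx => hSt x (hA'S hx) ((hA'c x hx).2 Δ.t htA.1)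
  -- the normalizer of the conjugate inside `S` is too small
  set Q := ((P : Subgroup N).map N.subtype).map (MulAut.conj g).toMonoidHom with hQ
  have hQ64 : 2 ^ 6 ∣ Nat.card Q := by
    rw [hQ, Subgroup.card_map_of_injective (MulAut.conj g).injective,
      Subgroup.card_map_of_injective N.subtype_injective]
    exact hP64
  have hQS : Q ≤ S := by
    rintro _ ⟨v, hv, rfl⟩
    exact hgS v (hS' hv)
  have hQn : ∀ q ∈ Q, ∀ v ∈ A', q * v * q⁻¹ ∈ A' := by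
    rintro _ ⟨q, ⟨q0, -, rfl⟩, rfl⟩ _ ⟨v, hv, rfl⟩
    refine ⟨q0 * v * (q0 : G)⁻¹, (Subgroup.mem_normalizer_iff.1 q0.2 v).1 hv, ?_⟩
    simp [mul_assoc]
  let W : Set G := ↑(Δ.A j) ∪ (fun v => Δ.u * v) '' ↑(Δ.A j)
  have hQW : ∀ r ∈ Q, r ∈ Δ.R → r ∈ W := by
    intro r hr hrR
    have h1 := hQn r hr x hxA
    have h1R : r * x * r⁻¹ ∈ Δ.R := Δ.conj_R hrR x hxR
    obtain ⟨a, ha, hxe⟩ : ∃ a, (a = 1 ∨ a = Δ.t) ∧ x = a * (Δ.c ^ j * Δ.s) := by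
      rcases hxj with e | e
      · exact ⟨1, Or.inl rfl, by rw [e, one_mul]⟩
      · exact ⟨Δ.t, Or.inr rfl, e⟩
    have har : r * a * r⁻¹ = a := by
      rcases ha with rfl | rfl
      · group
      · exact Δ.cent_t_eq (Δ.R_commute_t hrR)
    have hmemA : r * x * r⁻¹ ∈ Δ.A j := Δ.comm_mem_A hxj h1R ((hA'c _ h1).2 x hxA)
    have hfA : r * (Δ.c ^ j * Δ.s) * r⁻¹ ∈ Δ.A j := by
      have h2 : a⁻¹ * (r * x * r⁻¹) ∈ Δ.A j := mul_mem (inv_mem (by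
        rcases ha with rfl | rfl
        · exact one_mem _
        · exact Δ.A_t_mem j)) hmemA
      rwa [hxe, show r * (a * (Δ.c ^ j * Δ.s)) * r⁻¹ = (r * a * r⁻¹) * (r * (Δ.c ^ j * Δ.s) * r⁻¹) by group,
        har, inv_mul_cancel_left] at h2
    have hdich : r * (Δ.c ^ j * Δ.s) * r⁻¹ = Δ.c ^ j * Δ.s ∨
        r * (Δ.c ^ j * Δ.s) * r⁻¹ = Δ.z * (Δ.c ^ j * Δ.s) := by
      have hrr : ∃ k : ℤ, r * (Δ.c ^ j * Δ.s) * r⁻¹ = Δ.c ^ k * Δ.s := by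
        obtain ⟨b, hb, d, hd, rfl⟩ := Δ.R_cases hrR
        have hb' : ∀ k : ℤ, b * (Δ.c ^ k * Δ.s) * b⁻¹ = Δ.c ^ k * Δ.s := fun k => by
          rcases hb with rfl | rfl
          · simp
          · rw [(show Δ.InD (Δ.c ^ k * Δ.s) from Or.inr ⟨k, rfl⟩).commute_t.eq, mul_inv_cancel_right]
        rcases hd with ⟨l, rfl⟩ | ⟨l, rfl⟩
        · refine ⟨l + j + l, ?_⟩
          rw [show b * (fun v => Δ.c ^ v) l * (Δ.c ^ j * Δ.s) * (b * (fun v => Δ.c ^ v) l)⁻¹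
            = b * (Δ.c ^ l * (Δ.c ^ j * Δ.s) * (Δ.c ^ l)⁻¹) * b⁻¹ by simp only []; group,
            show Δ.c ^ l * (Δ.c ^ j * Δ.s) * (Δ.c ^ l)⁻¹ = Δ.c ^ (l + j + l) * Δ.s by
              rw [← zpow_neg, mul_assoc, mul_assoc (Δ.c ^ j), Δ.conj_zpow', neg_neg, ← mul_assoc,
                ← mul_assoc, ← zpow_add, ← zpow_add], hb']
        · refine ⟨l + -j + l, ?_⟩
          rw [show b * (Δ.c ^ l * Δ.s) * (Δ.c ^ j * Δ.s) * (b * (Δ.c ^ l * Δ.s))⁻¹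
            = b * (Δ.c ^ l * Δ.s * (Δ.c ^ j * Δ.s) * (Δ.c ^ l * Δ.s)⁻¹) * b⁻¹ by group,
            show Δ.c ^ l * Δ.s * (Δ.c ^ j * Δ.s) * (Δ.c ^ l * Δ.s)⁻¹ = Δ.c ^ (l + -j + l) * Δ.s by
              rw [mul_inv_rev, Δ.s_inv, mul_assoc (Δ.c ^ l), ← mul_assoc Δ.s, Δ.conj_zpow',
                mul_assoc (Δ.c ^ (-j)), Δ.hs, mul_one, ← zpow_neg, ← zpow_add, Δ.conj_zpow',
                neg_neg, ← mul_assoc, ← zpow_add], hb']
      obtain ⟨k, hk⟩ := hrr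
      obtain ⟨b, v, f, hb, hv, hf, e⟩ := Δ.A_cases (hk ▸ hfA)
      have hvf : Δ.InD (v * f) := by
        rcases hf with rfl | rfl
        · rcases hv with rfl | rfl
          · exact Or.inl (by simp)
          · rw [mul_one]; exact Δ.z_InD
        · rcases hv with rfl | rfl
          · exact Or.inr ⟨j, one_mul _⟩
          · exact Or.inr ⟨((2 ^ (Δ.n - 1) : ℕ) : ℤ) + j, by rw [zpow_add, ← Δ.z_zpow, mul_assoc]⟩
      obtain ⟨-, e'⟩ := Δ.split_eq (Or.inl rfl) hb (Or.inr ⟨k, rfl⟩) hvf (by rw [one_mul]; exact e)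
      rw [hk, e']
      rcases hf with rfl | rfl
      · exfalso
        rcases hv with rfl | rfl
        · exact Δ.refl_ne k 0 (by rw [e', zpow_zero, mul_one])
        · exact Δ.refl_ne k _ (by rw [e', mul_one, Δ.z_zpow])
      · rcases hv with rfl | rfl
        · exact Or.inl (one_mul _)
        · exact Or.inr rfl
    rcases hdich with e | e
    · exact Or.inl (Δ.mem_A.2 ⟨hrR, mul_inv_eq_iff_eq_mul.1 e⟩)
    · refine Or.inr ⟨Δ.u⁻¹ * r, Δ.mem_A.2 ⟨mul_mem (inv_mem Δ.u_mem) hrR, ?_⟩, mul_inv_cancel_left _ _⟩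
      refine mul_inv_eq_iff_eq_mul.1 ?_
      rw [show Δ.u⁻¹ * r * (Δ.c ^ j * Δ.s) * (Δ.u⁻¹ * r)⁻¹
        = Δ.u⁻¹ * (r * (Δ.c ^ j * Δ.s) * r⁻¹) * Δ.u by group, e, ← Δ.u_conj j]
      group
  have hW : W.ncard ≤ 16 := by
    refine (Set.ncard_union_le _ _).trans ?_
    rw [Set.ncard_image_of_injective _ (mul_right_injective _), ← Nat.card_coe_set_eq]
    have := Δ.A_card j
    simp only [SetLike.coe_sort_coe, this]
    norm_num
  have h32 : Nat.card Q ≤ 32 := by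
    by_cases hle : Q ≤ Δ.R
    · calc Nat.card Q = (Q : Set G).ncard := Nat.card_coe_set_eq _
        _ ≤ W.ncard := Set.ncard_le_ncard (fun r hr => hQW r hr (hle hr)) (Set.toFinite _)
        _ ≤ 32 := hW.trans (by norm_num)
    · obtain ⟨q0, hq0, hq0R⟩ := SetLike.not_le_iff_exists.1 hle
      calc Nat.card Q = (Q : Set G).ncard := Nat.card_coe_set_eq _
        _ ≤ (W ∪ (fun v => q0 * v) '' W).ncard := by
            refine Set.ncard_le_ncard (fun r hr => ?_) (Set.toFinite _)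
            by_cases hrR : r ∈ Δ.R
            · exact Or.inl (hQW r hr hrR)
            · exact Or.inr ⟨q0⁻¹ * r, hQW _ (mul_mem (inv_mem hq0) hr)
                (hout q0 (hQS hq0) r (hQS hr) hq0R hrR), mul_inv_cancel_left _ _⟩
        _ ≤ 32 := by
            refine (Set.ncard_union_le _ _).trans ?_
            rw [Set.ncard_image_of_injective _ (mul_right_injective q0)]
            omega
  have h64 := Nat.le_of_dvd Nat.card_pos hQ64
  omega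

end DihFrame

end Cfsg.Lib.TwoTimesPSL
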