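/-
A group `K` acting affinely and faithfully-linearly on a field `F` of characteristic two,
transitively, with point stabilisers of odd order containing all scalars: basic facts.
-/
import Mathlib
import Cfsg.Agent.TwoTimesPSL.TwoPart

set_option autoImplicit false
set_option linter.unusedSectionVars false
set_option linter.style.haveILetI false

namespace Cfsg.Lib.TwoTimesPSL

open Subgroup MulAction

/-- Hypotheses on the action. -/
structure Aff (K F : Type*) [Group K] [Field F] [MulAction K F] (n : ℕ) : Prop where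
  char2 : (2 : F) = 0
  card : Nat.card F = 2 ^ n
  three : 3 ≤ n
  aff : ∀ (g : K) (x y : F), g • (x + y) = g • x + g • y + g • (0 : F)
  inj : ∀ g : K, (∀ x : F, g • x + g • (0 : F) = x) → g = 1
  trans : ∀ x : F, ∃ g : K, g • (0 : F) = x
  odd : Odd (Nat.card (stabilizer K (0 : F)))
  scal : ∀ c : F, c ≠ 0 → ∃ τ : K, ∀ x : F, τ • x = c * x
  semi : ∀ g : K, g • (0 : F) = 0 → ∃ σ : F ≃+* F, ∀ x : F, g • x = g • (1 : F) * σ x

variable {K F : Type*} [Group K] [Finite K] [Field F] [Finite F] [MulAction K F] {n : ℕ}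

/-- The linear part. -/
def L (g : K) (x : F) : F := g • x + g • (0 : F)

/-- The fixed points of an element. -/
abbrev Fix (K F : Type*) [SMul K F] (g : K) : Set F := {x : F | g • x = x}

namespace Aff

variable (h : Aff K F n)

include h

theorem dbl (x : F) : x + x = 0 := by rw [← two_mul, h.char2, zero_mul]

theorem neg_eq (x : F) : -x = x := neg_eq_of_add_eq_zero_left (h.dbl x)

theorem smul_eq (g : K) (x : F) : g • x = L g x + g • (0 : F) := by
  rw [L, add_assoc, h.dbl, add_zero]

theorem L_add (g : K) (x y : F) : L g (x + y) = L g x + L g y := by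
  simp only [L, h.aff]
  ring

theorem L_zero (g : K) : L g (0 : F) = 0 := h.dbl _

theorem L_one (x : F) : L (1 : K) x = x := by simp only [L, one_smul, add_zero]

theorem L_mul (g g' : K) (x : F) : L (g * g') x = L g (L g' x) := by
  simp only [L, mul_smul]
  rw [h.aff g (g' • x) (g' • (0 : F)), add_assoc (g • g' • x + g • g' • (0 : F)), h.dbl, add_zero]

theorem L_inv (g : K) (x : F) : L g⁻¹ (L g x) = x := by
  rw [← h.L_mul, inv_mul_cancel, h.L_one]

theorem L_inj (g : K) {x y : F} (e : L g x = L g y) : x = y := by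
  rw [← h.L_inv g x, e, h.L_inv]

theorem L_sum (g : K) {ι : Type*} (s : Finset ι) (f : ι → F) :
    L g (∑ i ∈ s, f i) = ∑ i ∈ s, L g (f i) := by
  classical
  induction s using Finset.induction_on with
  | empty => simpa using h.L_zero g
  | insert a s ha ih => rw [Finset.sum_insert ha, h.L_add, ih, Finset.sum_insert ha]

theorem eq_one_of_fix {g : K} (hg : ∀ x : F, g • x = x) : g = 1 :=
  h.inj g fun x => by rw [hg x, hg 0, add_zero]

theorem smul_ext {g g' : K} (he : ∀ x : F, g • x = g' • x) : g = g' :=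
  (inv_mul_eq_one.1 (h.eq_one_of_fix fun x => by rw [mul_smul, he x, inv_smul_smul] :
    g'⁻¹ * g = 1)).symm

theorem q_even : Even (Nat.card F) := by
  rw [h.card, Nat.even_pow]
  exact ⟨even_two, by have := h.three; omega⟩

theorem odd_stab (x : F) : Odd (Nat.card (stabilizer K x)) := by
  obtain ⟨g, rfl⟩ := h.trans x
  rw [Nat.card_congr (stabilizerEquivStabilizer (g := g) (a := (0 : F)) rfl).toEquiv.symm]
  exact h.odd

theorem odd_of_fix {g : K} {x : F} (hx : g • x = x) : Odd (orderOf g) := by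
  have h1 : orderOf (⟨g, hx⟩ : stabilizer K x) ∣ Nat.card (stabilizer K x) := orderOf_dvd_natCard _
  rw [← Subgroup.orderOf_coe] at h1
  exact (h.odd_stab x).of_dvd_nat h1

theorem fix_of_odd {s : K} (hs : Odd (orderOf s)) : ∃ x : F, s • x = x := by
  refine ⟨∑ i ∈ Finset.range (orderOf s), s ^ i • (0 : F), ?_⟩
  have h1 : ∀ i : ℕ, L s (s ^ i • (0 : F)) = s ^ (i + 1) • (0 : F) + s • (0 : F) := fun i => by
    rw [L, pow_succ', mul_smul]
  obtain ⟨k, hk⟩ := hs
  have h2 : ∑ i ∈ Finset.range (orderOf s), s ^ (i + 1) • (0 : F)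
      = ∑ i ∈ Finset.range (orderOf s), s ^ i • (0 : F) := by
    have e1 := Finset.sum_range_succ' (fun i => s ^ i • (0 : F)) (orderOf s)
    have e2 := Finset.sum_range_succ (fun i => s ^ i • (0 : F)) (orderOf s)
    simp only [pow_orderOf_eq_one, pow_zero, one_smul, add_zero] at e1 e2
    exact e1.symm.trans e2
  have h3 : ∑ _i ∈ Finset.range (orderOf s), s • (0 : F) = s • (0 : F) := by
    rw [Finset.sum_const, Finset.card_range, hk, add_nsmul, mul_nsmul, one_nsmul, two_nsmul,
      h.dbl]
    simp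
  rw [h.smul_eq, h.L_sum, Finset.sum_congr rfl (fun i _ => h1 i), Finset.sum_add_distrib, h2, h3,
    add_assoc, h.dbl, add_zero]

theorem trans2 {x y : F} (hxy : x ≠ y) : ∃ g : K, g • (0 : F) = x ∧ g • (1 : F) = y := by
  obtain ⟨g, hg⟩ := h.trans x
  have hc : g⁻¹ • y ≠ 0 := fun e => hxy (by rw [← hg, ← e, smul_inv_smul])
  obtain ⟨τ, hτ⟩ := h.scal _ hc
  exact ⟨g * τ, by rw [mul_smul, hτ, mul_zero, hg],
    by rw [mul_smul, hτ, mul_one, smul_inv_smul]⟩

/-- `K` as a permutation group on `F` through linear parts. -/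
def Lhom : K →* Equiv.Perm F where
  toFun g := ⟨L g, L g⁻¹, h.L_inv g, fun x => by
    have := h.L_inv g⁻¹ x
    rwa [inv_inv] at this⟩
  map_one' := Equiv.ext h.L_one
  map_mul' g g' := Equiv.ext (h.L_mul g g')

theorem exists_lin_fixed {P : Subgroup K} (hP : IsPGroup 2 P) :
    ∃ e : F, e ≠ 0 ∧ ∀ u ∈ P, L u e = e := by
  letI : MulAction P F := MulAction.compHom F ((h.Lhom).comp P.subtype)
  haveI : Fact (Nat.Prime 2) := ⟨Nat.prime_two⟩
  obtain ⟨e, he, hne⟩ := hP.exists_fixed_point_of_prime_dvd_card_of_fixed_point F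
    (even_iff_two_dvd.1 h.q_even) (a := 0) (fun g => h.L_zero (g : K))
  exact ⟨e, fun e' => hne e'.symm, fun u hu => he ⟨u, hu⟩⟩

theorem card_group : Nat.card K = Nat.card F * Nat.card (stabilizer K (0 : F)) := by
  rw [← Subgroup.card_mul_index (stabilizer K (0 : F)), index_stabilizer, mul_comm]
  congr 1
  have : MulAction.orbit K (0 : F) = Set.univ := Set.eq_univ_of_forall fun x => h.trans x
  rw [this, Set.ncard_univ]

theorem sylow_card (P : Sylow 2 K) : Nat.card (P : Subgroup K) = 2 ^ n := by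
  rw [Sylow.card_eq_multiplicity, h.card_group, h.card]
  congr 1
  have h1 : ¬ 2 ∣ Nat.card (stabilizer K (0 : F)) := Nat.two_dvd_ne_zero.2 (Nat.odd_iff.1 h.odd)
  rw [Nat.factorization_mul (by positivity) (Nat.card_pos.ne')]
  rw [Finsupp.add_apply, Nat.factorization_eq_zero_of_not_dvd h1, add_zero,
    Nat.Prime.factorization_pow Nat.prime_two, Finsupp.single_eq_same]

theorem not_normal_sylow (P : Sylow 2 K) : ¬ (P : Subgroup K).Normal := by
  intro hn
  obtain ⟨e, he, hfix⟩ := h.exists_lin_fixed P.isPGroup'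
  have h1 : ∀ u ∈ (P : Subgroup K), u = 1 := by
    intro u hu
    refine h.inj u fun x => ?_
    show L u x = x
    by_cases hx : x = 0
    · rw [hx, h.L_zero]
    obtain ⟨τ, hτ⟩ := h.scal (x / e) (div_ne_zero hx he)
    have hL : ∀ z, L τ z = x / e * z := fun z => by rw [L, hτ, hτ, mul_zero, add_zero]
    have h2 : L (τ⁻¹ * u * τ) e = e := hfix _ (by simpa using hn.conj_mem u hu τ⁻¹)
    have h3 := congrArg (L τ) h2
    rw [← h.L_mul, show τ * (τ⁻¹ * u * τ) = u * τ by group, h.L_mul, hL, div_mul_cancel₀ x he]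
      at h3
    exact h3
  have h4 := h.sylow_card P
  rw [Subgroup.eq_bot_iff_forall _ |>.2 h1, Subgroup.card_bot] at h4
  have h5 : 2 ^ 1 ≤ 2 ^ n := pow_le_pow_right₀ one_le_two (by have := h.three; omega)
  omega

/-- The fixed points of an element form a coset of an additive subgroup. -/
theorem card_fix_pow {s : K} {x₀ : F} (hx₀ : s • x₀ = x₀) :
    ∃ j : ℕ, Nat.card (Fix K F s) = 2 ^ j := by
  let V : AddSubgroup F :=
    { carrier := {y | L s y = y}
      zero_mem' := h.L_zero s
      add_mem' := fun {a b} ha hb => by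
        show L s (a + b) = a + b
        rw [h.L_add, show L s a = a from ha, show L s b = b from hb]
      neg_mem' := fun {a} ha => by
        show L s (-a) = -a
        rw [h.neg_eq]
        exact ha }
  have e : (Fix K F s) ≃ V :=
    { toFun := fun x => ⟨x + x₀, by
        show L s (x + x₀) = x + x₀
        have hx : s • (x : F) = x := x.2
        rw [h.L_add, L, L, hx, hx₀, add_add_add_comm, h.dbl, add_zero]⟩
      invFun := fun y => ⟨y + x₀, by
        show s • ((y : F) + x₀) = y + x₀
        have hy : L s (y : F) = y := y.2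
        rw [h.aff, hx₀, h.smul_eq s (y : F), hy]
        rw [show (y : F) + s • (0 : F) + x₀ + s • (0 : F) = y + x₀ + (s • (0 : F) + s • (0 : F))
          by ring, h.dbl, add_zero]⟩
      left_inv := fun x => Subtype.ext (by show (x : F) + x₀ + x₀ = x; rw [add_assoc, h.dbl, add_zero])
      right_inv := fun x => Subtype.ext (by show (x : F) + x₀ + x₀ = x; rw [add_assoc, h.dbl, add_zero]) }
  obtain ⟨j, -, hj⟩ := (Nat.dvd_prime_pow Nat.prime_two).1
    (h.card ▸ AddSubgroup.card_addSubgroup_dvd_card V)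
  exact ⟨j, (Nat.card_congr e).trans hj⟩

/-- If the centralizer of `s` is transitive on the fixed points, then it contains at least as many
2-elements. -/
theorem card_fix_le {s : K} {x₀ : F} (hx₀ : s • x₀ = x₀)
    (ht : ∀ x : F, s • x = x → ∃ c : K, Commute c s ∧ c • x₀ = x) :
    Nat.card (Fix K F s) ≤ Nat.card {u : K // IsTwoEl u ∧ Commute u s} := by
  haveI : Fact (Nat.Prime 2) := ⟨Nat.prime_two⟩
  obtain ⟨j, hj⟩ := h.card_fix_pow hx₀
  set C := Subgroup.centralizer ({s} : Set K) with hC
  have hmem : ∀ {c : K}, c ∈ C ↔ Commute c s := fun {c} => by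
    rw [hC, Subgroup.mem_centralizer_iff]
    simp [Commute, SemiconjBy, eq_comm]
  have horb : MulAction.orbit C x₀ = Fix K F s := by
    ext x
    constructor
    · rintro ⟨⟨c, hc⟩, rfl⟩
      show s • (c • x₀) = c • x₀
      rw [← mul_smul, ← (hmem.1 hc).eq, mul_smul, hx₀]
    · intro hx
      obtain ⟨c, hc, hcx⟩ := ht x hx
      exact ⟨⟨c, hmem.2 hc⟩, hcx⟩
  have hdvd : 2 ^ j ∣ Nat.card C := by
    rw [← hj, ← horb, Nat.card_coe_set_eq, ← index_stabilizer]
    exact Subgroup.index_dvd_card _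
  obtain ⟨Q, hQ⟩ := Sylow.exists_subgroup_card_pow_prime 2 hdvd
  rw [hj, ← hQ]
  refine Nat.card_le_card_of_injective (fun u => ⟨((u : C) : K), ?_, hmem.1 (u : C).2⟩) ?_
  · obtain ⟨i, hi⟩ := (IsPGroup.of_card hQ) u
    exact ⟨i, by simpa using congrArg (fun z : Q => ((z : C) : K)) hi⟩
  · intro a b e
    have e' := congrArg Subtype.val e
    exact Subtype.ext (Subtype.ext e')

theorem card_one_twoEl_le (hn : ∀ P : Sylow 2 K, ¬ (P : Subgroup K).Normal) :
    2 ^ n < Nat.card {u : K // IsTwoEl u ∧ Commute u (1 : K)} := by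
  haveI : Fact (Nat.Prime 2) := ⟨Nat.prime_two⟩
  obtain ⟨P⟩ := (inferInstance : Nonempty (Sylow 2 K))
  let f : ↥(P : Subgroup K) → {u : K // IsTwoEl u ∧ Commute u (1 : K)} :=
    fun u => ⟨(u : K), IsTwoEl.of_mem P.isPGroup' u.2, Commute.one_right _⟩
  have hf : Function.Injective f := fun a b e => by
    have e' := congrArg Subtype.val e
    exact Subtype.ext e'
  rw [← h.sylow_card P]
  refine lt_of_le_of_ne (Nat.card_le_card_of_injective f hf) fun e => ?_
  have hb := (Nat.bijective_iff_injective_and_card f).2 ⟨hf, e⟩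
  refine hn P ⟨fun u hu g => ?_⟩
  obtain ⟨⟨v, hv⟩, hv'⟩ := hb.2 ⟨g * u * g⁻¹, by
    obtain ⟨i, hi⟩ := IsTwoEl.of_mem P.isPGroup' hu
    exact ⟨i, by rw [conj_pow, hi, mul_one, mul_inv_cancel]⟩, Commute.one_right _⟩
  have : v = g * u * g⁻¹ := congrArg Subtype.val hv'
  exact this ▸ hv

/-- Each pair (element, fixed point). -/
theorem sum_fix [Fintype K] :
    ∑ g : K, Nat.card (Fix K F g) = Nat.card F * Nat.card (stabilizer K (0 : F)) := by
  haveI := Fintype.ofFinite F
  have h1 : Nat.card (Σ g : K, Fix K F g) = Nat.card (Σ x : F, stabilizer K x) :=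
    Nat.card_congr
      { toFun := fun p => ⟨p.2.1, p.1, p.2.2⟩
        invFun := fun p => ⟨p.2.1, p.1, p.2.2⟩
        left_inv := fun _ => rfl
        right_inv := fun _ => rfl }
  rw [Nat.card_sigma, Nat.card_sigma] at h1
  rw [h1]
  have h2 : ∀ x : F, Nat.card (stabilizer K x) = Nat.card (stabilizer K (0 : F)) := fun x => by
    obtain ⟨g, rfl⟩ := h.trans x
    exact (Nat.card_congr (stabilizerEquivStabilizer (g := g) (a := (0 : F)) rfl).toEquiv).symm
  rw [Finset.sum_congr rfl (fun x _ => h2 x), Finset.sum_const, Finset.card_univ, smul_eq_mul,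
    ← Nat.card_eq_fintype_card]

/-- Some non-identity element fixes a point and has centralizer not transitive on its fixed
points. -/
theorem exists_intransitive : ∃ s : K, s ≠ 1 ∧ ∃ x y : F, s • x = x ∧ s • y = y ∧
    ¬ ∃ c : K, Commute c s ∧ c • x = y := by
  classical
  by_contra hcon
  push Not at hcon
  haveI := Fintype.ofFinite K
  haveI := Fintype.ofFinite F
  have h2 := h.card_one_twoEl_le (fun P => h.not_normal_sylow P)
  set D : K → ℕ := fun s => Nat.card {u : K // IsTwoEl u ∧ Commute u s} with hD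
  have h3 : ∀ s : K, s ≠ 1 → Nat.card (Fix K F s) ≤
      if Odd (orderOf s) then D s else 0 := by
    intro s hs
    rcases isEmpty_or_nonempty (Fix K F s) with he | ⟨⟨x₀, hx₀⟩⟩
    · rw [Nat.card_of_isEmpty]
      exact Nat.zero_le _
    · rw [if_pos (h.odd_of_fix hx₀)]
      exact h.card_fix_le hx₀ fun x hx => hcon s hs x₀ x hx₀ hx
  have h4 : Nat.card (Fix K F (1 : K)) = Nat.card F := by
    refine Nat.card_congr (Equiv.subtypeUnivEquiv fun x => ?_)
    exact one_smul K x
  have h5 := card_eq_sum_split (K := K)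
  rw [← Finset.sum_subtype (Finset.univ.filter fun s : K => Odd (orderOf s)) (by simp) D,
    Finset.sum_filter, ← Finset.sum_erase_add _ _ (Finset.mem_univ (1 : K)),
    if_pos (by simp)] at h5
  have h6 := h.sum_fix
  rw [← Finset.sum_erase_add _ _ (Finset.mem_univ (1 : K)), h4, ← h.card_group] at h6
  have h7 := Finset.sum_le_sum (s := Finset.univ.erase (1 : K))
    fun s hs => h3 s (Finset.ne_of_mem_erase hs)
  rw [h.card] at h6
  have h8 : 2 ^ n < D 1 := h2
  omega

end Aff

end Cfsg.Lib.TwoTimesPSL
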