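/-
The affine groups of `AffineBase`: the two-point stabiliser is inverted by a swapping involution and
has prime order `n`.
-/
import Mathlib
import Cfsg.Agent.TwoTimesPSL.AffineBase

set_option autoImplicit false
set_option linter.unusedSectionVars false
set_option linter.style.haveILetI false

namespace Cfsg.Lib.TwoTimesPSL

open Subgroup MulAction

variable {K F : Type*} [Group K] [Finite K] [Field F] [Finite F] [MulAction K F] {n : ℕ}

/-- The elements fixing `0` and `1`. -/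
abbrev Phi (K F : Type*) [Group K] [Field F] [MulAction K F] : Subgroup K :=
  stabilizer K (0 : F) ⊓ stabilizer K (1 : F)

namespace Aff

variable (h : Aff K F n)

include h

theorem exists_auto {φ : K} (hφ : φ ∈ Phi K F) : ∃ σ : F ≃+* F, ∀ x : F, φ • x = σ x := by
  obtain ⟨σ, hσ⟩ := h.semi φ hφ.1
  exact ⟨σ, fun x => by rw [hσ x, show φ • (1 : F) = 1 from hφ.2, one_mul]⟩

theorem Phi_comm {φ ψ : K} (hφ : φ ∈ Phi K F) (hψ : ψ ∈ Phi K F) : Commute φ ψ := by
  haveI := Fintype.ofFinite F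
  obtain ⟨σ, hσ⟩ := h.exists_auto hφ
  obtain ⟨σ', hσ'⟩ := h.exists_auto hψ
  obtain ⟨ω, hω⟩ := IsCyclic.exists_generator (α := Fˣ)
  obtain ⟨i, hi⟩ := hω (Units.map σ.toMonoidHom ω)
  obtain ⟨j, hj⟩ := hω (Units.map σ'.toMonoidHom ω)
  refine h.smul_ext fun x => ?_
  rw [mul_smul, mul_smul, hσ', hσ, hσ, hσ']
  by_cases hx : x = 0
  · simp [hx]
  obtain ⟨k, hk⟩ := hω (Units.mk0 x hx)
  have hk' : ω ^ k = Units.mk0 x hx := hk
  have e1 : Units.map σ.toMonoidHom (Units.map σ'.toMonoidHom (Units.mk0 x hx)) =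
      Units.map σ'.toMonoidHom (Units.map σ.toMonoidHom (Units.mk0 x hx)) := by
    have hi' : Units.map σ.toMonoidHom ω = ω ^ i := hi.symm
    have hj' : Units.map σ'.toMonoidHom ω = ω ^ j := hj.symm
    rw [← hk']
    simp only [map_zpow, hi', hj', ← zpow_mul]
    ring_nf
  exact congrArg Units.val e1

theorem scal_comm {φ τ : K} {c : F} (hφ : φ ∈ Phi K F) (hc : φ • c = c)
    (hτ : ∀ x : F, τ • x = c * x) : Commute τ φ := by
  obtain ⟨σ, hσ⟩ := h.exists_auto hφ
  refine h.smul_ext fun x => ?_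
  rw [mul_smul, mul_smul, hτ, hτ, hσ, hσ, map_mul]
  rw [hσ] at hc
  rw [hc]

theorem Phi_sqrt {φ : K} (hφ : φ ∈ Phi K F) : ∃ ψ ∈ Phi K F, ψ * ψ = φ := by
  obtain ⟨k, hk⟩ := h.odd_of_fix (show φ • (0 : F) = 0 from hφ.1)
  refine ⟨φ ^ (k + 1), pow_mem hφ _, ?_⟩
  rw [← pow_add, show k + 1 + (k + 1) = orderOf φ + 1 by omega, pow_succ, pow_orderOf_eq_one,
    one_mul]

theorem exists_swap : ∃ k : K, k * k = 1 ∧ k • (0 : F) = 1 ∧ k • (1 : F) = 0 := by
  obtain ⟨g, h0, h1⟩ := h.trans2 (x := (1 : F)) (y := 0) one_ne_zero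
  obtain ⟨u, s, ⟨i, hi⟩, hs, hc, he, -, ⟨j, hj⟩⟩ := exists_split g
  have hgg : g * g ∈ Phi K F := ⟨by show (g * g) • (0 : F) = 0; rw [mul_smul, h0, h1],
    by show (g * g) • (1 : F) = 1; rw [mul_smul, h1, h0]⟩
  have hj' : g ^ j = s := hj
  have hss : s * s ∈ Phi K F := by
    rw [← hj', ← (Commute.refl g).mul_zpow]
    exact zpow_mem hgg j
  obtain ⟨l, hl⟩ := hs
  have hsP : s ∈ Phi K F := by
    have := pow_mem hss (l + 1)
    rwa [← pow_two, ← pow_mul, show 2 * (l + 1) = orderOf s + 1 by omega, pow_succ,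
      pow_orderOf_eq_one, one_mul] at this
  have e0 : u • (0 : F) = 1 := by
    rw [← h0, ← he, mul_smul, show s • (0 : F) = 0 from hsP.1]
  have e1 : u • (1 : F) = 0 := by
    rw [← h1, ← he, mul_smul, show s • (1 : F) = 1 from hsP.2]
  refine ⟨u, ?_, e0, e1⟩
  have h2 : (u * u) • (0 : F) = 0 := by rw [mul_smul, e0, e1]
  exact (IsTwoEl.mul ⟨i, hi⟩ ⟨i, hi⟩ (Commute.refl u)).eq_one (h.odd_of_fix h2)

theorem swap_L_one {k : K} (h0 : k • (0 : F) = 1) (h1 : k • (1 : F) = 0) : L k (1 : F) = 1 := by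
  rw [L, h0, h1, zero_add]

theorem conj_mem_Phi {k φ : K} (hk : k * k = 1) (h0 : k • (0 : F) = 1) (h1 : k • (1 : F) = 0)
    (hφ : φ ∈ Phi K F) : k * φ * k ∈ Phi K F :=
  ⟨by show (k * φ * k) • (0 : F) = 0
      rw [mul_smul, mul_smul, h0, show φ • (1 : F) = 1 from hφ.2, h1],
   by show (k * φ * k) • (1 : F) = 1
      rw [mul_smul, mul_smul, h1, show φ • (0 : F) = 0 from hφ.1, h0]⟩

/-- An element of the two-point stabiliser moved by the swap has centralizer fixing `0`. -/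
theorem moved_cent {k ψ : K} (hk : k * k = 1) (h0 : k • (0 : F) = 1) (h1 : k • (1 : F) = 0)
    (hψ : ψ ∈ Phi K F) (hne : k * ψ * k ≠ ψ) {c : K} (hc : Commute c ψ) : c • (0 : F) = 0 := by
  by_contra hcne
  set a : F := c • (0 : F) with hadef
  have ha : ψ • a = a := by
    rw [hadef, ← mul_smul, ← hc.eq, mul_smul, show ψ • (0 : F) = 0 from hψ.1]
  obtain ⟨σ, hσ⟩ := h.exists_auto hψ
  obtain ⟨τ, hτ⟩ := h.scal a⁻¹ (inv_ne_zero hcne)
  have ha' : ψ • a⁻¹ = a⁻¹ := by rw [hσ, map_inv₀, ← hσ, ha]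
  have hτc := h.scal_comm hψ ha' hτ
  set g := τ * c with hg
  have hgc : Commute g ψ := hτc.mul_left hc
  have hg0 : g • (0 : F) = 1 := by rw [hg, mul_smul, hτ, inv_mul_cancel₀ hcne]
  have hd : ψ • (g⁻¹ • (0 : F)) = g⁻¹ • (0 : F) := by
    rw [← mul_smul, ← hgc.inv_left.eq, mul_smul, show ψ • (0 : F) = 0 from hψ.1]
  have hdne : g⁻¹ • (0 : F) ≠ 0 := fun e => by
    have := smul_inv_smul g (0 : F)
    rw [e, hg0] at this
    exact one_ne_zero this
  obtain ⟨τ', hτ'⟩ := h.scal _ hdne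
  have hτ'c := h.scal_comm hψ hd hτ'
  set k' := g * τ' with hk'
  have hk'c : Commute k' ψ := hgc.mul_left hτ'c
  have hk'0 : k' • (0 : F) = 1 := by rw [hk', mul_smul, hτ', mul_zero, hg0]
  have hk'1 : k' • (1 : F) = 0 := by rw [hk', mul_smul, hτ', mul_one, smul_inv_smul]
  have hP : k * k' ∈ Phi K F := ⟨by show (k * k') • (0 : F) = 0; rw [mul_smul, hk'0, h1],
    by show (k * k') • (1 : F) = 1; rw [mul_smul, hk'1, h0]⟩
  have hkc : Commute k ψ := by
    have h2 := (h.Phi_comm hP hψ).mul_left hk'c.inv_left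
    rwa [mul_inv_cancel_right] at h2
  exact hne (by rw [hkc.eq, mul_assoc, hk, mul_one])

theorem exists_moved {k : K} (hk : k * k = 1) (h0 : k • (0 : F) = 1) (h1 : k • (1 : F) = 0) :
    ∃ φ ∈ Phi K F, k * φ * k ≠ φ := by
  obtain ⟨s, hs1, x, y, hx, hy, hxy⟩ := h.exists_intransitive
  have hne : x ≠ y := fun e => hxy ⟨1, Commute.one_left s, by rw [one_smul, e]⟩
  obtain ⟨g, hgx, hgy⟩ := h.trans2 hne
  refine ⟨g⁻¹ * s * g, ⟨?_, ?_⟩, fun e => hxy ⟨g * k * g⁻¹, ?_, ?_⟩⟩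
  · show (g⁻¹ * s * g) • (0 : F) = 0
    rw [mul_smul, mul_smul, hgx, hx, ← hgx, inv_smul_smul]
  · show (g⁻¹ * s * g) • (1 : F) = 1
    rw [mul_smul, mul_smul, hgy, hy, ← hgy, inv_smul_smul]
  · have hc : Commute k (g⁻¹ * s * g) := by
      have e2 : k * (g⁻¹ * s * g) = g⁻¹ * s * g * k := by
        conv_rhs => rw [← e, mul_assoc, hk, mul_one]
      exact e2
    have := hc.map (MulAut.conj g)
    simpa [mul_assoc] using this
  · rw [mul_smul, mul_smul, ← hgx, inv_smul_smul, h0, hgy]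

/-- The structure of the two-point stabiliser. -/
theorem structure_Phi {k : K} (hk : k * k = 1) (h0 : k • (0 : F) = 1) (h1 : k • (1 : F) = 0) :
    n.Prime ∧ Nat.card (Phi K F) = n ∧ (∀ φ ∈ Phi K F, k * φ * k = φ⁻¹) ∧
      ∀ φ ∈ Phi K F, φ ≠ 1 → ∀ c : K, Commute c φ → c ∈ Phi K F := by
  classical
  haveI := Fintype.ofFinite F
  haveI : Fact (Nat.Prime 2) := ⟨Nat.prime_two⟩
  have hkinv : k⁻¹ = k := inv_eq_of_mul_eq_one_right hk
  obtain ⟨φ, hφ, hmv⟩ := h.exists_moved hk h0 h1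
  set ψ := k * φ * k * φ⁻¹ with hψdef
  have hψP : ψ ∈ Phi K F := mul_mem (h.conj_mem_Phi hk h0 h1 hφ) (inv_mem hφ)
  have hψ1 : ψ ≠ 1 := fun e => hmv (mul_inv_eq_one.1 e)
  have hψinv : k * ψ * k = ψ⁻¹ := by
    rw [hψdef, mul_inv_rev, inv_inv, mul_inv_rev, mul_inv_rev, hkinv]
    have e : k * (k * φ * k * φ⁻¹) * k = (k * k) * φ * (k * φ⁻¹ * k) := by group
    rw [e, hk, one_mul, mul_assoc]
  set r := (orderOf ψ).minFac with hr
  have hrp : r.Prime := Nat.minFac_prime (fun e => hψ1 (orderOf_eq_one_iff.1 e))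
  set θ := ψ ^ (orderOf ψ / r) with hθdef
  have hθo : orderOf θ = r := orderOf_pow_orderOf_div (orderOf_pos ψ).ne' (Nat.minFac_dvd _)
  have hθP : θ ∈ Phi K F := pow_mem hψP _
  have hθinv : k * θ * k = θ⁻¹ := by
    have e : (k * ψ * k) ^ (orderOf ψ / r) = k * θ * k := by
      nth_rw 2 [← hkinv]
      rw [conj_pow, hkinv]
    rw [← e, hψinv, inv_pow]
  have hθodd := h.odd_of_fix (show θ • (0 : F) = 0 from hθP.1)
  have hθne : k * θ * k ≠ θ := by
    rw [hθinv]
    intro e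
    have e2 : θ ^ 2 = 1 := by
      rw [pow_two]
      nth_rw 1 [← e]
      rw [inv_mul_cancel]
    have h2 := orderOf_dvd_of_pow_eq_one e2
    rw [hθo] at h2 hθodd
    have := (Nat.prime_dvd_prime_iff_eq hrp Nat.prime_two).1 h2
    rw [this] at hθodd
    exact absurd hθodd (by decide)
  -- the centralizer of `θ` lies in `Phi`
  have hcent : ∀ c : K, Commute c θ → c ∈ Phi K F := by
    intro c hc
    refine ⟨h.moved_cent hk h0 h1 hθP hθne hc, ?_⟩
    have hc' : Commute (k * c * k) θ := by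
      have := (hc.inv_right).map (MulAut.conj k)
      simp only [MulAut.conj_apply, hkinv] at this
      rw [← hθinv] at this
      have e : k * (k * θ * k) * k = θ := by
        rw [show k * (k * θ * k) * k = (k * k) * θ * (k * k) by group, hk, one_mul, mul_one]
      rwa [e] at this
    have h2 := h.moved_cent hk h0 h1 hθP hθne hc'
    rw [mul_smul, mul_smul, h0] at h2
    have h3 := congrArg (k • ·) h2
    simp only [← mul_smul, ← mul_assoc, hk, one_mul, h0] at h3
    exact h3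
  obtain ⟨σ, hσ⟩ := h.exists_auto hθP
  have hfix : ∀ x : F, σ x = x → x = 0 ∨ x = 1 := by
    intro x hx
    by_cases hx0 : x = 0
    · exact Or.inl hx0
    obtain ⟨τ, hτ⟩ := h.scal x hx0
    have h2 : τ • (1 : F) = 1 := (hcent τ (h.scal_comm hθP (by rw [hσ, hx]) hτ)).2
    rw [hτ, mul_one] at h2
    exact Or.inr h2
  -- Galois theory
  haveI : CharP F 2 := CharTwo.of_one_ne_zero_of_two_eq_zero one_ne_zero h.char2
  letI : Algebra (ZMod 2) F := ZMod.algebra F 2
  let Ψ : Phi K F →* (F ≃ₐ[ZMod 2] F) :=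
    { toFun := fun p => AlgEquiv.ofRingEquiv (f := (h.exists_auto p.2).choose) (fun z =>
        RingHom.congr_fun (Subsingleton.elim
          ((h.exists_auto p.2).choose.toRingHom.comp (algebraMap (ZMod 2) F)) (algebraMap (ZMod 2) F)) z)
      map_one' := AlgEquiv.ext fun x => by
        show (h.exists_auto (1 : Phi K F).2).choose x = x
        rw [← (h.exists_auto (1 : Phi K F).2).choose_spec x]
        exact one_smul K x
      map_mul' := fun p p' => AlgEquiv.ext fun x => by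
        show (h.exists_auto (p * p').2).choose x
          = (h.exists_auto p.2).choose ((h.exists_auto p'.2).choose x)
        rw [← (h.exists_auto (p * p').2).choose_spec, ← (h.exists_auto p.2).choose_spec,
          ← (h.exists_auto p'.2).choose_spec]
        exact mul_smul (p : K) (p' : K) x }
  have hΨ : ∀ (p : Phi K F) (x : F), Ψ p x = (p : K) • x := fun p x =>
    ((h.exists_auto p.2).choose_spec x).symm
  have hΨi : Function.Injective Ψ := fun p p' e => Subtype.ext <| h.smul_ext fun x => by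
    rw [← hΨ, ← hΨ, e]
  have hbot : IntermediateField.fixedField (zpowers (Ψ ⟨θ, hθP⟩)) = ⊥ := by
    refine eq_bot_iff.2 fun x hx => ?_
    have h2 : Ψ ⟨θ, hθP⟩ x = x := hx ⟨_, mem_zpowers _⟩
    rw [hΨ, hσ] at h2
    rcases hfix x h2 with rfl | rfl
    · exact zero_mem _
    · exact one_mem _
  have htop : zpowers (Ψ ⟨θ, hθP⟩) = ⊤ := by
    rw [← IntermediateField.fixingSubgroup_fixedField (zpowers (Ψ ⟨θ, hθP⟩)), hbot,
      IntermediateField.fixingSubgroup_bot]
  have hgal : Nat.card (F ≃ₐ[ZMod 2] F) = r := by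
    rw [← Subgroup.card_top, ← htop, Nat.card_zpowers, orderOf_injective Ψ hΨi,
      ← Subgroup.orderOf_coe]
    exact hθo
  have hnr : n = r := by
    rw [IsGalois.card_aut_eq_finrank] at hgal
    have hc := Module.natCard_eq_pow_finrank (K := ZMod 2) (V := F)
    rw [h.card, Nat.card_zmod, hgal] at hc
    exact Nat.pow_right_injective (le_refl 2) hc
  have hPhi : Nat.card (Phi K F) = n := by
    refine le_antisymm (by rw [hnr, ← hgal]; exact Nat.card_le_card_of_injective Ψ hΨi) ?_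
    rw [hnr, ← hθo, ← Nat.card_zpowers]
    exact Nat.le_of_dvd Nat.card_pos (Subgroup.card_dvd_of_le (zpowers_le.2 hθP))
  have hall : zpowers θ = Phi K F := by
    refine Subgroup.eq_of_le_of_card_ge (zpowers_le.2 hθP) ?_
    rw [hPhi, Nat.card_zpowers, hθo, hnr]
  refine ⟨hnr ▸ hrp, hPhi, fun φ' hφ' => ?_, fun φ' hφ' hne' c hc => ?_⟩
  · rw [← hall] at hφ'
    obtain ⟨j, rfl⟩ := hφ'
    nth_rw 2 [← hkinv]
    rw [← conj_zpow, hkinv, hθinv, inv_zpow]
  · have h2 : zpowers φ' = Phi K F := by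
      refine Subgroup.eq_of_le_of_card_ge (zpowers_le.2 hφ') ?_
      rw [hPhi, Nat.card_zpowers]
      rw [← hall] at hφ'
      have h3 : orderOf φ' ∣ r := by
        rw [← hθo]
        exact orderOf_dvd_of_mem_zpowers hφ'
      rcases (Nat.dvd_prime hrp).1 h3 with e | e
      · exact absurd (orderOf_eq_one_iff.1 e) hne'
      · rw [e, hnr]
    rw [← h2] at hθP
    obtain ⟨j, hj⟩ := hθP
    exact hcent c (hj ▸ hc.zpow_right j)

end Aff

end Cfsg.Lib.TwoTimesPSL
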