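/-
The affine groups of `AffineBase`: involutions form one class, their centralizers are Sylow
2-subgroups, and the number of 2-elements with a given involution is determined.
-/
import Mathlib
import Cfsg.Agent.TwoTimesPSL.AffineGalois

set_option autoImplicit false
set_option linter.unusedSectionVars false
set_option linter.style.haveILetI false

namespace Cfsg.Lib.TwoTimesPSL

open Subgroup MulAction

variable {K F : Type*} [Group K] [Finite K] [Field F] [Finite F] [MulAction K F] {n : ℕ}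

/-- The 2-elements having `j` as their involution. -/
abbrev Roots {K : Type*} [Group K] (j : K) : Set K := {u : K | ∃ i : ℕ, u ^ 2 ^ i = j}

namespace Aff

variable (h : Aff K F n)

include h

theorem swap_conj {k k' : K} (hk : k * k = 1) (h0 : k • (0 : F) = 1) (h1 : k • (1 : F) = 0)
    (hk' : k' * k' = 1) (h0' : k' • (0 : F) = 1) : IsConj k' k := by
  have h1' : k' • (1 : F) = 0 := by rw [← h0', ← mul_smul, hk', one_smul]
  have hP : k * k' ∈ Phi K F := ⟨by show (k * k') • (0 : F) = 0; rw [mul_smul, h0', h1],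
    by show (k * k') • (1 : F) = 1; rw [mul_smul, h1', h0]⟩
  obtain ⟨-, -, hinv, -⟩ := h.structure_Phi hk h0 h1
  obtain ⟨ψ, hψ, hψ2⟩ := h.Phi_sqrt hP
  refine isConj_iff.2 ⟨ψ, ?_⟩
  have e : k' = k * (ψ * ψ) := by rw [hψ2, ← mul_assoc, hk, one_mul]
  have e2 : ψ * k = k * ψ⁻¹ := by
    rw [← hinv ψ hψ, mul_assoc k ψ k, ← mul_assoc k k (ψ * k), hk, one_mul]
  rw [e, ← mul_assoc ψ k, e2]
  group

theorem invol_isConj {k x : K} (hk : k * k = 1) (h0 : k • (0 : F) = 1) (h1 : k • (1 : F) = 0)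
    (hx : orderOf x = 2) : IsConj x k := by
  have hxx : x * x = 1 := by rw [← pow_two, ← hx, pow_orderOf_eq_one]
  have hne : x • (0 : F) ≠ 0 := fun e => by
    have := h.odd_of_fix e
    rw [hx] at this
    exact absurd this (by decide)
  obtain ⟨g, hg0, hg1⟩ := h.trans2 (x := (0 : F)) (y := x • (0 : F)) (Ne.symm hne)
  have h2 : IsConj x (g⁻¹ * x * g) := isConj_iff.2 ⟨g⁻¹, by rw [inv_inv]⟩
  refine h2.trans (h.swap_conj hk h0 h1 ?_ ?_)
  · rw [show g⁻¹ * x * g * (g⁻¹ * x * g) = g⁻¹ * (x * x) * g by group, hxx]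
    group
  · rw [mul_smul, mul_smul, hg0, ← hg1, inv_smul_smul]

theorem card_cent {k : K} (hk : k * k = 1) (h0 : k • (0 : F) = 1) (h1 : k • (1 : F) = 0) :
    Nat.card (centralizer ({k} : Set K)) = 2 ^ n := by
  obtain ⟨-, -, hinv, -⟩ := h.structure_Phi hk h0 h1
  have hmem : ∀ {c : K}, c ∈ centralizer ({k} : Set K) → Commute c k := fun {c} hc =>
    (Subgroup.mem_centralizer_singleton_iff.1 hc)
  rw [← h.card]
  refine Nat.card_congr (Equiv.ofBijective (fun c => (c : K) • (0 : F)) ⟨fun c c' e => ?_, fun x => ?_⟩)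
  · have e' : (c : K) • (0 : F) = (c' : K) • (0 : F) := e
    set d : K := (c : K)⁻¹ * c' with hd
    have hd0 : d • (0 : F) = 0 := by rw [hd, mul_smul, ← e', inv_smul_smul]
    have hdk : Commute d k := (hmem c.2).inv_left.mul_left (hmem c'.2)
    have hd1 : d • (1 : F) = 1 := by rw [← h0, ← mul_smul, hdk.eq, mul_smul, hd0]
    have h2 := hinv d ⟨hd0, hd1⟩
    rw [← hdk.eq, mul_assoc, hk, mul_one] at h2
    have h3 : d = 1 := IsTwoEl.eq_one ⟨1, by
      rw [pow_one, pow_two]; nth_rw 2 [h2]; rw [mul_inv_cancel]⟩ (h.odd_of_fix hd0)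
    exact Subtype.ext (inv_mul_eq_one.1 h3)
  · have hxk : x ≠ k • x := fun e => by
      have := h.odd_of_fix e.symm
      have h2 : k = 1 := IsTwoEl.eq_one ⟨1, by rw [pow_one, pow_two, hk]⟩ this
      rw [h2, one_smul] at h0
      exact zero_ne_one h0
    obtain ⟨g, hg0, hg1⟩ := h.trans2 hxk
    set k' := g⁻¹ * k * g with hk'def
    have hk' : k' * k' = 1 := by
      rw [hk'def, show g⁻¹ * k * g * (g⁻¹ * k * g) = g⁻¹ * (k * k) * g by group, hk]
      group
    have h0' : k' • (0 : F) = 1 := by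
      rw [hk'def, mul_smul, mul_smul, hg0, ← hg1, inv_smul_smul]
    have h1' : k' • (1 : F) = 0 := by rw [← h0', ← mul_smul, hk', one_smul]
    have hP : k * k' ∈ Phi K F := ⟨by show (k * k') • (0 : F) = 0; rw [mul_smul, h0', h1],
      by show (k * k') • (1 : F) = 1; rw [mul_smul, h1', h0]⟩
    obtain ⟨ψ, hψ, hψ2⟩ := h.Phi_sqrt hP
    refine ⟨⟨g * ψ⁻¹, Subgroup.mem_centralizer_singleton_iff.2 ?_⟩, ?_⟩
    · have e : g⁻¹ * k * g = k * (ψ * ψ) := by
        rw [hψ2, ← mul_assoc, hk, one_mul]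
      have e2 : ψ * k = k * ψ⁻¹ := by
        rw [← hinv ψ hψ, mul_assoc k ψ k, ← mul_assoc k k (ψ * k), hk, one_mul]
      have e3 : k * g = g * (k * (ψ * ψ)) := by rw [← e]; group
      calc g * ψ⁻¹ * k = g * (ψ⁻¹ * (k * ψ⁻¹)) * ψ := by group
        _ = g * (ψ⁻¹ * (ψ * k)) * ψ := by rw [e2]
        _ = g * k * ψ := by group
        _ = g * (k * (ψ * ψ)) * ψ⁻¹ := by group
        _ = k * g * ψ⁻¹ := by rw [e3]
        _ = k * (g * ψ⁻¹) := by group
    · show (g * ψ⁻¹) • (0 : F) = x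
      rw [mul_smul, show ψ⁻¹ • (0 : F) = 0 from (inv_mem hψ : ψ⁻¹ ∈ Phi K F).1, hg0]

theorem card_cent_invol {x : K} (hx : orderOf x = 2) :
    Nat.card (centralizer ({x} : Set K)) = 2 ^ n := by
  obtain ⟨k, hk, h0, h1⟩ := h.exists_swap
  obtain ⟨g, hg⟩ := isConj_iff.1 (h.invol_isConj hk h0 h1 hx)
  rw [← h.card_cent hk h0 h1, ← hg]
  refine Nat.card_congr ((MulAut.conj g).subgroupMap _ |>.toEquiv.trans (Equiv.setCongr ?_))
  ext y
  simp only [SetLike.mem_coe, Subgroup.mem_map, Subgroup.mem_centralizer_singleton_iff]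
  constructor
  · rintro ⟨z, hz, rfl⟩
    show g * z * g⁻¹ * (g * x * g⁻¹) = g * x * g⁻¹ * (g * z * g⁻¹)
    rw [show g * z * g⁻¹ * (g * x * g⁻¹) = g * (z * x) * g⁻¹ by group, hz]
    group
  · intro hy
    refine ⟨g⁻¹ * y * g, ?_, show g * (g⁻¹ * y * g) * g⁻¹ = y by group⟩
    calc g⁻¹ * y * g * x = g⁻¹ * (y * (g * x * g⁻¹)) * g := by group
      _ = g⁻¹ * (g * x * g⁻¹ * y) * g := by rw [hy]
      _ = x * (g⁻¹ * y * g) := by group

theorem invol_class_card {k : K} (hk : k * k = 1) (h0 : k • (0 : F) = 1) (h1 : k • (1 : F) = 0) :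
    Nat.card {x : K // orderOf x = 2} = (2 ^ n - 1) * n := by
  obtain ⟨-, hPhi, -, -⟩ := h.structure_Phi hk h0 h1
  have hk2 : orderOf k = 2 := orderOf_eq_prime (by rw [pow_two, hk]) fun e => by
    rw [e, one_smul] at h0
    exact zero_ne_one h0
  have e : MulAction.orbit (ConjAct K) k = {x : K | orderOf x = 2} := by
    ext x
    rw [ConjAct.mem_orbit_conjAct]
    constructor
    · intro hc
      obtain ⟨g, hg⟩ := isConj_iff.1 hc
      show orderOf x = 2
      rw [← hk2, ← hg]
      exact ((MulAut.conj g).orderOf_eq x).symm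
    · exact fun hx => h.invol_isConj hk h0 h1 hx
  have h2 : Nat.card (MulAction.orbit (ConjAct K) k) *
      Nat.card (MulAction.stabilizer (ConjAct K) k) = Nat.card K := by
    rw [Nat.card_coe_set_eq, ← index_stabilizer, Subgroup.index_mul_card]
    exact Nat.card_congr ConjAct.ofConjAct.toEquiv
  have h3 : Nat.card (MulAction.stabilizer (ConjAct K) k) = 2 ^ n := by
    rw [← h.card_cent hk h0 h1]
    refine Nat.card_congr (ConjAct.ofConjAct.toEquiv.subtypeEquiv fun g => ?_)
    rw [Subgroup.mem_centralizer_singleton_iff, MulAction.mem_stabilizer_iff, ConjAct.smul_def,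
      mul_inv_eq_iff_eq_mul]
    rfl
  -- order of the point stabiliser
  have h4 : Nat.card (stabilizer K (0 : F)) = (2 ^ n - 1) * n := by
    have ho : MulAction.orbit (stabilizer K (0 : F)) (1 : F) = {x : F | x ≠ 0} := by
      ext x
      constructor
      · rintro ⟨⟨g, hg⟩, rfl⟩ e
        have hg' : g • (0 : F) = 0 := hg
        have e' : g • (1 : F) = g • (0 : F) := by rw [hg']; exact e
        exact one_ne_zero (MulAction.injective g e')
      · intro hx
        obtain ⟨τ, hτ⟩ := h.scal x hx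
        exact ⟨⟨τ, by show τ • (0 : F) = 0; rw [hτ, mul_zero]⟩, by
          show τ • (1 : F) = x; rw [hτ, mul_one]⟩
    rw [← Subgroup.index_mul_card (stabilizer (stabilizer K (0 : F)) (1 : F)), index_stabilizer, ho]
    congr 1
    · rw [show {x : F | x ≠ 0} = ({0} : Set F)ᶜ from rfl, Set.ncard_compl, Set.ncard_singleton,
        h.card]
    · rw [← hPhi]
      exact Nat.card_congr
        { toFun := fun g => ⟨(g.1 : K), ⟨g.1.2, g.2⟩⟩
          invFun := fun g => ⟨⟨(g : K), g.2.1⟩, g.2.2⟩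
          left_inv := fun _ => rfl
          right_inv := fun _ => rfl }
  rw [h3, h.card_group, h4, h.card, mul_comm (2 ^ n)] at h2
  have h5 : Nat.card {x : K // orderOf x = 2} = Nat.card (MulAction.orbit (ConjAct K) k) := by
    rw [e]; rfl
  rw [h5]
  exact Nat.eq_of_mul_eq_mul_right (by positivity) h2

theorem twoEl_count {k : K} (hk : k * k = 1) (h0 : k • (0 : F) = 1) (h1 : k • (1 : F) = 0) :
    2 * Nat.card {u : K // IsTwoEl u} = 2 * 2 ^ n + 2 ^ n * (2 ^ n - 1) * (n - 1) := by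
  classical
  haveI := Fintype.ofFinite K
  haveI := Fintype.ofFinite F
  obtain ⟨-, hPhi, -, hcent⟩ := h.structure_Phi hk h0 h1
  -- a non-identity element fixes at most two points
  have hfix2 : ∀ g : K, g ≠ 1 → ∀ x y z : F, x ≠ y → g • x = x → g • y = y → g • z = z →
      z = x ∨ z = y := by
    intro g hg x y z hxy hx hy hz
    obtain ⟨a, ha0, ha1⟩ := h.trans2 hxy
    by_contra hcon
    push Not at hcon
    set φ := a⁻¹ * g * a with hφdef
    have hφ0 : φ • (0 : F) = 0 := by rw [hφdef, mul_smul, mul_smul, ha0, hx, ← ha0, inv_smul_smul]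
    have hφ1 : φ • (1 : F) = 1 := by rw [hφdef, mul_smul, mul_smul, ha1, hy, ← ha1, inv_smul_smul]
    set w := a⁻¹ • z with hw
    have hφw : φ • w = w := by rw [hφdef, hw, mul_smul, mul_smul, smul_inv_smul, hz]
    have hw0 : w ≠ 0 := fun e => hcon.1 (by rw [← ha0, ← e, hw, smul_inv_smul])
    obtain ⟨τ, hτ⟩ := h.scal w hw0
    have hφne : φ ≠ 1 := fun e => hg (by
      have e' := congrArg (fun t => a * t * a⁻¹) e
      simpa [hφdef, mul_assoc] using e')
    have := (hcent φ ⟨hφ0, hφ1⟩ hφne τ (h.scal_comm ⟨hφ0, hφ1⟩ hφw hτ)).2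
    replace this : τ • (1 : F) = 1 := this
    rw [hτ, mul_one] at this
    exact hcon.2 (by rw [← ha1, ← this, hw, smul_inv_smul])
  have hcard2 : ∀ g : K, g ≠ 1 → Nat.card (Fix K F g) ≤ 2 := by
    intro g hg
    by_contra hlt
    rw [not_le, Nat.card_eq_fintype_card] at hlt
    obtain ⟨⟨x, hx⟩, ⟨y, hy⟩, ⟨z, hz⟩, hxy, hxz, hyz⟩ := Fintype.two_lt_card_iff.1 hlt
    rcases hfix2 g hg x y z (fun e => hxy (Subtype.ext e)) hx hy hz with e | e
    · exact hxz (Subtype.ext e.symm)
    · exact hyz (Subtype.ext e.symm)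
  -- a non-identity element of odd order has no non-trivial commuting 2-element
  have hD : ∀ s : K, Odd (orderOf s) → s ≠ 1 →
      Nat.card {u : K // IsTwoEl u ∧ Commute u s} = 1 := by
    intro s hs hs1
    refine Nat.card_eq_one_iff_unique.2 ⟨⟨fun u v => ?_⟩, ⟨⟨1, IsTwoEl.one, Commute.one_left _⟩⟩⟩
    suffices key : ∀ u : K, IsTwoEl u → Commute u s → u = 1 from
      Subtype.ext ((key u u.2.1 u.2.2).trans (key v v.2.1 v.2.2).symm)
    intro u hu hc
    obtain ⟨x, hx⟩ := h.fix_of_odd hs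
    have hux : s • (u • x) = u • x := by rw [← mul_smul, ← hc.eq, mul_smul, hx]
    by_cases hxu : u • x = x
    · exact hu.eq_one (h.odd_of_fix hxu)
    · exfalso
      obtain ⟨a, ha0, ha1⟩ := h.trans2 (Ne.symm hxu)
      have hφ : a⁻¹ * s * a ∈ Phi K F :=
        ⟨by show (a⁻¹ * s * a) • (0 : F) = 0
            rw [mul_smul, mul_smul, ha0, hx, ← ha0, inv_smul_smul],
         by show (a⁻¹ * s * a) • (1 : F) = 1
            rw [mul_smul, mul_smul, ha1, hux, ← ha1, inv_smul_smul]⟩
      have hφne : a⁻¹ * s * a ≠ 1 := fun e => hs1 (by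
        have e' := congrArg (fun t => a * t * a⁻¹) e
        simpa [mul_assoc] using e')
      have hu' : Commute (a⁻¹ * u * a) (a⁻¹ * s * a) := by
        have := hc.map (MulAut.conj a⁻¹)
        simpa [mul_assoc] using this
      have h2 : (a⁻¹ * u * a) • (0 : F) = 0 := (hcent _ hφ hφne _ hu').1
      rw [mul_smul, mul_smul, ha0] at h2
      exact hxu (by rw [← smul_inv_smul a (u • x), h2, ha0])
  -- sums
  have hS1 := h.sum_fix
  have hS2 : ∑ g : K, Nat.card (Fix K F g) * (Nat.card (Fix K F g) - 1)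
      = 2 ^ n * (2 ^ n - 1) * n := by
    have h2 : ∀ g : K, Nat.card (Fix K F g) * (Nat.card (Fix K F g) - 1)
        = (Finset.univ.filter fun p : F × F => p.1 ≠ p.2 ∧ g • p.1 = p.1 ∧ g • p.2 = p.2).card := by
      intro g
      set A := Finset.univ.filter fun x : F => g • x = x with hA
      have e : Nat.card (Fix K F g) = A.card := by
        rw [Nat.card_eq_fintype_card]
        exact Fintype.card_of_subtype A (fun x => by simp [hA])
      rw [e, Nat.mul_sub, mul_one, ← Finset.offDiag_card]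
      congr 1
      ext ⟨x, y⟩
      simp only [Finset.mem_offDiag, hA, Finset.mem_filter, Finset.mem_univ, true_and]
      tauto
    rw [Finset.sum_congr rfl (fun g _ => h2 g)]
    simp only [Finset.card_filter]
    rw [Finset.sum_comm]
    have h3 : ∀ p : F × F, p.1 ≠ p.2 →
        (∑ g : K, if p.1 ≠ p.2 ∧ g • p.1 = p.1 ∧ g • p.2 = p.2 then 1 else 0) = n := by
      intro p hp
      rw [← Finset.card_filter]
      obtain ⟨a, ha0, ha1⟩ := h.trans2 hp
      rw [← hPhi, Nat.card_eq_fintype_card, ← Finset.card_univ]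
      refine Finset.card_bij' (fun g hg => (⟨a⁻¹ * g * a, ?_⟩ : Phi K F))
        (fun g _ => a * (g : K) * a⁻¹) (fun g hg => Finset.mem_univ _) (fun g _ => ?_)
        (fun g hg => by group) (fun g _ => Subtype.ext (by group))
      · simp only [Finset.mem_filter] at hg
        exact ⟨by show (a⁻¹ * g * a) • (0 : F) = 0
                  rw [mul_smul, mul_smul, ha0, hg.2.2.1, ← ha0, inv_smul_smul],
               by show (a⁻¹ * g * a) • (1 : F) = 1
                  rw [mul_smul, mul_smul, ha1, hg.2.2.2, ← ha1, inv_smul_smul]⟩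
      · simp only [Finset.mem_filter, Finset.mem_univ, true_and]
        refine ⟨hp, ?_, ?_⟩
        · rw [← ha0, mul_smul, mul_smul, inv_smul_smul,
            show (g : K) • (0 : F) = 0 from g.2.1]
        · rw [← ha1, mul_smul, mul_smul, inv_smul_smul,
            show (g : K) • (1 : F) = 1 from g.2.2]
    rw [Finset.sum_congr rfl (g := fun p : F × F => if p.1 ≠ p.2 then n else 0) (fun p _ => by
      by_cases hp : p.1 ≠ p.2
      · rw [if_pos hp, h3 p hp]
      · rw [if_neg hp]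
        exact Finset.sum_eq_zero fun g _ => if_neg (fun e => hp e.1)),
      ← Finset.sum_filter, Finset.sum_const, smul_eq_mul]
    congr 1
    rw [show (Finset.univ.filter fun p : F × F => p.1 ≠ p.2) = (Finset.univ : Finset F).offDiag by
        ext ⟨x, y⟩; simp,
      Finset.offDiag_card, Finset.card_univ, ← Nat.card_eq_fintype_card, h.card, Nat.mul_sub,
      mul_one]
  -- pointwise identity
  have hfix1 : Nat.card (Fix K F (1 : K)) = 2 ^ n := by
    rw [← h.card]
    exact Nat.card_congr (Equiv.subtypeUnivEquiv fun x => one_smul K x)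
  have hf : ∀ g ∈ Finset.univ.erase (1 : K),
      2 * Nat.card (Fix K F g) = (if Odd (orderOf g) then 2 else 0)
        + Nat.card (Fix K F g) * (Nat.card (Fix K F g) - 1) := by
    intro g hg
    have hg1 := Finset.ne_of_mem_erase hg
    have h2 := hcard2 g hg1
    by_cases ho : Odd (orderOf g)
    · obtain ⟨x, hx⟩ := h.fix_of_odd ho
      have h3 : 0 < Nat.card (Fix K F g) := by
        haveI : Nonempty (Fix K F g) := ⟨⟨x, hx⟩⟩
        exact Nat.card_pos
      rw [if_pos ho]
      generalize Nat.card (Fix K F g) = f at *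
      interval_cases f <;> norm_num
    · have h3 : Nat.card (Fix K F g) = 0 := by
        by_contra h4
        obtain ⟨⟨⟨x, hx⟩⟩, -⟩ := Nat.card_ne_zero.1 h4
        exact ho (h.odd_of_fix hx)
      rw [if_neg ho, h3]
  have h5 := card_eq_sum_split (K := K)
  set D : K → ℕ := fun s => Nat.card {u : K // IsTwoEl u ∧ Commute u s} with hDdef
  rw [← Finset.sum_subtype (Finset.univ.filter fun s : K => Odd (orderOf s)) (by simp) D,
    Finset.sum_filter, ← Finset.sum_erase_add _ _ (Finset.mem_univ (1 : K)),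
    if_pos (by simp)] at h5
  have h6 : (∑ s ∈ Finset.univ.erase (1 : K), if Odd (orderOf s) then D s else 0) * 2 =
      ∑ s ∈ Finset.univ.erase (1 : K), if Odd (orderOf s) then 2 else 0 := by
    rw [Finset.sum_mul]
    refine Finset.sum_congr rfl fun s hs => ?_
    split_ifs with ho
    · rw [hDdef]
      simp only
      rw [hD s ho (Finset.ne_of_mem_erase hs), one_mul]
    · rfl
  have h7 := Finset.sum_congr rfl hf
  rw [Finset.sum_add_distrib, ← Finset.mul_sum] at h7
  rw [← Finset.sum_erase_add _ _ (Finset.mem_univ (1 : K)), hfix1] at hS1 hS2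
  have hD1 : Nat.card {u : K // IsTwoEl u} = D 1 :=
    Nat.card_congr (Equiv.subtypeEquivRight fun u => ⟨fun hu => ⟨hu, Commute.one_right u⟩, And.left⟩)
  rw [← h.card_group] at hS1
  have hn := h.three
  have hn1 : 2 ^ n * (2 ^ n - 1) * n = 2 ^ n * (2 ^ n - 1) * (n - 1) + 2 ^ n * (2 ^ n - 1) := by
    rw [← Nat.mul_succ]
    congr 1
    omega
  rw [hD1]
  generalize 2 ^ n * (2 ^ n - 1) * (n - 1) = Z at *
  omega

/-- The number of 2-elements with a given involution. -/
theorem roots_card {x : K} (hx : orderOf x = 2) :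
    2 * n * Nat.card (Roots x) = 2 + 2 ^ n * (n - 1) := by
  classical
  haveI := Fintype.ofFinite K
  obtain ⟨k, hk, h0, h1⟩ := h.exists_swap
  have e := h.twoEl_count hk h0 h1
  have hI := h.invol_class_card hk h0 h1
  have hc : ∀ y : {y : K // orderOf y = 2}, Nat.card (Roots (y : K)) = Nat.card (Roots x) := by
    rintro ⟨y, hy⟩
    obtain ⟨g, hg⟩ := isConj_iff.1 ((h.invol_isConj hk h0 h1 hy).trans (h.invol_isConj hk h0 h1 hx).symm)
    refine Nat.card_congr ((MulAut.conj g).toEquiv.subtypeEquiv fun u => ?_)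
    show (∃ i : ℕ, u ^ 2 ^ i = y) ↔ ∃ i : ℕ, (g * u * g⁻¹) ^ 2 ^ i = x
    refine exists_congr fun i => ?_
    rw [conj_pow, ← hg]
    exact ⟨fun e => by rw [e], fun e => mul_left_cancel (mul_right_cancel e)⟩
  have h2 : Nat.card {u : K // IsTwoEl u ∧ u ≠ 1}
      = Nat.card (Σ y : {y : K // orderOf y = 2}, Roots (y : K)) := by
    have key : ∀ (y : K), orderOf y = 2 → ∀ u : K, (∃ i : ℕ, u ^ 2 ^ i = y) → IsTwoEl u ∧ u ≠ 1 := by
      intro y hy u ⟨i, hi⟩
      refine ⟨⟨i + 1, by rw [pow_succ, pow_mul, hi, ← hy, pow_orderOf_eq_one]⟩, fun e => ?_⟩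
      rw [e, one_pow] at hi
      rw [← hi, orderOf_one] at hy
      omega
    refine (Nat.card_congr (Equiv.ofBijective
      (fun p : (Σ y : {y : K // orderOf y = 2}, Roots (y : K)) =>
        (⟨(p.2 : K), key p.1 p.1.2 p.2 p.2.2⟩ : {u : K // IsTwoEl u ∧ u ≠ 1})) ⟨?_, ?_⟩)).symm
    · rintro ⟨⟨y, hy⟩, ⟨u, i, hi⟩⟩ ⟨⟨y', hy'⟩, ⟨u', i', hi'⟩⟩ e'
      have e'' : u = u' := congrArg Subtype.val e'
      subst e''
      replace hi : u ^ 2 ^ i = y := hi
      replace hi' : u ^ 2 ^ i' = y' := hi'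
      have hyy : y = y' := by
        rw [← hi, ← hi']
        exact invol_unique (by rw [hi]; exact hy) (by rw [hi']; exact hy')
      subst hyy
      rfl
    · rintro ⟨u, hu, hu1⟩
      obtain ⟨i, hi⟩ := hu.exists_invol hu1
      exact ⟨⟨⟨_, hi⟩, ⟨u, i, rfl⟩⟩, rfl⟩
  rw [Nat.card_sigma, Finset.sum_congr rfl (fun y _ => hc y), Finset.sum_const, smul_eq_mul,
    Finset.card_univ, ← Nat.card_eq_fintype_card, hI] at h2
  have h3 : Nat.card {u : K // IsTwoEl u} = Nat.card {u : K // IsTwoEl u ∧ u ≠ 1} + 1 := by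
    simp only [Nat.card_eq_fintype_card, Fintype.card_subtype]
    rw [← Finset.card_erase_add_one (a := (1 : K))
      (s := Finset.univ.filter fun u : K => IsTwoEl u) (by simp [IsTwoEl.one])]
    congr 2
    ext u
    simp [and_comm]
  have hn := h.three
  have hq : 2 ≤ 2 ^ n := le_self_pow (one_le_two) (by omega) |>.trans le_rfl
  obtain ⟨m, hm⟩ : ∃ m, 2 ^ n = m + 1 := ⟨2 ^ n - 1, by omega⟩
  obtain ⟨l, hl⟩ : ∃ l, n = l + 1 := ⟨n - 1, by omega⟩
  rw [h3, h2] at e
  rw [hm] at e hq ⊢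
  rw [hl, show l + 1 - 1 = l from rfl, show m + 1 - 1 = m from rfl] at e
  rw [hl, show l + 1 - 1 = l from rfl]
  have hm0 : 0 < m := by omega
  refine Nat.eq_of_mul_eq_mul_left hm0 ?_
  nlinarith [e]

end Aff

end Cfsg.Lib.TwoTimesPSL
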