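/-
The affine groups of `AffineBase` have `n = 3`, one class of involutions, and Sylow 2-subgroups
of order 8 with exactly two non-trivial elements of order 4.
-/
import Mathlib
import Cfsg.Agent.TwoTimesPSL.AffineCount
import Cfsg.Agent.Chars.Burnside

set_option autoImplicit false
set_option linter.unusedSectionVars false
set_option linter.style.haveILetI false

namespace Cfsg.Lib.TwoTimesPSL

open Subgroup MulAction
open scoped Pointwise

/-- In a group of order `2 ^ a * r` some normal subgroup containing the largest normal 2-subgroup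
`V` has index a power of 2 and order `|V| * r`. -/
theorem exists_two_core {H : Type*} [Group H] [Finite H] {a r : ℕ} (hr : r.Prime) (hr2 : r ≠ 2)
    (hcard : Nat.card H = 2 ^ a * r) :
    ∃ V N : Subgroup H, V.Normal ∧ IsPGroup 2 V ∧ N.Normal ∧ V ≤ N ∧
      Nat.card N = Nat.card V * r := by
  classical
  haveI : Fact (Nat.Prime 2) := ⟨Nat.prime_two⟩
  haveI : Fact (Nat.Prime r) := ⟨hr⟩
  let V : Subgroup H := ⨅ P : Sylow 2 H, (P : Subgroup H)
  have hVmem : ∀ {x : H}, x ∈ V ↔ ∀ P : Sylow 2 H, x ∈ (P : Subgroup H) := Subgroup.mem_iInf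
  have hVn : V.Normal := ⟨fun x hx g => hVmem.2 fun P => by
    have h2 := hVmem.1 hx (g⁻¹ • P)
    rw [Cfsg.Lib.Transfer.sylow_smul_coe, Cfsg.Lib.Transfer.mem_map_conj, inv_inv] at h2
    exact h2⟩
  have hV2 : IsPGroup 2 V := by
    obtain ⟨P⟩ := (inferInstance : Nonempty (Sylow 2 H))
    exact P.isPGroup'.to_le (iInf_le (fun P : Sylow 2 H => (P : Subgroup H)) P)
  have hmax : ∀ M : Subgroup H, M.Normal → IsPGroup 2 M → M ≤ V := by
    intro M hM hM2 x hx
    refine hVmem.2 fun P => ?_
    obtain ⟨Q, hQ⟩ := hM2.exists_le_sylow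
    obtain ⟨g, rfl⟩ := MulAction.exists_smul_eq H Q P
    rw [Cfsg.Lib.Transfer.sylow_smul_coe, Cfsg.Lib.Transfer.mem_map_conj]
    exact hQ (by simpa [mul_assoc] using hM.conj_mem x hx g⁻¹)
  haveI := hVn
  have hsolQ : Group.IsSolvable (H ⧸ V) := by
    haveI : Group.IsSolvable H :=
      Cfsg.Lib.Chars.burnside_isSolvable 2 r Nat.prime_two hr H ⟨a, 1, by rw [hcard, pow_one]⟩
    infer_instance
  have hQne : (⊤ : Subgroup (H ⧸ V)) ≠ ⊥ := by
    intro e
    obtain ⟨b, hb⟩ := IsPGroup.iff_card.1 hV2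
    have hi : V.index = 1 := by
      rw [Subgroup.index_eq_card, ← Subgroup.card_top, e, Subgroup.card_bot]
    have h1 := Subgroup.card_mul_index V
    rw [hi, mul_one, hb, hcard] at h1
    have h2 : r ∣ 2 ^ b := h1 ▸ dvd_mul_left r _
    exact hr2 ((Nat.prime_dvd_prime_iff_eq hr Nat.prime_two).1 (hr.dvd_of_dvd_pow h2))
  obtain ⟨m, hm⟩ := hsolQ.solvable
  have hex : ∃ m, derivedSeries (H ⧸ V) m = ⊥ := ⟨m, hm⟩
  set m₀ := Nat.find hex with hm₀
  obtain ⟨j, hj⟩ : ∃ j, m₀ = j + 1 := Nat.exists_eq_succ_of_ne_zero fun e => by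
    have := Nat.find_spec hex
    rw [← hm₀, e, derivedSeries_zero] at this
    exact hQne this
  set A := derivedSeries (H ⧸ V) j with hA
  have hAne : A ≠ ⊥ := fun e => Nat.find_min hex (by omega) e
  have hAc : ⁅A, A⁆ = ⊥ := by
    have := Nat.find_spec hex
    rwa [← hm₀, hj, derivedSeries_succ] at this
  haveI hAn : A.Normal := derivedSeries_normal _ _
  haveI : IsMulCommutative A := ⟨⟨fun x y => by
    have h2 := Subgroup.commutator_mem_commutator x.2 y.2
    rw [hAc, Subgroup.mem_bot, commutatorElement_eq_one_iff_mul_comm] at h2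
    exact Subtype.ext h2⟩⟩
  haveI : Nontrivial A := (Subgroup.nontrivial_iff_ne_bot A).2 hAne
  obtain ⟨p, hp, hpd⟩ := Nat.exists_prime_and_dvd (Finite.one_lt_card (α := A)).ne'
  haveI : Fact p.Prime := ⟨hp⟩
  obtain ⟨Pp⟩ := (inferInstance : Nonempty (Sylow p A))
  haveI : (Pp : Subgroup A).Characteristic :=
    Sylow.characteristic_of_normal Pp inferInstance
  set M : Subgroup (H ⧸ V) := (Pp : Subgroup A).map A.subtype with hM
  have hMn : M.Normal := by rw [hM]; infer_instance
  have hMp : IsPGroup p M := Pp.isPGroup'.map A.subtype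
  have hMne : M ≠ ⊥ := by
    rw [hM, Ne, Subgroup.map_eq_bot_iff_of_injective _ A.subtype_injective]
    exact Sylow.ne_bot_of_dvd_card Pp hpd
  haveI := hMn
  set N : Subgroup H := M.comap (QuotientGroup.mk' V) with hN
  have hVN : V ≤ N := fun x hx => by
    rw [hN, Subgroup.mem_comap, show QuotientGroup.mk' V x = 1 from (QuotientGroup.eq_one_iff x).2 hx]
    exact one_mem _
  have hNcard : Nat.card N = Nat.card V * Nat.card M := by
    rw [← Subgroup.card_mul_index (V.subgroupOf N), Nat.card_congr (subgroupOfEquivOfLe hVN).toEquiv]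
    congr 1
    have e : M = Subgroup.map (QuotientGroup.mk' V) N :=
      (Subgroup.map_comap_eq_self_of_surjective (QuotientGroup.mk'_surjective V) M).symm
    rw [e]
    let f := (QuotientGroup.mk' V).subgroupMap N
    have hf : f.ker = V.subgroupOf N := by
      ext x
      rw [MonoidHom.mem_ker, Subgroup.mem_subgroupOf]
      exact ⟨fun e => (QuotientGroup.eq_one_iff (x : H)).1 (congrArg Subtype.val e),
        fun hx => Subtype.ext ((QuotientGroup.eq_one_iff (x : H)).2 hx)⟩
    rw [← hf, Subgroup.index_ker, MonoidHom.range_eq_top.2 (MonoidHom.subgroupMap_surjective _ N),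
      Subgroup.card_top]
  by_cases hp2 : p = 2
  · exfalso
    subst hp2
    have hN2 : IsPGroup 2 N := by
      obtain ⟨b, hb⟩ := IsPGroup.iff_card.1 hV2
      obtain ⟨c, hc⟩ := IsPGroup.iff_card.1 hMp
      exact IsPGroup.of_card (n := b + c) (by rw [hNcard, hb, hc, pow_add])
    have hle := hmax N inferInstance hN2
    refine hMne (eq_bot_iff.2 fun y hy => ?_)
    obtain ⟨x, rfl⟩ := QuotientGroup.mk'_surjective V y
    exact Subgroup.mem_bot.2 ((QuotientGroup.eq_one_iff x).2 (hle hy))
  refine ⟨V, N, hVn, hV2, inferInstance, hVN, ?_⟩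
  obtain ⟨c, hc⟩ := IsPGroup.iff_card.1 hMp
  have hc0 : c ≠ 0 := fun e => hMne (by rw [← Subgroup.card_eq_one, hc, e, pow_zero])
  have hdvd : p ^ c ∣ 2 ^ a * r := by
    rw [← hcard, ← hc]
    exact (Subgroup.card_subgroup_dvd_card M).trans (Subgroup.card_quotient_dvd_card V)
  have hco : Nat.Coprime (p ^ c) (2 ^ a) :=
    Nat.Coprime.pow _ _ ((Nat.coprime_primes hp Nat.prime_two).2 hp2)
  have hdr : p ^ c ∣ r := hco.dvd_of_dvd_mul_left hdvd
  rcases (Nat.dvd_prime hr).1 hdr with e | e
  · rw [Nat.pow_eq_one] at e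
    rcases e with e | e
    · exact absurd e hp.ne_one
    · exact absurd e hc0
  · rw [hNcard, hc, e]

variable {K F : Type*} [Group K] [Finite K] [Field F] [Finite F] [MulAction K F] {n : ℕ}

namespace Aff

variable (h : Aff K F n)

include h

theorem cent_eq {P : Subgroup K} (hP : Nat.card P = 2 ^ n) {j : K} (hj : orderOf j = 2)
    (hc : ∀ u ∈ P, Commute u j) : centralizer ({j} : Set K) = P :=
  (Subgroup.eq_of_le_of_card_ge (fun u hu => Subgroup.mem_centralizer_singleton_iff.2 (hc u hu).eq)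
    (by rw [h.card_cent_invol hj, hP])).symm

theorem roots_subset {P : Subgroup K} (hP : Nat.card P = 2 ^ n) {j : K} (hj : orderOf j = 2)
    (hc : ∀ u ∈ P, Commute u j) {u : K} (hu : u ∈ Roots j) : u ∈ P := by
  obtain ⟨i, hi⟩ := hu
  rw [← h.cent_eq hP hj hc, Subgroup.mem_centralizer_singleton_iff, ← hi]
  exact ((Commute.refl u).pow_right _).eq

/-- A Sylow 2-subgroup has a unique central involution. -/
theorem central_unique {P : Subgroup K} (hP : Nat.card P = 2 ^ n) {j j' : K} (hjP : j ∈ P)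
    (hj : orderOf j = 2) (hc : ∀ u ∈ P, Commute u j) (hjP' : j' ∈ P) (hj' : orderOf j' = 2)
    (hc' : ∀ u ∈ P, Commute u j') : j = j' := by
  classical
  haveI := Fintype.ofFinite K
  by_contra hne
  have hjj : j * j = 1 := by rw [← pow_two, ← hj, pow_orderOf_eq_one]
  have hjj' : j' * j' = 1 := by rw [← pow_two, ← hj', pow_orderOf_eq_one]
  have h3 : orderOf (j * j') = 2 := orderOf_eq_prime
    (by rw [pow_two, (hc' j hjP).symm.mul_mul_mul_comm, hjj, hjj', one_mul])
    fun e => hne (by rw [← mul_left_inj j', e, hjj'])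
  have hc3 : ∀ u ∈ P, Commute u (j * j') := fun u hu => (hc u hu).mul_right (hc' u hu)
  have hd : ∀ a b : K, orderOf a = 2 → orderOf b = 2 → a ≠ b →
      Disjoint (Roots a).toFinset (Roots b).toFinset := by
    intro a b ha hb hab
    rw [Finset.disjoint_left]
    intro u hu hu'
    rw [Set.mem_toFinset] at hu hu'
    obtain ⟨i, hi⟩ := hu
    obtain ⟨i', hi'⟩ := hu'
    exact hab (by rw [← hi, ← hi']; exact invol_unique (hi.symm ▸ ha) (hi'.symm ▸ hb))
  have hs : (Roots j).toFinset ∪ (Roots j').toFinset ∪ (Roots (j * j')).toFinset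
      ⊆ (P : Set K).toFinset.erase 1 := by
    intro u hu
    rw [Finset.mem_erase, Set.mem_toFinset]
    simp only [Finset.mem_union, Set.mem_toFinset] at hu
    have key : ∀ a : K, orderOf a = 2 → (∀ v ∈ P, Commute v a) → u ∈ Roots a → u ≠ 1 ∧ u ∈ P := by
      intro a ha hca hua
      refine ⟨fun e => ?_, h.roots_subset hP ha hca hua⟩
      obtain ⟨i, hi⟩ := hua
      rw [e, one_pow] at hi
      rw [← hi, orderOf_one] at ha
      omega
    rcases hu with (hu | hu) | hu
    · exact key j hj hc hu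
    · exact key j' hj' hc' hu
    · exact key _ h3 hc3 hu
  have hne1 : j ≠ j * j' := fun e => by
    have e' : j' = 1 := mul_left_cancel (a := j) (by rw [← e, mul_one])
    rw [e', orderOf_one] at hj'
    omega
  have hne2 : j' ≠ j * j' := fun e => by
    have e' : j = 1 := mul_right_cancel (b := j') (by rw [← e, one_mul])
    rw [e', orderOf_one] at hj
    omega
  have hcard := Finset.card_le_card hs
  rw [Finset.card_union_of_disjoint
      (Finset.disjoint_union_left.2 ⟨hd _ _ hj h3 hne1, hd _ _ hj' h3 hne2⟩),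
    Finset.card_union_of_disjoint (hd _ _ hj hj' hne),
    Finset.card_erase_of_mem (by simp [one_mem])] at hcard
  simp only [Set.toFinset_card, ← Nat.card_eq_fintype_card] at hcard
  rw [show Nat.card ((P : Set K)) = 2 ^ n from hP] at hcard
  have r1 := h.roots_card hj
  have r2 := h.roots_card hj'
  have r3 := h.roots_card h3
  have hn := h.three
  obtain ⟨l, hl⟩ : ∃ l, n = l + 3 := ⟨n - 3, by omega⟩
  have hq : 1 ≤ 2 ^ n := Nat.one_le_two_pow
  rw [hl, show l + 3 - 1 = l + 2 by omega] at r1 r2 r3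
  rw [hl] at hcard hq
  generalize Nat.card (Roots j) = a at *
  generalize Nat.card (Roots j') = b at *
  generalize Nat.card (Roots (j * j')) = c at *
  generalize 2 ^ (l + 3) = q at *
  obtain ⟨q', rfl⟩ : ∃ q', q = q' + 1 := ⟨q - 1, by omega⟩
  rw [Nat.add_sub_cancel] at hcard
  have := Nat.mul_le_mul_left (2 * (l + 3)) hcard
  nlinarith [Nat.zero_le (l * q'), Nat.zero_le l, Nat.zero_le q']

set_option maxHeartbeats 800000 in
theorem n_eq_three : n = 3 := by
  classical
  haveI : Fact (Nat.Prime 2) := ⟨Nat.prime_two⟩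
  obtain ⟨k, hk, h0, h1⟩ := h.exists_swap
  obtain ⟨hnp, hPhi, hinv, hcent⟩ := h.structure_Phi hk h0 h1
  haveI : Fact n.Prime := ⟨hnp⟩
  have hn3 := h.three
  let Hs : Subgroup K :=
    { carrier := {g | L g (1 : F) = 1}
      one_mem' := h.L_one _
      mul_mem' := fun {a b} ha hb => by
        show L (a * b) (1 : F) = 1
        rw [h.L_mul, show L b (1 : F) = 1 from hb]
        exact ha
      inv_mem' := fun {a} ha => by
        show L a⁻¹ (1 : F) = 1
        conv_lhs => rw [← show L a (1 : F) = 1 from ha]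
        exact h.L_inv a 1 }
  have hkH : k ∈ Hs := h.swap_L_one h0 h1
  have hPhiH : Phi K F ≤ Hs := fun φ hφ => by
    show L φ (1 : F) = 1
    rw [L, show φ • (1 : F) = 1 from hφ.2, show φ • (0 : F) = 0 from hφ.1, add_zero]
  -- the order of `Hs`
  have hHcard : Nat.card Hs = 2 ^ n * n := by
    have h4 : Nat.card {c : F // c ≠ 0} * Nat.card Hs = Nat.card K := by
      rw [← Nat.card_prod]
      have hs : ∀ c : {c : F // c ≠ 0}, ∃ τ : K, ∀ x : F, τ • x = (c : F) * x := fun c => h.scal _ c.2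
      choose τ hτ using hs
      have hLτ : ∀ c z, L (τ c) z = (c : F) * z := fun c z => by
        rw [L, hτ, hτ, mul_zero, add_zero]
      refine Nat.card_congr (Equiv.ofBijective (fun p => τ p.1 * (p.2 : K)) ⟨?_, fun g => ?_⟩)
      · rintro ⟨c, u⟩ ⟨c', u'⟩ e
        have e1 := congrArg (fun g => L g (1 : F)) e
        simp only [h.L_mul, show L (u : K) (1 : F) = 1 from u.2,
          show L (u' : K) (1 : F) = 1 from u'.2, hLτ, mul_one] at e1
        obtain rfl : c = c' := Subtype.ext e1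
        exact Prod.ext rfl (Subtype.ext (mul_left_cancel e))
      · have hne : L g (1 : F) ≠ 0 := fun e =>
          one_ne_zero (h.L_inj g (e.trans (h.L_zero g).symm))
        refine ⟨(⟨_, hne⟩, ⟨(τ ⟨_, hne⟩)⁻¹ * g, ?_⟩), by simp⟩
        show L ((τ ⟨_, hne⟩)⁻¹ * g) (1 : F) = 1
        apply h.L_inj (τ ⟨_, hne⟩)
        rw [← h.L_mul, mul_inv_cancel_left, hLτ, mul_one]
    have h5 : Nat.card {c : F // c ≠ 0} = 2 ^ n - 1 := by
      show Nat.card (({0} : Set F)ᶜ : Set F) = 2 ^ n - 1
      rw [Nat.card_coe_set_eq, Set.ncard_compl, Set.ncard_singleton, h.card]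
    have h6 := h.invol_class_card hk h0 h1
    have h7 : Nat.card (stabilizer K (0 : F)) = (2 ^ n - 1) * n := by
      have ho : MulAction.orbit (stabilizer K (0 : F)) (1 : F) = {x : F | x ≠ 0} := by
        ext x
        constructor
        · rintro ⟨⟨g, hg⟩, rfl⟩ e
          have hg' : g • (0 : F) = 0 := hg
          have e' : g • (1 : F) = g • (0 : F) := by rw [hg']; exact e
          exact one_ne_zero (MulAction.injective g e')
        · intro hx
          obtain ⟨τ, hτ⟩ := h.scal x hx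
          exact ⟨⟨τ, by show τ • (0 : F) = 0; rw [hτ, mul_zero]⟩, by
            show τ • (1 : F) = x; rw [hτ, mul_one]⟩
      have e1 : ({x : F | x ≠ 0}).ncard = 2 ^ n - 1 := by
        rw [show {x : F | x ≠ 0} = ({0} : Set F)ᶜ from rfl, Set.ncard_compl, Set.ncard_singleton,
          h.card]
      have e2 : Nat.card (stabilizer (stabilizer K (0 : F)) (1 : F)) = n := by
        rw [← hPhi]
        exact Nat.card_congr
          { toFun := fun g => ⟨(g.1 : K), ⟨g.1.2, g.2⟩⟩
            invFun := fun g => ⟨⟨(g : K), g.2.1⟩, g.2.2⟩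
            left_inv := fun _ => rfl
            right_inv := fun _ => rfl }
      rw [← Subgroup.index_mul_card (stabilizer (stabilizer K (0 : F)) (1 : F)), index_stabilizer, ho,
        e1, e2]
    rw [h5, h.card_group, h.card, h7] at h4
    have h8 : 0 < 2 ^ n - 1 := by
      have : 2 ^ 1 ≤ 2 ^ n := pow_le_pow_right₀ one_le_two (by omega)
      omega
    refine Nat.eq_of_mul_eq_mul_left h8 ?_
    rw [h4]
    ring
  obtain ⟨V₀, N₀, hVn, hV2, hNn, hVN, hNcard⟩ :=
    exists_two_core (H := Hs) (a := n) hnp (by omega) hHcard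
  haveI := hVn
  haveI := hNn
  set ΦH : Subgroup Hs := (Phi K F).subgroupOf Hs with hΦH
  have hΦcard : Nat.card ΦH = n :=
    (Nat.card_congr (subgroupOfEquivOfLe hPhiH).toEquiv).trans hPhi
  obtain ⟨bV, hbV⟩ := IsPGroup.iff_card.1 hV2
  have hcop : Nat.Coprime n (2 ^ bV) :=
    Nat.Coprime.pow_right _ ((Nat.coprime_primes hnp Nat.prime_two).2 (by omega))
  -- a Sylow `n`-subgroup of `N₀` and of `Hs`
  have hfac : (Nat.card Hs).factorization n = 1 := by
    rw [hHcard, Nat.factorization_mul (by positivity) (by omega), Finsupp.add_apply,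
      Nat.Prime.factorization_pow Nat.prime_two, Finsupp.single_eq_of_ne (by omega),
      hnp.factorization_self, zero_add]
  let SΦ : Sylow n Hs := Sylow.ofCard ΦH (by rw [hΦcard, hfac, pow_one])
  obtain ⟨Q⟩ := (inferInstance : Nonempty (Sylow n N₀))
  have hQcard : Nat.card (Q : Subgroup N₀) = n := by
    rw [Sylow.card_eq_multiplicity, hNcard, hbV,
      Nat.factorization_mul (by positivity) (by omega), Finsupp.add_apply,
      Nat.Prime.factorization_pow Nat.prime_two, Finsupp.single_eq_of_ne (by omega),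
      hnp.factorization_self, zero_add, pow_one]
  have hΦN : ΦH ≤ N₀ := by
    let SQ : Sylow n Hs := Sylow.ofCard ((Q : Subgroup N₀).map N₀.subtype)
      (by rw [Subgroup.card_map_of_injective N₀.subtype_injective, hQcard, hfac, pow_one])
    obtain ⟨g, hg⟩ := MulAction.exists_smul_eq Hs SQ SΦ
    intro x hx
    have hx' : x ∈ ((g • SQ : Sylow n Hs) : Subgroup Hs) := by rw [hg]; exact hx
    rw [Cfsg.Lib.Transfer.sylow_smul_coe, Cfsg.Lib.Transfer.mem_map_conj] at hx'
    obtain ⟨y, -, hy⟩ := Subgroup.mem_map.1 hx'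
    have h2 := hNn.conj_mem _ y.2 g
    rw [show (y : Hs) = g⁻¹ * x * g from hy] at h2
    simpa [mul_assoc] using h2
  have hfrat := Sylow.normalizer_sup_eq_top' (N := N₀) SΦ hΦN
  have hfrat' : V₀ ⊔ normalizer (ΦH : Set Hs) = ⊤ := by
    have hN0 : N₀ ≤ V₀ ⊔ ΦH := by
      have hle : V₀ ⊔ ΦH ≤ N₀ := sup_le hVN hΦN
      refine (Subgroup.eq_of_le_of_card_ge hle ?_).ge
      rw [hNcard]
      have d1 : Nat.card V₀ ∣ Nat.card ↥(V₀ ⊔ ΦH) := Subgroup.card_dvd_of_le le_sup_left
      have d2 : Nat.card ΦH ∣ Nat.card ↥(V₀ ⊔ ΦH) := Subgroup.card_dvd_of_le le_sup_right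
      rw [hΦcard] at d2
      refine Nat.le_of_dvd Nat.card_pos (Nat.Coprime.mul_dvd_of_dvd_of_dvd ?_ d1 d2)
      rw [hbV]
      exact hcop.symm
    rw [eq_top_iff, ← hfrat]
    refine sup_le le_sup_right (hN0.trans (sup_le le_sup_left ?_))
    exact le_trans (Subgroup.le_normalizer) le_sup_right
  -- the normalizer of `Phi` has order at most `2 n`
  have hnorm : Nat.card (normalizer (ΦH : Set Hs)) ≤ 2 * n := by
    set k' : Hs := ⟨k, hkH⟩
    have key : ∀ g ∈ normalizer (ΦH : Set Hs),
        (g : K) ∈ Phi K F ∨ k * (g : K) ∈ Phi K F := by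
      intro g hg
      haveI : Nontrivial (Phi K F) := Finite.one_lt_card_iff_nontrivial.1 (by rw [hPhi]; omega)
      obtain ⟨⟨φ, hφ⟩, hφ1⟩ := exists_ne (1 : Phi K F)
      have hφne : φ ≠ 1 := fun e => hφ1 (Subtype.ext e)
      have hc2 : ∀ x : F, φ • x = x → x = 0 ∨ x = 1 := by
        intro x hx
        by_cases hx0 : x = 0
        · exact Or.inl hx0
        obtain ⟨τ, hτ⟩ := h.scal x hx0
        have h2 : τ • (1 : F) = 1 := (hcent φ hφ hφne τ (h.scal_comm hφ hx hτ)).2
        rw [hτ, mul_one] at h2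
        exact Or.inr h2
      have hpt : ∀ x : F, x = 0 ∨ x = 1 → (g : K) • x = 0 ∨ (g : K) • x = 1 := by
        intro x hx
        apply hc2
        have h2 : g⁻¹ * ⟨φ, hPhiH hφ⟩ * g ∈ ΦH :=
          ((Subgroup.mem_normalizer_iff'').1 hg _).1 hφ
        have h3 : ((g : K)⁻¹ * φ * g) • x = x := by
          rcases hx with rfl | rfl
          · exact (h2 : (g : K)⁻¹ * φ * g ∈ Phi K F).1
          · exact (h2 : (g : K)⁻¹ * φ * g ∈ Phi K F).2
        rw [mul_smul, mul_smul, inv_smul_eq_iff] at h3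
        exact h3
      have hne : (g : K) • (0 : F) ≠ (g : K) • (1 : F) := fun e =>
        zero_ne_one (MulAction.injective (g : K) e)
      rcases hpt 0 (Or.inl rfl) with e0 | e0
      · left
        refine ⟨e0, (hpt 1 (Or.inr rfl)).resolve_left fun e1 => hne (e0.trans e1.symm)⟩
      · right
        have e1 := (hpt 1 (Or.inr rfl)).resolve_right fun e1 => hne (e0.trans e1.symm)
        exact ⟨by show (k * (g : K)) • (0 : F) = 0; rw [mul_smul, e0, h1],
          by show (k * (g : K)) • (1 : F) = 1; rw [mul_smul, e1, h0]⟩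
    have hi : Nat.card (normalizer (ΦH : Set Hs)) ≤ Nat.card (Phi K F ⊕ Phi K F) := by
      refine Nat.card_le_card_of_injective (fun g => if hg : (g.1 : K) ∈ Phi K F then Sum.inl ⟨_, hg⟩
        else Sum.inr ⟨_, (key g.1 g.2).resolve_left hg⟩) fun a b e => ?_
      simp only at e
      split_ifs at e with ha hb hb
      · exact Subtype.ext (Subtype.ext (congrArg Subtype.val (Sum.inl.inj e) :))
      · exact Subtype.ext (Subtype.ext (mul_left_cancel (congrArg Subtype.val (Sum.inr.inj e) :)))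
    rw [Nat.card_sum, hPhi] at hi
    omega
  -- `|V| ≥ q / 2`
  have hVbig : 2 ^ n ≤ Nat.card V₀ * 2 := by
    have h2 : Nat.card Hs ≤ Nat.card V₀ * Nat.card (normalizer (ΦH : Set Hs)) := by
      have h3 : ((V₀ : Set Hs) * (normalizer (ΦH : Set Hs) : Set Hs)) = Set.univ := by
        rw [← Subgroup.normal_mul, hfrat', Subgroup.coe_top]
      calc Nat.card Hs = Nat.card ((V₀ : Set Hs) * (normalizer (ΦH : Set Hs) : Set Hs) : Set Hs) := by
            rw [h3]; exact (Nat.card_congr (Equiv.Set.univ Hs)).symm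
        _ ≤ _ := Set.natCard_mul_le
    rw [hHcard] at h2
    have h3 : 2 ^ n * n ≤ Nat.card V₀ * (2 * n) := h2.trans (Nat.mul_le_mul_left _ hnorm)
    exact Nat.le_of_mul_le_mul_right (by rwa [← mul_assoc] at h3) (by omega)
  set V : Subgroup K := V₀.map Hs.subtype with hV
  have hVcard : Nat.card V = 2 ^ bV :=
    (Subgroup.card_map_of_injective Hs.subtype_injective).trans hbV
  have hVconj : ∀ g ∈ Hs, ∀ v ∈ V, g * v * g⁻¹ ∈ V := by
    rintro g hg _ ⟨v, hv, rfl⟩
    exact ⟨_, hVn.conj_mem v hv ⟨g, hg⟩, by simp⟩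
  have hV2' : IsPGroup 2 V := hV2.map Hs.subtype
  haveI : Nontrivial (Phi K F) := Finite.one_lt_card_iff_nontrivial.1
    (show 1 < Nat.card (Phi K F) by rw [hPhi]; omega)
  obtain ⟨⟨φ, hφ⟩, hφ1⟩ := exists_ne (1 : Phi K F)
  have hφne : φ ≠ 1 := fun e => hφ1 (Subtype.ext e)
  have hφfpf : ∀ v ∈ V, φ * v * φ⁻¹ = v → v = 1 := by
    intro v hv e
    exact (IsTwoEl.of_mem hV2' hv).eq_one (h.odd_of_fix
      (hcent φ hφ hφne v (mul_inv_eq_iff_eq_mul.1 e).symm).1)
  -- `k ∉ V`
  have hkV : k ∉ V := by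
    intro hkV
    have h2 := mul_mem (hVconj φ (hPhiH hφ) k hkV) (inv_mem hkV)
    have e : φ * k * φ⁻¹ * k⁻¹ = φ * φ := by
      rw [inv_eq_of_mul_eq_one_right hk, show φ * k * φ⁻¹ * k = φ * (k * φ⁻¹ * k) by group,
        hinv φ⁻¹ (inv_mem hφ), inv_inv]
    rw [e] at h2
    have h3 : φ * φ = 1 :=
      (IsTwoEl.of_mem hV2' h2).eq_one (h.odd_of_fix (mul_mem hφ hφ : φ * φ ∈ Phi K F).1)
    exact hφne (IsTwoEl.eq_one ⟨1, by rw [pow_one, pow_two, h3]⟩ (h.odd_of_fix hφ.1))
  set P : Subgroup K := V ⊔ zpowers k with hPdef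
  have hknorm : k ∈ normalizer (V : Set K) := by
    rw [Subgroup.mem_normalizer_iff]
    refine fun v => ⟨fun hv => hVconj k hkH v hv, fun hv => ?_⟩
    have := hVconj k hkH _ hv
    rwa [inv_eq_of_mul_eq_one_right hk, show k * (k * v * k) * k = (k * k) * v * (k * k) by group,
      hk, one_mul, mul_one] at this
  have hk2 : orderOf k = 2 := orderOf_eq_prime (by rw [pow_two, hk]) fun e => hkV (e ▸ one_mem V)
  have hP2 : IsPGroup 2 P := by
    refine IsPGroup.to_sup_of_normal_left' hV2' (IsTwoEl.isPGroup (isTwoEl_of_orderOf_two hk2)) ?_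
    exact zpowers_le.2 hknorm
  have hPle : Nat.card P ≤ 2 ^ n := by
    obtain ⟨S, hS⟩ := hP2.exists_le_sylow
    rw [← h.sylow_card S]
    exact Nat.le_of_dvd Nat.card_pos (Subgroup.card_dvd_of_le hS)
  have hPlt : Nat.card V < Nat.card P := by
    refine lt_of_le_of_ne (Nat.le_of_dvd Nat.card_pos (Subgroup.card_dvd_of_le le_sup_left)) ?_
    intro e
    have : P = V := (Subgroup.eq_of_le_of_card_ge le_sup_left e.ge).symm
    exact hkV (this ▸ (mem_sup_right (mem_zpowers k)))
  have hPcard : Nat.card P = 2 ^ n := by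
    refine le_antisymm hPle ?_
    rw [hbV] at hVbig
    rw [hVcard] at hPlt
    obtain ⟨b, hb⟩ := IsPGroup.iff_card.1 hP2
    rw [hb] at hPlt ⊢
    have h2 : bV < b := (Nat.pow_lt_pow_iff_right (by norm_num)).1 hPlt
    exact hVbig.trans (by rw [← pow_succ]; exact pow_le_pow_right₀ one_le_two h2)
  -- the elementary part of the centre of `V`
  let W : Subgroup K :=
    { carrier := {v | v ∈ V ∧ (∀ u ∈ V, Commute u v) ∧ v * v = 1}
      one_mem' := ⟨one_mem V, fun u _ => Commute.one_right u, one_mul 1⟩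
      mul_mem' := fun {a b} ha hb => ⟨mul_mem ha.1 hb.1,
        fun u hu => (ha.2.1 u hu).mul_right (hb.2.1 u hu), by
          rw [(hb.2.1 a ha.1).symm.mul_mul_mul_comm, ha.2.2, hb.2.2, one_mul]⟩
      inv_mem' := fun {a} ha => ⟨inv_mem ha.1, fun u hu => (ha.2.1 u hu).inv_right, by
        rw [← mul_inv_rev, ha.2.2, inv_one]⟩ }
  have hWconj : ∀ g ∈ Hs, ∀ v ∈ W, g * v * g⁻¹ ∈ W := by
    rintro g hg v ⟨hv, hvc, hv2⟩
    refine ⟨hVconj g hg v hv, fun u hu => ?_, ?_⟩
    · have h2 : g⁻¹ * u * g ∈ V := by simpa using hVconj g⁻¹ (inv_mem hg) u hu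
      have := (hvc _ h2).map (MulAut.conj g)
      simpa [mul_assoc] using this
    · rw [show g * v * g⁻¹ * (g * v * g⁻¹) = g * (v * v) * g⁻¹ by group, hv2]
      group
  haveI : Nontrivial V := by
    refine Finite.one_lt_card_iff_nontrivial.1 ?_
    rw [hVcard]
    rw [hbV] at hVbig
    have h8 : 2 ^ 3 ≤ 2 ^ n := pow_le_pow_right₀ one_le_two hn3
    omega
  haveI := hV2'.center_nontrivial
  obtain ⟨⟨z, hz⟩, hz1⟩ := exists_ne (1 : center V)
  have hz1' : (z : K) ≠ 1 := fun e => hz1 (Subtype.ext (Subtype.ext e))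
  obtain ⟨i, hi⟩ := (IsTwoEl.of_mem hV2' z.2).exists_invol hz1'
  have hwW : (z : K) ^ 2 ^ i ∈ W := ⟨pow_mem z.2 _, fun u hu => by
      have := Subgroup.mem_center_iff.1 hz ⟨u, hu⟩
      exact (show Commute u (z : K) from congrArg Subtype.val this).pow_right _,
    by
      have := pow_orderOf_eq_one ((z : K) ^ 2 ^ i)
      rwa [hi, pow_two] at this⟩
  haveI : Nontrivial W := ⟨⟨⟨_, hwW⟩, 1, fun e => by
    have e' : (z : K) ^ 2 ^ i = 1 := congrArg Subtype.val e
    rw [e', orderOf_one] at hi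
    omega⟩⟩
  -- `k`-fixed elements of `W` are central in `P`
  have hfix : ∀ a b : W, (a : K) ≠ 1 → (b : K) ≠ 1 → Commute k (a : K) → Commute k (b : K) →
      a = b := by
    intro a b ha1 hb1 hac hbc
    have key : ∀ c : W, Commute k (c : K) → ∀ u ∈ P, Commute u (c : K) := by
      intro c hc u hu
      have hle : P ≤ centralizer ({(c : K)} : Set K) := by
        refine sup_le (fun v hv => ?_) (zpowers_le.2 ?_)
        · exact Subgroup.mem_centralizer_singleton_iff.2 (c.2.2.1 v hv).eq
        · exact Subgroup.mem_centralizer_singleton_iff.2 hc.eq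
      exact Subgroup.mem_centralizer_singleton_iff.1 (hle hu)
    exact Subtype.ext (h.central_unique hPcard (mem_sup_left a.2.1)
      (orderOf_eq_prime (by rw [pow_two]; exact a.2.2.2) ha1) (key a hac) (mem_sup_left b.2.1)
      (orderOf_eq_prime (by rw [pow_two]; exact b.2.2.2) hb1) (key b hbc))
  let θ : W →* W :=
    { toFun := fun v => v * ⟨k * v * k⁻¹, hWconj k hkH v v.2⟩
      map_one' := Subtype.ext (by simp)
      map_mul' := fun v w => Subtype.ext (by
        show (v : K) * w * (k * (v * w) * k⁻¹) = v * (k * v * k⁻¹) * (w * (k * w * k⁻¹))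
        have hc : Commute (w : K) (k * v * k⁻¹) := ((hWconj k hkH v v.2).2.1 w w.2.1)
        rw [show k * ((v : K) * w) * k⁻¹ = (k * v * k⁻¹) * (k * w * k⁻¹) by group]
        exact hc.mul_mul_mul_comm _ _) }
  have hθfix : ∀ v : W, (θ v : K) * k = k * θ v := by
    intro v
    show (v : K) * (k * v * k⁻¹) * k = k * (v * (k * v * k⁻¹))
    have hc : Commute (v : K) (k * v * k⁻¹) := ((hWconj k hkH v v.2).2.1 v v.2.1)
    have e : k⁻¹ = k := inv_eq_of_mul_eq_one_right hk
    rw [e] at hc ⊢
    calc (v : K) * (k * v * k) * k = k * v * k * v * k := by rw [hc.eq]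
      _ = k * (v * (k * v * k)) := by group
  have hker : ∀ v : W, v ∈ θ.ker → Commute k (v : K) := by
    intro v hv
    have e : (v : K) * (k * v * k⁻¹) = 1 := congrArg Subtype.val (MonoidHom.mem_ker.1 hv)
    have e2 : k * v * k⁻¹ = (v : K) := by
      rw [← inv_eq_of_mul_eq_one_right e, inv_eq_of_mul_eq_one_right v.2.2.2]
    exact mul_inv_eq_iff_eq_mul.1 e2
  have hsmall : ∀ S : Subgroup W, (∀ v ∈ S, Commute k (v : K)) → Nat.card S ≤ 2 := by
    intro S hS
    by_contra hlt
    haveI := Fintype.ofFinite S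
    rw [not_le, Nat.card_eq_fintype_card] at hlt
    obtain ⟨a, ha⟩ := Fintype.exists_ne_of_one_lt_card (by omega) (1 : S)
    have : ∀ b : S, b = 1 ∨ b = a := by
      intro b
      by_cases hb : b = 1
      · exact Or.inl hb
      · exact Or.inr (Subtype.ext (hfix b.1 a.1 (fun e => hb (Subtype.ext (Subtype.ext e)))
          (fun e => ha (Subtype.ext (Subtype.ext e))) (hS _ b.2) (hS _ a.2)))
    have h2 : (Finset.univ : Finset S) ⊆ {1, a} := fun b _ => by
      rcases this b with e | e <;> simp [e]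
    have := (Finset.card_le_card h2).trans Finset.card_le_two
    rw [Finset.card_univ] at this
    omega
  have hW4 : Nat.card W ≤ 4 := by
    rw [← Subgroup.card_mul_index θ.ker, Subgroup.index_ker]
    exact Nat.mul_le_mul (hsmall _ hker) (hsmall _ fun v hv => by
      obtain ⟨w, rfl⟩ := hv
      exact (hθfix w).symm)
  -- `Phi` acts on `W` fixed point freely
  letI : MulAction (Phi K F) W :=
    { smul := fun p v => ⟨(p : K) * v * (p : K)⁻¹, hWconj p (hPhiH p.2) v v.2⟩
      one_smul := fun v => Subtype.ext (show (1 : K) * v * (1 : K)⁻¹ = v by group)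
      mul_smul := fun p r v => Subtype.ext (show (p * r : K) * v * (p * r : K)⁻¹
          = p * (r * v * (r : K)⁻¹) * (p : K)⁻¹ by group) }
  have hPn : IsPGroup n (Phi K F) := IsPGroup.of_card (n := 1) (by rw [hPhi, pow_one])
  have hmod := hPn.card_modEq_card_fixedPoints W
  have hfp : MulAction.fixedPoints (Phi K F) W = {1} := by
    ext v
    simp only [MulAction.mem_fixedPoints, Set.mem_singleton_iff]
    constructor
    · intro hv
      exact Subtype.ext (hφfpf v v.2.1 (congrArg Subtype.val (hv ⟨φ, hφ⟩)))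
    · rintro rfl p
      exact Subtype.ext (show (p : K) * 1 * (p : K)⁻¹ = 1 by group)
  rw [hfp, Nat.card_coe_set_eq, Set.ncard_singleton] at hmod
  have hW1 : 1 < Nat.card W := Finite.one_lt_card
  have hd : n ∣ Nat.card W - 1 := (Nat.modEq_iff_dvd' hW1.le).1 hmod.symm
  have hle := Nat.le_of_dvd (by omega) hd
  omega

/-- The structure. -/
theorem conclusion : n = 3 ∧ (∀ x y : K, orderOf x = 2 → orderOf y = 2 → IsConj x y) ∧
    ∀ P : Sylow 2 K, ∃ j a : K, j ∈ (P : Subgroup K) ∧ orderOf j = 2 ∧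
      (∀ u ∈ (P : Subgroup K), Commute u j) ∧ a ∈ (P : Subgroup K) ∧ a * a = j ∧
      ∀ x ∈ (P : Subgroup K), x * x ≠ 1 → x = a ∨ x = a⁻¹ := by
  classical
  haveI := Fintype.ofFinite K
  haveI : Fact (Nat.Prime 2) := ⟨Nat.prime_two⟩
  have hn := h.n_eq_three
  obtain ⟨k, hk, h0, h1⟩ := h.exists_swap
  refine ⟨hn, fun x y hx hy => (h.invol_isConj hk h0 h1 hx).trans (h.invol_isConj hk h0 h1 hy).symm,
    fun P => ?_⟩
  have hPc := h.sylow_card P
  haveI : Nontrivial (P : Subgroup K) := Finite.one_lt_card_iff_nontrivial.1 (by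
    rw [hPc, hn]; norm_num)
  haveI := P.isPGroup'.center_nontrivial
  obtain ⟨⟨z, hz⟩, hz1⟩ := exists_ne (1 : center (P : Subgroup K))
  have hz1' : (z : K) ≠ 1 := fun e => hz1 (Subtype.ext (Subtype.ext e))
  obtain ⟨i, hi⟩ := (IsTwoEl.of_mem P.isPGroup' z.2).exists_invol hz1'
  set j : K := (z : K) ^ 2 ^ i with hjdef
  have hjP : j ∈ (P : Subgroup K) := pow_mem z.2 _
  have hjc : ∀ u ∈ (P : Subgroup K), Commute u j := fun u hu => by
    have := Subgroup.mem_center_iff.1 hz ⟨u, hu⟩
    exact (show Commute u (z : K) from congrArg Subtype.val this).pow_right _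
  have hR : Nat.card (Roots j) = 3 := by
    have := h.roots_card hi
    rw [hn] at this
    omega
  have hjj : j * j = 1 := by rw [← pow_two, ← hi, pow_orderOf_eq_one]
  have hjR : j ∈ Roots j := ⟨0, by simp⟩
  have hsq : ∀ x ∈ (P : Subgroup K), x * x ≠ 1 → x * x = j := by
    intro x hx hx2
    have hd : orderOf x ∣ 2 ^ 3 := by
      rw [← hn, ← hPc, Subgroup.orderOf_mk x hx |>.symm]
      exact orderOf_dvd_natCard _
    obtain ⟨e, he3, he⟩ := (Nat.dvd_prime_pow Nat.prime_two).1 hd
    interval_cases e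
    · rw [pow_zero, orderOf_eq_one_iff] at he
      exact absurd (by rw [he, mul_one]) hx2
    · exact absurd (by rw [← pow_two, ← pow_one 2, ← he, pow_orderOf_eq_one]) hx2
    · -- order four: the square is central
      have hox : orderOf (x * x) = 2 := by
        rw [← pow_two, orderOf_pow' x (by norm_num), he]
        norm_num
      refine (h.central_unique hPc hjP hi hjc (mul_mem hx hx) hox ?_).symm
      intro u hu
      have hi2 : ((zpowers x).subgroupOf (P : Subgroup K)).index = 2 := by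
        have h2 := Subgroup.card_mul_index ((zpowers x).subgroupOf (P : Subgroup K))
        rw [Nat.card_congr (subgroupOfEquivOfLe (zpowers_le.2 hx)).toEquiv, Nat.card_zpowers, he,
          hPc, hn] at h2
        omega
      haveI := Subgroup.normal_of_index_eq_two hi2
      have h2 : u * x * u⁻¹ ∈ zpowers x := by
        have := Subgroup.Normal.conj_mem inferInstance
          (⟨x, hx⟩ : (P : Subgroup K)) (Subgroup.mem_subgroupOf.2 (mem_zpowers x)) ⟨u, hu⟩
        exact Subgroup.mem_subgroupOf.1 this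
      obtain ⟨m, hm⟩ := h2
      have hm' : x ^ m = u * x * u⁻¹ := hm
      have h4 : orderOf (u * x * u⁻¹) = 4 :=
        ((MulAut.conj u).orderOf_eq x).trans (he.trans (by norm_num))
      have hmodd : ¬ (2 : ℤ) ∣ m := by
        rintro ⟨l, rfl⟩
        rw [← hm'] at h4
        have : (x ^ (2 * l)) ^ 2 = 1 := by
          rw [← zpow_natCast, ← zpow_mul, show 2 * l * (2 : ℕ) = 4 * l by ring, zpow_mul,
            show x ^ (4 : ℤ) = 1 by rw [show (4 : ℤ) = ((4 : ℕ) : ℤ) from rfl, zpow_natCast,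
              show 4 = orderOf x by rw [he]; norm_num, pow_orderOf_eq_one], one_zpow]
        have := orderOf_dvd_of_pow_eq_one this
        rw [h4] at this
        norm_num at this
      show u * (x * x) = x * x * u
      rw [← mul_inv_eq_iff_eq_mul,
        show u * (x * x) * u⁻¹ = (u * x * u⁻¹) * (u * x * u⁻¹) by group, ← hm', ← zpow_add]
      obtain ⟨l, rfl⟩ := Int.not_even_iff_odd.1 (mt even_iff_two_dvd.1 hmodd)
      rw [show 2 * l + 1 + (2 * l + 1) = 4 * l + 2 by ring, zpow_add, zpow_mul,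
        show x ^ (4 : ℤ) = 1 by rw [show (4 : ℤ) = ((4 : ℕ) : ℤ) from rfl, zpow_natCast,
          show 4 = orderOf x by rw [he]; norm_num, pow_orderOf_eq_one],
        one_zpow, one_mul, show (2 : ℤ) = ((2 : ℕ) : ℤ) from rfl, zpow_natCast, pow_two]
    · -- order eight: too many roots
      exfalso
      have hPz : (P : Subgroup K) = zpowers x :=
        (Subgroup.eq_of_le_of_card_ge (zpowers_le.2 hx) (by rw [hPc, hn, Nat.card_zpowers, he])).symm
      have hox : orderOf (x ^ 2 ^ 2) = 2 := by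
        rw [orderOf_pow' x (by norm_num), he]
        norm_num
      have hjeq : x ^ 2 ^ 2 = j := by
        refine (h.central_unique hPc hjP hi hjc (pow_mem hx _) hox ?_).symm
        intro u hu
        rw [hPz] at hu
        obtain ⟨m, rfl⟩ := hu
        exact (Commute.refl x).zpow_left m |>.pow_right _
      have hsub : (fun m : Fin 4 => x ^ (2 * (m : ℕ) + 1)) '' Set.univ ⊆ Roots j := by
        rintro _ ⟨m, -, rfl⟩
        refine ⟨2, ?_⟩
        show (x ^ (2 * (m : ℕ) + 1)) ^ 2 ^ 2 = j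
        rw [← pow_mul, show (2 * (m : ℕ) + 1) * 2 ^ 2 = 8 * m + 2 ^ 2 by ring, pow_add, pow_mul,
          show x ^ 8 = 1 by rw [show 8 = orderOf x by rw [he]; norm_num, pow_orderOf_eq_one],
          one_pow, one_mul, hjeq]
      have hcard := Set.ncard_le_ncard hsub (Set.toFinite _)
      rw [Set.ncard_image_of_injective _ (fun a b e => ?_), Set.ncard_univ, Nat.card_fin,
        ← Nat.card_coe_set_eq, hR] at hcard
      · omega
      · have := pow_injOn_Iio_orderOf (x := x) (by rw [Set.mem_Iio, he]; omega)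
          (by rw [Set.mem_Iio, he]; omega) e
        exact Fin.ext (by omega)
  have hex : ∃ a ∈ (P : Subgroup K), a * a ≠ 1 := by
    by_contra hcon
    push Not at hcon
    have hsub : Roots j ⊆ {j} := by
      intro u hu
      have huP := h.roots_subset hPc hi hjc hu
      obtain ⟨m, hm⟩ := hu
      have h2 := hcon u huP
      rcases Nat.eq_zero_or_pos m with rfl | hm0
      · rw [pow_zero, pow_one] at hm
        exact hm
      · exfalso
        obtain ⟨m', rfl⟩ := Nat.exists_eq_succ_of_ne_zero hm0.ne'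
        rw [pow_succ', pow_mul, pow_two, h2, one_pow] at hm
        rw [← hm, orderOf_one] at hi
        omega
    have := Set.ncard_le_ncard hsub (Set.toFinite _)
    rw [← Nat.card_coe_set_eq, hR, Set.ncard_singleton] at this
    omega
  obtain ⟨a, haP, ha2⟩ := hex
  have haj := hsq a haP ha2
  refine ⟨j, a, hjP, hi, hjc, haP, haj, fun x hx hx2 => ?_⟩
  have hxj := hsq x hx hx2
  by_contra hcon
  push Not at hcon
  have hne : ∀ y : K, y * y = j → y ≠ j := fun y hy e => by
    rw [e, hjj] at hy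
    rw [← hy, orderOf_one] at hi
    omega
  have hainv : a⁻¹ * a⁻¹ = j := by rw [← mul_inv_rev, haj, inv_eq_of_mul_eq_one_right hjj]
  have hane : a ≠ a⁻¹ := fun e => ha2 (by nth_rw 2 [e]; rw [mul_inv_cancel])
  have hroot : ∀ y : K, y * y = j → y ∈ Roots j := fun y hy => ⟨1, by rw [pow_one, pow_two, hy]⟩
  have hsub : (({j, a, a⁻¹, x} : Finset K) : Set K) ⊆ Roots j := by
    simp only [Finset.coe_insert, Finset.coe_singleton, Set.insert_subset_iff,
      Set.singleton_subset_iff]
    exact ⟨hjR, hroot a haj, hroot _ hainv, hroot x hxj⟩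
  have := Set.ncard_le_ncard hsub (Set.toFinite _)
  rw [Set.ncard_coe_finset, ← Nat.card_coe_set_eq, hR] at this
  rw [Finset.card_insert_of_notMem (by simp [(hne a haj).symm, (hne _ hainv).symm, (hne x hxj).symm]),
    Finset.card_insert_of_notMem (by simp [hane, hcon.1.symm]),
    Finset.card_insert_of_notMem (by simp [hcon.2.symm]), Finset.card_singleton] at this
  omega

end Aff

end Cfsg.Lib.TwoTimesPSL
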