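/-
An involution `t` whose centralizer has Sylow 2-subgroup `A = ⟨t⟩ × E`, `E` the additive group of a
field of order `q ≥ 4`, with all scalars acting: the frame, and the case in which `A` is a Sylow
2-subgroup of the whole group.
-/
import Mathlib
import Cfsg.Agent.TwoTimesPSL.Dihedral

set_option autoImplicit false
set_option linter.unusedSectionVars false
set_option linter.style.haveILetI false

namespace Cfsg.Lib.TwoTimesPSL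

open Subgroup

/-- The situation. -/
structure ElemFrame (G F : Type*) [Group G] [Field F] where
  t : G
  θ : F → G
  n : ℕ
  ω : F
  τ : G
  two_le : 2 ≤ n
  card : Nat.card F = 2 ^ n
  char2 : (2 : F) = 0
  gen : ∀ x : F, x ≠ 0 → ∃ j : ℕ, ω ^ j = x
  ht : orderOf t = 2
  θ_add : ∀ x y : F, θ (x + y) = θ x * θ y
  θ_inj : Function.Injective θ
  t_not : ∀ x : F, θ x ≠ t
  t_comm : ∀ x : F, Commute t (θ x)
  sylC : ∀ Q : Subgroup G, IsPGroup 2 Q → (∀ x ∈ Q, Commute x t) →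
    ∃ g : G, Commute g t ∧ ∀ x ∈ Q, ∃ y : F, g * x * g⁻¹ = θ y ∨ g * x * g⁻¹ = t * θ y
  τ_comm : Commute τ t
  τ_act : ∀ x : F, τ * θ x * τ⁻¹ = θ (ω * x)
  normE : ∀ g : G, Commute g t → (∀ x : F, ∃ y : F, g * θ x * g⁻¹ = θ y ∨ g * θ x * g⁻¹ = t * θ y) →
    ∀ x : F, ∃ y : F, g * θ x * g⁻¹ = θ y
  semi : 3 ≤ n → ∀ g : G, Commute g t → (∀ x : F, ∃ y : F, g * θ x * g⁻¹ = θ y) →
    ∃ (u : F) (σ : F ≃+* F), ∀ x : F, g * θ x * g⁻¹ = θ (u * σ x)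

variable {G : Type*} [Group G] [Finite G] {F : Type*} [Field F] [Finite F]

theorem mem_normalizer_of_le {H : Subgroup G} {g : G} (h : ∀ x ∈ H, g * x * g⁻¹ ∈ H) :
    g ∈ normalizer (H : Set G) := by
  have hsurj : Function.Surjective fun x : H => (⟨g * x * g⁻¹, h x x.2⟩ : H) :=
    Finite.surjective_of_injective fun x y e =>
      Subtype.ext (mul_left_cancel (mul_right_cancel (congrArg Subtype.val e :)))
  refine Subgroup.mem_normalizer_iff.2 fun x => ⟨h x, fun hx => ?_⟩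
  obtain ⟨y, hy⟩ := hsurj ⟨_, hx⟩
  have : (y : G) = x := mul_left_cancel (mul_right_cancel (congrArg Subtype.val hy :))
  exact this ▸ y.2

/-- A 2-element normalizing a 2-subgroup generates a 2-group with it. -/
theorem twoGroup_sup {H : Subgroup G} (hH : IsPGroup 2 H) {u : G} (hu : IsTwoEl u)
    (hn : ∀ x ∈ H, u * x * u⁻¹ ∈ H) : IsPGroup 2 (H ⊔ zpowers u : Subgroup G) :=
  hH.to_sup_of_normal_left' hu.isPGroup (zpowers_le.2 (mem_normalizer_of_le hn))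

namespace ElemFrame

variable (Δ : ElemFrame G F)

theorem tt : Δ.t * Δ.t = 1 := by rw [← pow_two, ← Δ.ht, pow_orderOf_eq_one]

theorem t_inv : Δ.t⁻¹ = Δ.t := inv_eq_of_mul_eq_one_right Δ.tt

theorem t_ne : Δ.t ≠ 1 := fun e => by
  have := Δ.ht
  rw [e, orderOf_one] at this
  omega

include Δ in
theorem dbl (x : F) : x + x = 0 := by rw [← two_mul, Δ.char2, zero_mul]

theorem θ_zero : Δ.θ 0 = 1 := by
  have h := Δ.θ_add 0 0
  rw [add_zero] at h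
  exact (mul_eq_left.1 h.symm)

theorem θ_sq (x : F) : Δ.θ x * Δ.θ x = 1 := by rw [← Δ.θ_add, Δ.dbl, Δ.θ_zero]

theorem θ_inv (x : F) : (Δ.θ x)⁻¹ = Δ.θ x := inv_eq_of_mul_eq_one_right (Δ.θ_sq x)

theorem θ_comm (x y : F) : Commute (Δ.θ x) (Δ.θ y) := by
  show Δ.θ x * Δ.θ y = Δ.θ y * Δ.θ x
  rw [← Δ.θ_add, ← Δ.θ_add, add_comm]

theorem θ_eq_one {x : F} (h : Δ.θ x = 1) : x = 0 := Δ.θ_inj (h.trans Δ.θ_zero.symm)

theorem tθ_ne (x y : F) : Δ.t * Δ.θ x ≠ Δ.θ y := fun e =>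
  Δ.t_not (y + x) (by rw [Δ.θ_add, ← e, mul_assoc, Δ.θ_sq, mul_one])

theorem τ_pow (j : ℕ) (x : F) : Δ.τ ^ j * Δ.θ x * (Δ.τ ^ j)⁻¹ = Δ.θ (Δ.ω ^ j * x) := by
  induction j with
  | zero => simp
  | succ j ih =>
    rw [pow_succ', mul_inv_rev, show Δ.τ * Δ.τ ^ j * Δ.θ x * ((Δ.τ ^ j)⁻¹ * Δ.τ⁻¹)
      = Δ.τ * (Δ.τ ^ j * Δ.θ x * (Δ.τ ^ j)⁻¹) * Δ.τ⁻¹ by group, ih, Δ.τ_act, ← mul_assoc, ← pow_succ']

theorem τ_pow_t (j : ℕ) : Δ.τ ^ j * Δ.t * (Δ.τ ^ j)⁻¹ = Δ.t := by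
  rw [(Δ.τ_comm.pow_left j).eq, mul_inv_cancel_right]

/-- `⟨t⟩ × E`. -/
def A : Subgroup G where
  carrier := {x | ∃ y : F, x = Δ.θ y ∨ x = Δ.t * Δ.θ y}
  one_mem' := ⟨0, Or.inl Δ.θ_zero.symm⟩
  mul_mem' := by
    rintro x y ⟨a, rfl | rfl⟩ ⟨b, rfl | rfl⟩ <;> refine ⟨a + b, ?_⟩ <;> rw [Δ.θ_add]
    · exact Or.inl rfl
    · exact Or.inr (by rw [← mul_assoc, ← (Δ.t_comm a).eq, mul_assoc])
    · exact Or.inr (mul_assoc _ _ _)
    · exact Or.inl (by rw [(Δ.t_comm a).symm.mul_mul_mul_comm, Δ.tt, one_mul])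
  inv_mem' := by
    rintro x ⟨a, rfl | rfl⟩
    · exact ⟨a, Or.inl (Δ.θ_inv a)⟩
    · exact ⟨a, Or.inr (by rw [mul_inv_rev, Δ.t_inv, Δ.θ_inv, (Δ.t_comm a).eq])⟩

theorem θ_mem (x : F) : Δ.θ x ∈ Δ.A := ⟨x, Or.inl rfl⟩

theorem tθ_mem (x : F) : Δ.t * Δ.θ x ∈ Δ.A := ⟨x, Or.inr rfl⟩

theorem t_mem : Δ.t ∈ Δ.A := ⟨0, Or.inr (by rw [Δ.θ_zero, mul_one])⟩

theorem A_sq {x : G} (hx : x ∈ Δ.A) : x * x = 1 := by
  obtain ⟨a, rfl | rfl⟩ := hx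
  · exact Δ.θ_sq a
  · rw [(Δ.t_comm a).symm.mul_mul_mul_comm, Δ.tt, Δ.θ_sq, one_mul]

theorem A_comm {x y : G} (hx : x ∈ Δ.A) (hy : y ∈ Δ.A) : Commute x y := by
  have h := Δ.A_sq (mul_mem hx hy)
  show x * y = y * x
  rw [mul_eq_one_iff_eq_inv.1 h, mul_inv_rev, inv_eq_of_mul_eq_one_right (Δ.A_sq hx),
    inv_eq_of_mul_eq_one_right (Δ.A_sq hy)]

theorem A_comm_t {x : G} (hx : x ∈ Δ.A) : Commute x Δ.t := Δ.A_comm hx Δ.t_mem

theorem A_two : IsPGroup 2 Δ.A := fun x => ⟨1, Subtype.ext (by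
  push_cast
  rw [pow_two, Δ.A_sq x.2])⟩

theorem A_card : Nat.card Δ.A = 2 * Nat.card F := by
  have e : Nat.card Δ.A = Nat.card (Bool × F) := by
    refine (Nat.card_congr (Equiv.ofBijective
      (fun p : Bool × F => (⟨cond p.1 Δ.t 1 * Δ.θ p.2, by
        obtain ⟨b, y⟩ := p
        cases b
        · exact ⟨y, Or.inl (one_mul _)⟩
        · exact ⟨y, Or.inr rfl⟩⟩ : Δ.A)) ⟨?_, ?_⟩)).symm
    · rintro ⟨b, y⟩ ⟨c, z⟩ h
      have h' : cond b Δ.t 1 * Δ.θ y = cond c Δ.t 1 * Δ.θ z := congrArg Subtype.val h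
      cases b <;> cases c <;> simp only [cond_true, cond_false, one_mul] at h'
      · rw [Δ.θ_inj h']
      · exact absurd h'.symm (Δ.tθ_ne _ _)
      · exact absurd h' (Δ.tθ_ne _ _)
      · rw [Δ.θ_inj (mul_left_cancel h')]
    · rintro ⟨x, y, rfl | rfl⟩
      · exact ⟨(false, y), Subtype.ext (one_mul _)⟩
      · exact ⟨(true, y), rfl⟩
  rw [e, Nat.card_prod, Nat.card_eq_fintype_card, Fintype.card_bool]

/-- 2-groups centralizing a conjugate of `t` are small. -/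
theorem cmax {Q : Subgroup G} (hQ : IsPGroup 2 Q) {x : G} (hx : IsConj Δ.t x)
    (hQx : ∀ v ∈ Q, Commute v x) : Nat.card Q ≤ Nat.card Δ.A := by
  obtain ⟨g, rfl⟩ := isConj_iff.1 hx
  obtain ⟨h, -, hh⟩ := Δ.sylC (Q.map (MulAut.conj g⁻¹).toMonoidHom) (hQ.map _) (by
    rintro _ ⟨v, hv, rfl⟩
    have := (hQx v hv).map (MulAut.conj g⁻¹)
    simpa [mul_assoc] using this)
  refine Nat.card_le_card_of_injective
    (fun v => (⟨h * (g⁻¹ * v * g) * h⁻¹, hh _ ⟨v, v.2, by simp⟩⟩ : Δ.A)) fun v w e => ?_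
  exact Subtype.ext (mul_left_cancel (mul_right_cancel (mul_left_cancel (mul_right_cancel
    (congrArg Subtype.val e :)))))

theorem cent_max {Q : Subgroup G} (hQ : IsPGroup 2 Q) (hAQ : Δ.A ≤ Q)
    (hQt : ∀ v ∈ Q, Commute v Δ.t) : Q = Δ.A :=
  (Subgroup.eq_of_le_of_card_ge hAQ (Δ.cmax hQ (IsConj.refl _) hQt)).symm

theorem mem_A_of_twoEl {u : G} (hu : IsTwoEl u) (hut : Commute u Δ.t)
    (hn : ∀ x ∈ Δ.A, u * x * u⁻¹ ∈ Δ.A) : u ∈ Δ.A := by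
  have h := Δ.cent_max (twoGroup_sup Δ.A_two hu hn) le_sup_left (fun v hv => by
    have : Δ.A ⊔ zpowers u ≤ centralizer ({Δ.t} : Set G) := sup_le
      (fun y hy => Subgroup.mem_centralizer_singleton_iff.2 (Δ.A_comm_t hy).eq)
      (zpowers_le.2 (Subgroup.mem_centralizer_singleton_iff.2 hut.eq))
    exact Subgroup.mem_centralizer_singleton_iff.1 (this hv))
  exact h ▸ mem_sup_right (mem_zpowers u)

/-- Conjugates of `t` in `A` are conjugate under the normalizer of `A`. -/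
theorem exists_normalizer_conj {x : G} (hxA : x ∈ Δ.A) (hx : IsConj Δ.t x) :
    ∃ m : G, m ∈ normalizer (Δ.A : Set G) ∧ m * Δ.t * m⁻¹ = x := by
  obtain ⟨g, hg⟩ := isConj_iff.1 hx
  have hR : Δ.A.map (MulAut.conj g).toMonoidHom ≤ centralizer ({x} : Set G) := by
    rintro _ ⟨v, hv, rfl⟩
    rw [Subgroup.mem_centralizer_singleton_iff, ← hg]
    exact ((Δ.A_comm_t hv).map (MulAut.conj g)).eq
  obtain ⟨h, hh, hh'⟩ := conj_into hR (Δ.A_two.map _) (fun Q hQ hQx => by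
      rw [Subgroup.card_map_of_injective (MulAut.conj g).injective]
      exact Δ.cmax hQ hx fun v hv => Subgroup.mem_centralizer_singleton_iff.1 (hQx hv))
    Δ.A_two (fun v hv => Subgroup.mem_centralizer_singleton_iff.2 (Δ.A_comm hv hxA).eq)
  refine ⟨h⁻¹ * g, ?_, ?_⟩
  · have h1 : g⁻¹ * h ∈ normalizer (Δ.A : Set G) := mem_normalizer_of_le fun v hv => by
      obtain ⟨w, hw, e⟩ := hh' v hv
      have e' : g * w * g⁻¹ = h * v * h⁻¹ := e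
      rw [show g⁻¹ * h * v * (g⁻¹ * h)⁻¹ = g⁻¹ * (h * v * h⁻¹) * g by group, ← e']
      simpa [mul_assoc] using hw
    have := inv_mem h1
    rwa [mul_inv_rev, inv_inv] at this
  · have hx' := Subgroup.mem_centralizer_singleton_iff.1 hh
    rw [show h⁻¹ * g * Δ.t * (h⁻¹ * g)⁻¹ = h⁻¹ * (g * Δ.t * g⁻¹) * h by group, hg, mul_assoc,
      ← hx', inv_mul_cancel_left]

/-- The scalars permute `E` transitively. -/
theorem exists_tau {x y : F} (hx : x ≠ 0) (hy : y ≠ 0) :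
    ∃ j : ℕ, Δ.ω ^ j * x = y := by
  obtain ⟨j, hj⟩ := Δ.gen (y / x) (div_ne_zero hy hx)
  exact ⟨j, by rw [hj, div_mul_cancel₀ y hx]⟩

theorem τ_mem (j : ℕ) : Δ.τ ^ j ∈ normalizer (Δ.A : Set G) :=
  mem_normalizer_of_le fun x hx => by
    obtain ⟨a, rfl | rfl⟩ := hx
    · rw [Δ.τ_pow]; exact Δ.θ_mem _
    · rw [show Δ.τ ^ j * (Δ.t * Δ.θ a) * (Δ.τ ^ j)⁻¹
        = (Δ.τ ^ j * Δ.t * (Δ.τ ^ j)⁻¹) * (Δ.τ ^ j * Δ.θ a * (Δ.τ ^ j)⁻¹) by group,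
        Δ.τ_pow_t, Δ.τ_pow]
      exact Δ.tθ_mem _

theorem conj_θ_iff {x y : F} (hx : x ≠ 0) (hy : y ≠ 0) :
    (IsConj Δ.t (Δ.θ x) → IsConj Δ.t (Δ.θ y)) ∧
      (IsConj Δ.t (Δ.t * Δ.θ x) → IsConj Δ.t (Δ.t * Δ.θ y)) := by
  obtain ⟨j, rfl⟩ := Δ.exists_tau hx hy
  refine ⟨fun h => h.trans (isConj_iff.2 ⟨Δ.τ ^ j, Δ.τ_pow j x⟩),
    fun h => h.trans (isConj_iff.2 ⟨Δ.τ ^ j, ?_⟩)⟩
  rw [show Δ.τ ^ j * (Δ.t * Δ.θ x) * (Δ.τ ^ j)⁻¹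
    = (Δ.τ ^ j * Δ.t * (Δ.τ ^ j)⁻¹) * (Δ.τ ^ j * Δ.θ x * (Δ.τ ^ j)⁻¹) by group, Δ.τ_pow_t, Δ.τ_pow]

/-- An element fixing `t` and normalizing `A` stabilizes `E`. -/
theorem stab_E {g : G} (hg : g ∈ normalizer (Δ.A : Set G)) (hgt : g * Δ.t * g⁻¹ = Δ.t) (x : F) :
    ∃ y : F, g * Δ.θ x * g⁻¹ = Δ.θ y :=
  Δ.normE g (mul_inv_eq_iff_eq_mul.1 hgt)
    (fun z => (Subgroup.mem_normalizer_iff.1 hg _).1 (Δ.θ_mem z)) x

/-- The conjugates of `t` in `A`. -/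
abbrev O : Set G := conjIn Δ.t Δ.A

end ElemFrame

end Cfsg.Lib.TwoTimesPSL
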