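/-
The fusion of `t` in `A`: either `A` is a Sylow 2-subgroup and `q = 4`, or the conjugates of `t`
in `A` form the coset `t E`.
-/
import Mathlib
import Cfsg.Agent.TwoTimesPSL.Elem

set_option autoImplicit false
set_option linter.unusedSectionVars false
set_option linter.style.haveILetI false

namespace Cfsg.Lib.TwoTimesPSL

open Subgroup

namespace ElemFrame

variable {G : Type*} [Group G] [Finite G] {F : Type*} [Field F] [Finite F] (Δ : ElemFrame G F)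

/-- The stabilizer of `t` in the normalizer of `A`. -/
abbrev NC : Subgroup (normalizer (Δ.A : Set G)) :=
  (centralizer ({Δ.t} : Set G)).subgroupOf (normalizer (Δ.A : Set G))

theorem O_card : Nat.card Δ.O = Δ.NC.index := by
  rw [Subgroup.index_eq_card]
  let φ : normalizer (Δ.A : Set G) ⧸ Δ.NC → G :=
    Quotient.lift (fun g : normalizer (Δ.A : Set G) => (g : G) * Δ.t * (g : G)⁻¹) fun a b hab => by
      have h1 := QuotientGroup.leftRel_apply.1 hab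
      rw [Subgroup.mem_subgroupOf, Subgroup.mem_centralizer_singleton_iff] at h1
      push_cast at h1
      calc (a : G) * Δ.t * (a : G)⁻¹
          = (a : G) * ((a : G)⁻¹ * b * Δ.t) * (b : G)⁻¹ := by rw [h1]; group
        _ = (b : G) * Δ.t * (b : G)⁻¹ := by group
  have hinj : Function.Injective φ := by
    rintro ⟨a⟩ ⟨b⟩ e
    refine Quotient.sound (QuotientGroup.leftRel_apply.2 ?_)
    have e' : (a : G) * Δ.t * (a : G)⁻¹ = (b : G) * Δ.t * (b : G)⁻¹ := e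
    rw [Subgroup.mem_subgroupOf, Subgroup.mem_centralizer_singleton_iff]
    push_cast
    calc (a : G)⁻¹ * b * Δ.t = (a : G)⁻¹ * ((b : G) * Δ.t * (b : G)⁻¹) * b := by group
      _ = (a : G)⁻¹ * ((a : G) * Δ.t * (a : G)⁻¹) * b := by rw [e']
      _ = Δ.t * ((a : G)⁻¹ * b) := by group
  have hrange : Set.range φ = Δ.O := by
    ext x
    constructor
    · rintro ⟨⟨a⟩, rfl⟩
      exact ⟨(Subgroup.mem_normalizer_iff.1 a.2 Δ.t).1 Δ.t_mem, isConj_iff.2 ⟨a, rfl⟩⟩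
    · rintro ⟨hxA, hx⟩
      obtain ⟨m, hm, hmt⟩ := Δ.exists_normalizer_conj hxA hx
      exact ⟨QuotientGroup.mk (⟨m, hm⟩ : normalizer (Δ.A : Set G)), hmt⟩
  rw [Nat.card_congr (Equiv.ofInjective φ hinj), hrange]

/-- `A` is a Sylow 2-subgroup. -/
def Tight : Prop := ∀ Q : Subgroup G, IsPGroup 2 Q → Δ.A ≤ Q → Q = Δ.A

theorem A_le_NC : Δ.A.subgroupOf (normalizer (Δ.A : Set G)) ≤ Δ.NC := fun _ hx =>
  Subgroup.mem_centralizer_singleton_iff.2 (Δ.A_comm_t hx).eq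

theorem O_odd (h : Δ.Tight) : Odd (Nat.card Δ.O) := by
  haveI : Fact (Nat.Prime 2) := ⟨Nat.prime_two⟩
  obtain ⟨P, hP⟩ := Δ.A_two.exists_le_sylow
  have hPA : (P : Subgroup G) = Δ.A := h _ P.isPGroup' hP
  have hodd : Odd (Δ.A.subgroupOf (normalizer (Δ.A : Set G))).index := by
    refine Odd.of_dvd_nat (n := (P : Subgroup G).index) ?_ ?_
    · exact Nat.odd_iff.2 (Nat.two_dvd_ne_zero.1 P.not_dvd_index)
    · rw [hPA]
      exact Subgroup.relIndex_dvd_index_of_le (Subgroup.le_normalizer)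
  rw [Δ.O_card]
  exact hodd.of_dvd_nat (Subgroup.index_dvd_of_le Δ.A_le_NC)

theorem O_even (h : ¬ Δ.Tight) : Even (Nat.card Δ.O) := by
  classical
  haveI : Fact (Nat.Prime 2) := ⟨Nat.prime_two⟩
  simp only [Tight, not_forall, exists_prop] at h
  obtain ⟨U, hU, hAU, hne⟩ := h
  obtain ⟨u, huU, hun, huA⟩ := exists_normalizing hU (lt_of_le_of_ne hAU (Ne.symm hne))
  set Q := Δ.A ⊔ zpowers u with hQ
  have hQ2 : IsPGroup 2 Q := hU.to_le (sup_le hAU (zpowers_le.2 huU))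
  have hQN : Q ≤ normalizer (Δ.A : Set G) := sup_le Subgroup.le_normalizer (zpowers_le.2 hun)
  have hgt : Nat.card Δ.A < Nat.card Q := by
    rcases Nat.lt_or_ge (Nat.card Δ.A) (Nat.card Q) with h | h
    · exact h
    · exfalso
      refine huA ?_
      rw [Subgroup.eq_of_le_of_card_ge (le_sup_left : Δ.A ≤ Q) h]
      exact mem_sup_right (mem_zpowers u)
  rw [Δ.O_card]
  by_contra hodd
  obtain ⟨a, ha⟩ := IsPGroup.iff_card.1 hQ2
  have h1 : 2 ^ a ∣ Nat.card (normalizer (Δ.A : Set G)) := ha ▸ Subgroup.card_dvd_of_le hQN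
  rw [← Subgroup.card_mul_index Δ.NC] at h1
  have h2 : 2 ^ a ∣ Nat.card Δ.NC :=
    ((Nat.prime_two.coprime_iff_not_dvd.2 fun hd => hodd (even_iff_two_dvd.2 hd)).pow_left
      a).dvd_of_dvd_mul_right h1
  obtain ⟨K, hK⟩ := Sylow.exists_subgroup_card_pow_prime 2 h2
  have h3 := Δ.cmax (Q := (K.map Δ.NC.subtype).map (normalizer (Δ.A : Set G)).subtype)
    (((IsPGroup.of_card hK).map _).map _) (IsConj.refl _) (by
      rintro _ ⟨_, ⟨v, -, rfl⟩, rfl⟩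
      exact Subgroup.mem_centralizer_singleton_iff.1 (Subgroup.mem_subgroupOf.1 v.2))
  rw [Subgroup.card_map_of_injective (Subgroup.subtype_injective _),
    Subgroup.card_map_of_injective (Subgroup.subtype_injective _), hK, ← ha] at h3
  omega

theorem exists_other [IsSimpleGroup G] (hG : ¬ IsMulCommutative G) :
    IsConj Δ.t (Δ.θ 1) ∨ IsConj Δ.t (Δ.t * Δ.θ 1) := by
  obtain ⟨g, hg, hne⟩ := exists_commuting_conj hG Δ.ht
  set y := g * Δ.t * g⁻¹ with hy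
  have hy2 : orderOf y = 2 := ((MulAut.conj g).orderOf_eq Δ.t).trans Δ.ht
  obtain ⟨h, hh, hh'⟩ := Δ.sylC (zpowers y) (IsTwoEl.isPGroup (isTwoEl_of_orderOf_two hy2))
    fun x hx => by
      obtain ⟨i, rfl⟩ := hx
      exact hg.symm.zpow_left i
  obtain ⟨x, hx⟩ := hh' y (mem_zpowers y)
  have hc : IsConj Δ.t (h * y * h⁻¹) :=
    (isConj_iff.2 ⟨g, rfl⟩ : IsConj Δ.t y).trans (isConj_iff.2 ⟨h, rfl⟩)
  have hxne : x ≠ 0 := by
    rintro rfl
    rw [Δ.θ_zero, mul_one] at hx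
    rcases hx with e | e
    · have h1 : IsConj Δ.t 1 := e ▸ hc
      exact Δ.t_ne (isConj_one_left.1 h1)
    · exact hne (mul_left_cancel (a := h)
        (mul_right_cancel (b := h⁻¹) (e.trans (by rw [hh.eq, mul_inv_cancel_right]))))
  rcases hx with e | e
  · exact Or.inl ((Δ.conj_θ_iff hxne one_ne_zero).1 (e ▸ hc))
  · exact Or.inr ((Δ.conj_θ_iff hxne one_ne_zero).2 (e ▸ hc))

include Δ in
theorem card_F_four : 4 ≤ Nat.card F := by
  rw [Δ.card]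
  exact le_trans (by norm_num) (pow_le_pow_right₀ (show 1 ≤ 2 by norm_num) Δ.two_le)

theorem O_q_of_p1 (p1 : IsConj Δ.t (Δ.θ 1)) (p2 : ¬ IsConj Δ.t (Δ.t * Δ.θ 1)) :
    Nat.card Δ.O = Nat.card F := by
  classical
  refine (Nat.card_congr (Equiv.ofBijective
    (fun x : F => (if hx : x = 0 then ⟨Δ.t, Δ.t_mem, IsConj.refl _⟩
      else ⟨Δ.θ x, Δ.θ_mem x, (Δ.conj_θ_iff one_ne_zero hx).1 p1⟩ : Δ.O)) ⟨?_, ?_⟩)).symm
  · intro x y e
    have e' := congrArg Subtype.val e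
    simp only [] at e'
    by_cases hx : x = 0 <;> by_cases hy : y = 0
    · rw [hx, hy]
    · rw [dif_pos hx, dif_neg hy] at e'
      exact absurd e'.symm (Δ.t_not y)
    · rw [dif_neg hx, dif_pos hy] at e'
      exact absurd e' (Δ.t_not x)
    · rw [dif_neg hx, dif_neg hy] at e'
      exact Δ.θ_inj e'
  · rintro ⟨v, ⟨y, rfl | rfl⟩, hv⟩
    · have hy : y ≠ 0 := fun e => by
        rw [e, Δ.θ_zero] at hv
        exact Δ.t_ne (isConj_one_left.1 hv)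
      exact ⟨y, by simp only [dif_neg hy]⟩
    · have hy : y = 0 := by
        by_contra hy
        exact p2 ((Δ.conj_θ_iff hy one_ne_zero).2 hv)
      exact ⟨0, Subtype.ext (by simp [hy, Δ.θ_zero])⟩

theorem O_q_of_p2 (p1 : ¬ IsConj Δ.t (Δ.θ 1)) (p2 : IsConj Δ.t (Δ.t * Δ.θ 1)) :
    Nat.card Δ.O = Nat.card F := by
  refine (Nat.card_congr (Equiv.ofBijective
    (fun x : F => (⟨Δ.t * Δ.θ x, Δ.tθ_mem x, ?_⟩ : Δ.O)) ⟨?_, ?_⟩)).symm
  · rcases eq_or_ne x 0 with rfl | hx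
    · rw [Δ.θ_zero, mul_one]
    · exact (Δ.conj_θ_iff one_ne_zero hx).2 p2
  · intro x y e
    exact Δ.θ_inj (mul_left_cancel (congrArg Subtype.val e :))
  · rintro ⟨v, ⟨y, rfl | rfl⟩, hv⟩
    · exfalso
      rcases eq_or_ne y 0 with rfl | hy
      · rw [Δ.θ_zero] at hv
        exact Δ.t_ne (isConj_one_left.1 hv)
      · exact p1 ((Δ.conj_θ_iff hy one_ne_zero).1 hv)
    · exact ⟨y, rfl⟩

include Δ in
theorem q_even : Even (Nat.card F) := by
  rw [Δ.card, Nat.even_pow]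
  exact ⟨even_two, by have := Δ.two_le; omega⟩

/-- The image of `E` under an element of the normalizer. -/
def InE (m y : G) : Prop := ∃ z : F, m * Δ.θ z * m⁻¹ = y

theorem InE_indep {m m' y : G} (hm : m ∈ normalizer (Δ.A : Set G))
    (hm' : m' ∈ normalizer (Δ.A : Set G)) (h : m * Δ.t * m⁻¹ = m' * Δ.t * m'⁻¹)
    (hy : Δ.InE m y) : Δ.InE m' y := by
  obtain ⟨z, rfl⟩ := hy
  obtain ⟨z', hz'⟩ := Δ.stab_E (mul_mem (inv_mem hm') hm) (by
    rw [show m'⁻¹ * m * Δ.t * (m'⁻¹ * m)⁻¹ = m'⁻¹ * (m * Δ.t * m⁻¹) * m' by group, h]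
    group) z
  refine ⟨z', ?_⟩
  rw [← hz']
  group

theorem InE_cases {m y : G} (hm : m ∈ normalizer (Δ.A : Set G)) (hy : y ∈ Δ.A) :
    ∃ z : F, (Δ.InE m y ∧ y = m * Δ.θ z * m⁻¹) ∨ (¬ Δ.InE m y ∧ y = m * (Δ.t * Δ.θ z) * m⁻¹) := by
  have h1 : m⁻¹ * y * m ∈ Δ.A := ((Subgroup.mem_normalizer_iff''.1 hm) y).1 hy
  obtain ⟨z, hz | hz⟩ := h1
  · refine ⟨z, Or.inl ⟨⟨z, ?_⟩, ?_⟩⟩ <;> rw [← hz] <;> group
  · refine ⟨z, Or.inr ⟨?_, by rw [← hz]; group⟩⟩
    rintro ⟨z', hz'⟩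
    refine Δ.tθ_ne z z' ?_
    rw [← hz, ← hz']
    group

theorem InE_mul {m y y' : G} (hm : m ∈ normalizer (Δ.A : Set G)) (hy : y ∈ Δ.A) (hy' : y' ∈ Δ.A) :
    Δ.InE m (y * y') ↔ (Δ.InE m y ↔ Δ.InE m y') := by
  obtain ⟨a, ⟨ha, rfl⟩ | ⟨ha, rfl⟩⟩ := Δ.InE_cases hm hy <;>
    obtain ⟨b, ⟨hb, rfl⟩ | ⟨hb, rfl⟩⟩ := Δ.InE_cases hm hy'
  · simp only [ha, hb, iff_true]
    exact ⟨a + b, by rw [Δ.θ_add]; group⟩
  · simp only [ha, hb, iff_false, not_true, iff_false]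
    rintro ⟨z, hz⟩
    refine Δ.tθ_ne (a + b) z ?_
    rw [show Δ.t * Δ.θ (a + b) = Δ.θ a * (Δ.t * Δ.θ b) by
      rw [Δ.θ_add, ← mul_assoc, (Δ.t_comm a).eq, mul_assoc]]
    refine mul_left_cancel (a := m) (mul_right_cancel (b := m⁻¹) ?_)
    rw [hz]
    group
  · simp only [ha, hb, false_iff, not_true, iff_false]
    rintro ⟨z, hz⟩
    refine Δ.tθ_ne (a + b) z ?_
    rw [show Δ.t * Δ.θ (a + b) = Δ.t * Δ.θ a * Δ.θ b by rw [Δ.θ_add, mul_assoc]]
    refine mul_left_cancel (a := m) (mul_right_cancel (b := m⁻¹) ?_)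
    rw [hz]
    group
  · simp only [ha, hb, iff_self, iff_true]
    refine ⟨a + b, ?_⟩
    rw [show m * (Δ.t * Δ.θ a) * m⁻¹ * (m * (Δ.t * Δ.θ b) * m⁻¹)
      = m * (Δ.t * Δ.θ a * (Δ.t * Δ.θ b)) * m⁻¹ by group,
      (Δ.t_comm a).symm.mul_mul_mul_comm, Δ.tt, one_mul, Δ.θ_add]

theorem no_swap (h : Δ.Tight) {g x y : G} (hg : g ∈ normalizer (Δ.A : Set G)) (hx : x ∈ Δ.A)
    (hy : y ∈ Δ.A) (h1 : g * x * g⁻¹ = y) (h2 : g * y * g⁻¹ = x) : x = y := by
  obtain ⟨u, s, hu, hs, -, he, ⟨i, hi⟩, -⟩ := exists_split g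
  have huN : u ∈ normalizer (Δ.A : Set G) := hi ▸ zpow_mem hg i
  have huA : u ∈ Δ.A := by
    rw [← h _ (twoGroup_sup Δ.A_two hu fun v hv => (Subgroup.mem_normalizer_iff.1 huN v).1 hv)
      le_sup_left]
    exact mem_sup_right (mem_zpowers u)
  have key : ∀ v ∈ Δ.A, ∀ w : G, g * v * g⁻¹ = w → w ∈ Δ.A → s * v * s⁻¹ = w := by
    intro v hv w hvw hw
    calc s * v * s⁻¹ = u⁻¹ * (u * s * v * (u * s)⁻¹) * u := by group
      _ = u⁻¹ * w * u := by rw [he, hvw]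
      _ = w := by rw [mul_assoc, (Δ.A_comm hw huA).eq, inv_mul_cancel_left]
  have e1 := key x hx y h1 hy
  have e2 := key y hy x h2 hx
  obtain ⟨k, hk⟩ := hs
  have hs2 : Commute (s * s) x := by
    refine mul_inv_eq_iff_eq_mul.1 ?_
    rw [show s * s * x * (s * s)⁻¹ = s * (s * x * s⁻¹) * s⁻¹ by group, e1, e2]
  have hsc : Commute s x := by
    have := hs2.pow_left (k + 1)
    rwa [← pow_two, ← pow_mul, show 2 * (k + 1) = orderOf s + 1 by omega, pow_succ,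
      pow_orderOf_eq_one, one_mul] at this
  rw [← e1, hsc.eq, mul_inv_cancel_right]

theorem InE_anti (h : Δ.Tight) {m m' x y : G} (hm : m ∈ normalizer (Δ.A : Set G))
    (hm' : m' ∈ normalizer (Δ.A : Set G)) (hx : m * Δ.t * m⁻¹ = x) (hy : m' * Δ.t * m'⁻¹ = y)
    (hxy : x ≠ y) : Δ.InE m y ↔ ¬ Δ.InE m' x := by
  have hxA : x ∈ Δ.A := hx ▸ (Subgroup.mem_normalizer_iff.1 hm Δ.t).1 Δ.t_mem
  have hyA : y ∈ Δ.A := hy ▸ (Subgroup.mem_normalizer_iff.1 hm' Δ.t).1 Δ.t_mem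
  obtain ⟨a, ha⟩ := Δ.InE_cases hm hyA
  obtain ⟨b, hb⟩ := Δ.InE_cases hm' hxA
  have swap : ∀ j : ℕ, Δ.τ ^ j * (m⁻¹ * y * m) * (Δ.τ ^ j)⁻¹ = m'⁻¹ * x * m' → False := by
    intro j hj
    refine hxy (Δ.no_swap h (g := m' * Δ.τ ^ j * m⁻¹)
      (mul_mem (mul_mem hm' (Δ.τ_mem j)) (inv_mem hm)) hxA hyA ?_ ?_)
    · rw [← hx, show m' * Δ.τ ^ j * m⁻¹ * (m * Δ.t * m⁻¹) * (m' * Δ.τ ^ j * m⁻¹)⁻¹
        = m' * (Δ.τ ^ j * Δ.t * (Δ.τ ^ j)⁻¹) * m'⁻¹ by group, Δ.τ_pow_t, hy]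
    · rw [show m' * Δ.τ ^ j * m⁻¹ * y * (m' * Δ.τ ^ j * m⁻¹)⁻¹
        = m' * (Δ.τ ^ j * (m⁻¹ * y * m) * (Δ.τ ^ j)⁻¹) * m'⁻¹ by group, hj]
      group
  rcases ha with ⟨h1, e1⟩ | ⟨h1, e1⟩ <;> rcases hb with ⟨h2, e2⟩ | ⟨h2, e2⟩
  · exfalso
    have ha0 : a ≠ 0 := by
      rintro rfl
      rw [Δ.θ_zero, mul_one, mul_inv_cancel] at e1
      have := ((MulAut.conj m').orderOf_eq Δ.t).trans Δ.ht
      rw [MulAut.conj_apply, hy, e1, orderOf_one] at this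
      omega
    have hb0 : b ≠ 0 := by
      rintro rfl
      rw [Δ.θ_zero, mul_one, mul_inv_cancel] at e2
      have := ((MulAut.conj m).orderOf_eq Δ.t).trans Δ.ht
      rw [MulAut.conj_apply, hx, e2, orderOf_one] at this
      omega
    obtain ⟨j, hj⟩ := Δ.exists_tau ha0 hb0
    refine swap j ?_
    rw [e1, e2, show m⁻¹ * (m * Δ.θ a * m⁻¹) * m = Δ.θ a by group,
      show m'⁻¹ * (m' * Δ.θ b * m'⁻¹) * m' = Δ.θ b by group, Δ.τ_pow, hj]
  · exact iff_of_true h1 h2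
  · exact iff_of_false h1 (not_not.2 h2)
  · exfalso
    have ha0 : a ≠ 0 := by
      rintro rfl
      exact hxy (by rw [← hx, e1, Δ.θ_zero, mul_one])
    have hb0 : b ≠ 0 := by
      rintro rfl
      exact hxy (by rw [← hy, e2, Δ.θ_zero, mul_one])
    obtain ⟨j, hj⟩ := Δ.exists_tau ha0 hb0
    refine swap j ?_
    rw [e1, e2, show m⁻¹ * (m * (Δ.t * Δ.θ a) * m⁻¹) * m = Δ.t * Δ.θ a by group,
      show m'⁻¹ * (m' * (Δ.t * Δ.θ b) * m'⁻¹) * m' = Δ.t * Δ.θ b by group,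
      show Δ.τ ^ j * (Δ.t * Δ.θ a) * (Δ.τ ^ j)⁻¹
        = (Δ.τ ^ j * Δ.t * (Δ.τ ^ j)⁻¹) * (Δ.τ ^ j * Δ.θ a * (Δ.τ ^ j)⁻¹) by group,
      Δ.τ_pow_t, Δ.τ_pow, hj]

theorem n_eq_two [IsSimpleGroup G] (hG : ¬ IsMulCommutative G) (h : Δ.Tight) : Δ.n = 2 := by
  classical
  by_contra hn
  have p1 : IsConj Δ.t (Δ.θ 1) ∧ IsConj Δ.t (Δ.t * Δ.θ 1) := by
    rcases Δ.exists_other hG with p | p
    · refine ⟨p, ?_⟩
      by_contra p'
      exact Nat.not_even_iff_odd.2 (Δ.O_odd h) (Δ.O_q_of_p1 p p' ▸ Δ.q_even)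
    · refine ⟨?_, p⟩
      by_contra p'
      exact Nat.not_even_iff_odd.2 (Δ.O_odd h) (Δ.O_q_of_p2 p' p ▸ Δ.q_even)
  have h8 : 8 ≤ Nat.card F := by
    rw [Δ.card]
    exact le_trans (by norm_num)
      (pow_le_pow_right₀ (show 1 ≤ 2 by norm_num) (show 3 ≤ Δ.n by have := Δ.two_le; omega))
  haveI := Fintype.ofFinite F
  rw [Nat.card_eq_fintype_card] at h8
  obtain ⟨a, -, ha⟩ := Finset.exists_mem_notMem_of_card_lt_card
    (s := ({0, 1} : Finset F)) (t := Finset.univ)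
    (by rw [Finset.card_univ]; have : ({0, 1} : Finset F).card ≤ 2 := Finset.card_le_two; omega)
  obtain ⟨b, -, hb⟩ := Finset.exists_mem_notMem_of_card_lt_card
    (s := ({0, 1, a, a + 1} : Finset F)) (t := Finset.univ)
    (by rw [Finset.card_univ]; have : ({0, 1, a, a + 1} : Finset F).card ≤ 4 := Finset.card_le_four; omega)
  simp only [Finset.mem_insert, Finset.mem_singleton, not_or] at ha hb
  obtain ⟨mz, hmz, hz⟩ := Δ.exists_normalizer_conj (Δ.θ_mem 1) p1.1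
  obtain ⟨mw, hmw, hw⟩ := Δ.exists_normalizer_conj (Δ.tθ_mem 1) p1.2
  have hone : (1 : G) ∈ normalizer (Δ.A : Set G) := one_mem _
  have key : ∀ c : F, c ≠ 0 → c ≠ 1 →
      (Δ.InE mw (Δ.θ c) ↔ ¬ (Δ.InE 1 (Δ.θ c) ↔ Δ.InE mz (Δ.θ c))) := by
    intro c hc0 hc1
    obtain ⟨mv, hmv, hv⟩ := Δ.exists_normalizer_conj (Δ.θ_mem c)
      ((Δ.conj_θ_iff one_ne_zero hc0).1 p1.1)
    have e1 := Δ.InE_anti h hmv hone hv (y := Δ.t) (by group) (Δ.t_not c)
    have e2 := Δ.InE_anti h hmv hmz hv hz (fun e => hc1 (Δ.θ_inj e))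
    have e3 := Δ.InE_anti h hmv hmw hv hw (fun e => Δ.tθ_ne _ _ e.symm)
    rw [Δ.InE_mul hmv Δ.t_mem (Δ.θ_mem 1), e1, e2] at e3
    tauto
  have hab0 : a + b ≠ 0 := fun e => hb.2.2.1 (by
    calc b = a + a + b := by rw [Δ.dbl, zero_add]
      _ = a + (a + b) := add_assoc _ _ _
      _ = a := by rw [e, add_zero])
  have hab1 : a + b ≠ 1 := fun e => hb.2.2.2 (by
    calc b = a + a + b := by rw [Δ.dbl, zero_add]
      _ = a + (a + b) := add_assoc _ _ _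
      _ = a + 1 := by rw [e])
  have k1 := key a ha.1 ha.2
  have k2 := key b hb.1 hb.2.1
  have k3 := key (a + b) hab0 hab1
  rw [Δ.θ_add, Δ.InE_mul hone (Δ.θ_mem a) (Δ.θ_mem b), Δ.InE_mul hmz (Δ.θ_mem a) (Δ.θ_mem b),
    Δ.InE_mul hmw (Δ.θ_mem a) (Δ.θ_mem b)] at k3
  by_cases q1 : Δ.InE 1 (Δ.θ a) <;> by_cases q2 : Δ.InE 1 (Δ.θ b) <;>
    by_cases q3 : Δ.InE mz (Δ.θ a) <;> by_cases q4 : Δ.InE mz (Δ.θ b) <;>
    simp_all

/-- Outside the tight case the conjugates of `t` in `A` form `t E`. -/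
theorem O_eq [IsSimpleGroup G] (hG : ¬ IsMulCommutative G) (h : ¬ Δ.Tight) :
    (∀ x, ¬ IsConj Δ.t (Δ.θ x)) ∧ ∀ x, IsConj Δ.t (Δ.t * Δ.θ x) := by
  classical
  have hev := Δ.O_even h
  have p1 : ¬ IsConj Δ.t (Δ.θ 1) := by
    intro p1
    by_cases p2 : IsConj Δ.t (Δ.t * Δ.θ 1)
    · have hall : Δ.O = (Δ.A : Set G) \ {1} := by
        ext v
        constructor
        · rintro ⟨hv, hc⟩
          refine ⟨hv, fun e => ?_⟩
          have h1 : IsConj Δ.t 1 := (Set.mem_singleton_iff.1 e) ▸ hc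
          exact Δ.t_ne (isConj_one_left.1 h1)
        · rintro ⟨⟨y, rfl | rfl⟩, hv⟩
          · have hy : y ≠ 0 := fun e => hv (by rw [e, Δ.θ_zero]; rfl)
            exact ⟨Δ.θ_mem y, (Δ.conj_θ_iff one_ne_zero hy).1 p1⟩
          · refine ⟨Δ.tθ_mem y, ?_⟩
            rcases eq_or_ne y 0 with rfl | hy
            · rw [Δ.θ_zero, mul_one]
            · exact (Δ.conj_θ_iff one_ne_zero hy).2 p2
      have h1 := Set.ncard_sdiff_singleton_add_one (show (1 : G) ∈ (Δ.A : Set G) from one_mem _)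
        (Set.toFinite _)
      rw [← hall, ← Nat.card_coe_set_eq, ← Nat.card_coe_set_eq] at h1
      have h2 : Nat.card Δ.O + 1 = 2 * Nat.card F := h1.trans Δ.A_card
      obtain ⟨k, hk⟩ := hev
      omega
    · obtain ⟨g, hg, hgt⟩ := Δ.exists_normalizer_conj (Δ.θ_mem 1) p1
      haveI := Fintype.ofFinite F
      have h4 := Δ.card_F_four
      rw [Nat.card_eq_fintype_card] at h4
      -- the image of `E` consists of `1` and conjugates of `t`
      have himg : ∀ z : F, z ≠ 0 → g * Δ.θ z * g⁻¹ ≠ Δ.θ 1 ∧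
          (g * Δ.θ z * g⁻¹ = Δ.t ∨ ∃ y, y ≠ 0 ∧ g * Δ.θ z * g⁻¹ = Δ.θ y) := by
        intro z hz
        refine ⟨fun e => Δ.t_not z (mul_left_cancel (a := g)
          (mul_right_cancel (b := g⁻¹) (e.trans hgt.symm))), ?_⟩
        have hmem := (Subgroup.mem_normalizer_iff.1 hg _).1 (Δ.θ_mem z)
        have hc : IsConj Δ.t (g * Δ.θ z * g⁻¹) :=
          ((Δ.conj_θ_iff one_ne_zero hz).1 p1).trans (isConj_iff.2 ⟨g, rfl⟩)
        obtain ⟨y, hy | hy⟩ := hmem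
        · refine Or.inr ⟨y, fun e => ?_, hy⟩
          rw [hy, e, Δ.θ_zero] at hc
          exact Δ.t_ne (isConj_one_left.1 hc)
        · left
          rcases eq_or_ne y 0 with rfl | hy0
          · rwa [Δ.θ_zero, mul_one] at hy
          · rw [hy] at hc
            exact absurd ((Δ.conj_θ_iff hy0 one_ne_zero).2 hc) p2
      -- only one of them is `t`, so there are two distinct others with product neither
      obtain ⟨w, hw⟩ : ∃ w : F, w ≠ 0 ∧ g * Δ.θ w * g⁻¹ = Δ.t := by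
        by_contra hcon
        push Not at hcon
        have hex : ∀ z : F, ∃ y : F, g * Δ.θ z * g⁻¹ = Δ.θ y := by
          intro z
          rcases eq_or_ne z 0 with rfl | hz
          · exact ⟨0, by simp [Δ.θ_zero]⟩
          · rcases (himg z hz).2 with e | ⟨y, -, e⟩
            · exact absurd e (hcon z hz)
            · exact ⟨y, e⟩
        choose f hf using hex
        have hinj : Function.Injective f := fun a b e => Δ.θ_inj
          (mul_left_cancel (a := g) (mul_right_cancel (b := g⁻¹) (by rw [hf, hf, e])))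
        obtain ⟨z, hz⟩ := (Finite.injective_iff_surjective.1 hinj) 1
        have hz0 : z ≠ 0 := by
          rintro rfl
          have h0 := hf 0
          rw [Δ.θ_zero, mul_one, mul_inv_cancel, hz] at h0
          exact one_ne_zero (Δ.θ_eq_one h0.symm)
        exact (himg z hz0).1 (by rw [hf, hz])
      obtain ⟨z, -, hz⟩ := Finset.exists_mem_notMem_of_card_lt_card
        (s := ({0, w} : Finset F)) (t := Finset.univ)
        (by rw [Finset.card_univ]; have : ({0, w} : Finset F).card ≤ 2 := Finset.card_le_two; omega)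
      simp only [Finset.mem_insert, Finset.mem_singleton, not_or] at hz
      have hne : ∀ v, v ≠ w → v ≠ 0 → ∃ y, y ≠ 0 ∧ g * Δ.θ v * g⁻¹ = Δ.θ y := fun v hv hv0 => by
        rcases (himg v hv0).2 with e | e
        · exact absurd (Δ.θ_inj (mul_left_cancel (a := g)
            (mul_right_cancel (b := g⁻¹) (e.trans hw.2.symm)))) hv
        · exact e
      obtain ⟨y, hy0, hy⟩ := hne z hz.2 hz.1
      obtain ⟨y', -, hy'⟩ := hne (w + z) (fun e => hz.1 (by simpa using e)) (fun e => hz.2 (by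
        calc z = w + w + z := by rw [Δ.dbl, zero_add]
          _ = w + (w + z) := add_assoc _ _ _
          _ = w := by rw [e, add_zero]))
      rw [Δ.θ_add, show g * (Δ.θ w * Δ.θ z) * g⁻¹ = (g * Δ.θ w * g⁻¹) * (g * Δ.θ z * g⁻¹) by group,
        hw.2, hy] at hy'
      exact Δ.tθ_ne _ _ hy'
  have p2 := (Δ.exists_other hG).resolve_left p1
  refine ⟨fun x hx => ?_, fun x => ?_⟩
  · rcases eq_or_ne x 0 with rfl | hx0
    · rw [Δ.θ_zero] at hx
      exact Δ.t_ne (isConj_one_left.1 hx)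
    · exact p1 ((Δ.conj_θ_iff hx0 one_ne_zero).1 hx)
  · rcases eq_or_ne x 0 with rfl | hx0
    · rw [Δ.θ_zero, mul_one]
    · exact (Δ.conj_θ_iff one_ne_zero hx0).2 p2

end ElemFrame

end Cfsg.Lib.TwoTimesPSL
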