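/-
The inductive situation: an abelian subgroup `B`, inverted by `t`, with `Ω₁(B) = E`, and the Sylow
2-subgroups of the normalizer of `B⟨t⟩`.
-/
import Mathlib
import Cfsg.Agent.TwoTimesPSL.ElemO

set_option autoImplicit false
set_option linter.unusedSectionVars false
set_option linter.style.haveILetI false

namespace Cfsg.Lib.TwoTimesPSL

open Subgroup

variable {G : Type*} [Group G] [Finite G] {F : Type*} [Field F] [Finite F]

/-- Orbit of an element under a subgroup acting by conjugation. -/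
abbrev orbitOf {G : Type*} [Group G] (t : G) (H : Subgroup G) : Set G :=
  {x | ∃ h ∈ H, h * t * h⁻¹ = x}

theorem orbit_card (t : G) (H : Subgroup G) :
    Nat.card (orbitOf t H) * Nat.card ((centralizer ({t} : Set G)).subgroupOf H) = Nat.card H := by
  rw [← Subgroup.card_mul_index ((centralizer ({t} : Set G)).subgroupOf H), mul_comm]
  congr 1
  rw [Subgroup.index_eq_card]
  let φ : H ⧸ (centralizer ({t} : Set G)).subgroupOf H → G :=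
    Quotient.lift (fun g : H => (g : G) * t * (g : G)⁻¹) fun a b hab => by
      have h1 := QuotientGroup.leftRel_apply.1 hab
      rw [Subgroup.mem_subgroupOf, Subgroup.mem_centralizer_singleton_iff] at h1
      push_cast at h1
      calc (a : G) * t * (a : G)⁻¹
          = (a : G) * ((a : G)⁻¹ * b * t) * (b : G)⁻¹ := by rw [h1]; group
        _ = (b : G) * t * (b : G)⁻¹ := by group
  have hinj : Function.Injective φ := by
    rintro ⟨a⟩ ⟨b⟩ e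
    refine Quotient.sound (QuotientGroup.leftRel_apply.2 ?_)
    have e' : (a : G) * t * (a : G)⁻¹ = (b : G) * t * (b : G)⁻¹ := e
    rw [Subgroup.mem_subgroupOf, Subgroup.mem_centralizer_singleton_iff]
    push_cast
    calc (a : G)⁻¹ * b * t = (a : G)⁻¹ * ((b : G) * t * (b : G)⁻¹) * b := by group
      _ = (a : G)⁻¹ * ((a : G) * t * (a : G)⁻¹) * b := by rw [e']
      _ = t * ((a : G)⁻¹ * b) := by group
  have hrange : Set.range φ = orbitOf t H := by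
    ext x
    constructor
    · rintro ⟨⟨a⟩, rfl⟩
      exact ⟨a, a.2, rfl⟩
    · rintro ⟨h, hh, rfl⟩
      exact ⟨QuotientGroup.mk (⟨h, hh⟩ : H), rfl⟩
  rw [Nat.card_congr (Equiv.ofInjective φ hinj), hrange]

/-- A subgroup of index two avoiding `t`, above the squares. -/
theorem hyperplane {U V : Subgroup G} {t : G} (hVU : V ≤ U) (htU : t ∈ U) (htV : t ∉ V)
    (hsq : ∀ u ∈ U, u * u ∈ V) :
    ∃ M : Subgroup G, V ≤ M ∧ M ≤ U ∧ t ∉ M ∧ Nat.card U = 2 * Nat.card M ∧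
      ∀ u ∈ U, u ∈ M ∨ t⁻¹ * u ∈ M := by
  classical
  obtain ⟨M, hM, hmax⟩ := Set.Finite.exists_maximal
    (s := {M : Subgroup G | V ≤ M ∧ M ≤ U ∧ t ∉ M}) (Set.toFinite _) ⟨V, le_rfl, hVU, htV⟩
  obtain ⟨hVM, hMU, htM⟩ := hM
  have hconj : ∀ u ∈ U, ∀ m ∈ M, u * m * u⁻¹ ∈ M := by
    intro u hu m hm
    have h1 := hVM (hsq _ (mul_mem hu (hMU hm)))
    have h2 := hVM (hsq _ (inv_mem hu))
    rw [show u * m * u⁻¹ = (u * m * (u * m)) * m⁻¹ * (u⁻¹ * u⁻¹) by group]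
    exact mul_mem (mul_mem h1 (inv_mem hm)) h2
  have hdich : ∀ u ∈ U, u ∈ M ∨ t⁻¹ * u ∈ M := by
    intro u hu
    by_cases huM : u ∈ M
    · exact Or.inl huM
    right
    have hu2 : u * u ∈ M := hVM (hsq u hu)
    let M' : Subgroup G :=
      { carrier := {x | x ∈ M ∨ u * x ∈ M}
        one_mem' := Or.inl (one_mem _)
        mul_mem' := by
          intro x y hx hy
          have hu' : ∀ m ∈ M, u * m * u⁻¹ ∈ M := hconj u hu
          rcases hx with hx | hx <;> rcases hy with hy | hy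
          · exact Or.inl (mul_mem hx hy)
          · refine Or.inr ?_
            rw [show u * (x * y) = (u * x * u⁻¹) * (u * y) by group]
            exact mul_mem (hu' x hx) hy
          · refine Or.inr ?_
            rw [← mul_assoc]
            exact mul_mem hx hy
          · refine Or.inl ?_
            have h1 := mul_mem (hconj u⁻¹ (inv_mem hu) _ hx) hy
            have h2 := mul_mem (inv_mem hu2) (mul_mem (hu' _ (one_mem _)) h1)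
            have e : x * y = (u⁻¹ * (u * x) * u⁻¹⁻¹) * (u⁻¹ * u⁻¹) * (u * y) := by group
            rw [e]
            refine mul_mem (mul_mem (hconj u⁻¹ (inv_mem hu) _ hx) ?_) hy
            rw [← mul_inv_rev]
            exact inv_mem hu2
        inv_mem' := by
          intro x hx
          rcases hx with hx | hx
          · exact Or.inl (inv_mem hx)
          · refine Or.inr ?_
            rw [show u * x⁻¹ = u * (u * x)⁻¹ * u⁻¹ * (u * u) by group]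
            exact mul_mem (hconj u hu _ (inv_mem hx)) hu2 }
    by_contra htu
    have hle : M ≤ M' := fun x hx => Or.inl hx
    have huM' : u ∈ M' := Or.inr hu2
    have hM'U : M' ≤ U := by
      intro x hx
      rcases hx with hx | hx
      · exact hMU hx
      · have := mul_mem (inv_mem hu) (hMU hx)
        rwa [inv_mul_cancel_left] at this
    have htM' : t ∉ M' := by
      rintro (h | h)
      · exact htM h
      · refine htu ?_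
        have h1 := mul_mem (inv_mem h) hu2
        rwa [show (u * t)⁻¹ * (u * u) = t⁻¹ * u by group] at h1
    exact huM (hmax ⟨hVM.trans hle, hM'U, htM'⟩ hle huM')
  refine ⟨M, hVM, hMU, htM, ?_, hdich⟩
  rw [show (2 : ℕ) = Nat.card Bool by simp, ← Nat.card_prod]
  refine (Nat.card_congr (Equiv.ofBijective
    (fun p : Bool × M => (⟨cond p.1 t 1 * p.2, mul_mem (by cases p.1 <;> simp [htU, one_mem])
      (hMU p.2.2)⟩ : U)) ⟨?_, ?_⟩)).symm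
  · rintro ⟨a, x, hx⟩ ⟨b, y, hy⟩ e
    have e' : cond a t 1 * x = cond b t 1 * y := congrArg Subtype.val e
    cases a <;> cases b <;> simp only [cond_true, cond_false, one_mul] at e'
    · simp only [e']
    · refine absurd ?_ htM
      rw [show t = x * y⁻¹ by rw [e', mul_inv_cancel_right]]
      exact mul_mem hx (inv_mem hy)
    · refine absurd ?_ htM
      rw [show t = y * x⁻¹ by rw [← e', mul_inv_cancel_right]]
      exact mul_mem hy (inv_mem hx)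
    · simp only [mul_left_cancel e']
  · rintro ⟨u, hu⟩
    rcases hdich u hu with h | h
    · exact ⟨(false, ⟨u, h⟩), Subtype.ext (one_mul _)⟩
    · exact ⟨(true, ⟨t⁻¹ * u, h⟩), Subtype.ext (mul_inv_cancel_left _ _)⟩

/-- The inductive situation. -/
structure Stage (Δ : ElemFrame G F) where
  B : Subgroup G
  k : ℕ
  ν : G
  w : F
  one_le : 1 ≤ k
  comm : ∀ a ∈ B, ∀ b ∈ B, Commute a b
  inv : ∀ b ∈ B, Δ.t * b * Δ.t⁻¹ = b⁻¹
  hE : ∀ x, Δ.θ x ∈ B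
  omega : ∀ b ∈ B, b * b = 1 → ∃ x, b = Δ.θ x
  expo : ∀ b ∈ B, b ^ 2 ^ k = 1
  onto : ∀ x, ∃ b ∈ B, b ^ 2 ^ (k - 1) = Δ.θ x
  gen : ∀ x : F, x ≠ 0 → ∃ j : ℕ, w ^ j = x
  ν_t : Commute ν Δ.t
  ν_B : ∀ b ∈ B, ν * b * ν⁻¹ ∈ B
  ν_E : ∀ x, ν * Δ.θ x * ν⁻¹ = Δ.θ (w * x)
  noX : ∀ x, ¬ IsConj Δ.t (Δ.θ x)
  allX : ∀ x, IsConj Δ.t (Δ.t * Δ.θ x)

/-- The first stage. -/
def Stage.base (Δ : ElemFrame G F) (noX : ∀ x, ¬ IsConj Δ.t (Δ.θ x))
    (allX : ∀ x, IsConj Δ.t (Δ.t * Δ.θ x)) : Stage Δ where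
  B :=
    { carrier := {x | ∃ y, x = Δ.θ y}
      one_mem' := ⟨0, Δ.θ_zero.symm⟩
      mul_mem' := by
        rintro _ _ ⟨a, rfl⟩ ⟨b, rfl⟩
        exact ⟨a + b, (Δ.θ_add a b).symm⟩
      inv_mem' := by
        rintro _ ⟨a, rfl⟩
        exact ⟨a, Δ.θ_inv a⟩ }
  k := 1
  ν := Δ.τ
  w := Δ.ω
  one_le := le_rfl
  comm := by
    rintro _ ⟨a, rfl⟩ _ ⟨b, rfl⟩
    exact Δ.θ_comm a b
  inv := by
    rintro _ ⟨a, rfl⟩
    rw [(Δ.t_comm a).eq, mul_inv_cancel_right, Δ.θ_inv]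
  hE x := ⟨x, rfl⟩
  omega b hb _ := hb
  expo := by
    rintro _ ⟨a, rfl⟩
    rw [pow_one, pow_two, Δ.θ_sq]
  onto x := ⟨_, ⟨x, rfl⟩, by rw [Nat.sub_self, pow_zero, pow_one]⟩
  gen := Δ.gen
  ν_t := Δ.τ_comm
  ν_B := by
    rintro _ ⟨a, rfl⟩
    exact ⟨_, Δ.τ_act a⟩
  ν_E := Δ.τ_act
  noX := noX
  allX := allX

namespace Stage

variable {Δ : ElemFrame G F} (σ : Stage Δ)

theorem t_not_mem : Δ.t ∉ σ.B := fun h => by
  obtain ⟨x, hx⟩ := σ.omega _ h Δ.tt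
  exact Δ.t_not x hx.symm

theorem tb_eq {b : G} (hb : b ∈ σ.B) : Δ.t * b = b⁻¹ * Δ.t := by
  rw [← σ.inv b hb, inv_mul_cancel_right]

/-- `B⟨t⟩`. -/
def BT : Subgroup G where
  carrier := {x | ∃ b ∈ σ.B, x = b ∨ x = Δ.t * b}
  one_mem' := ⟨1, one_mem _, Or.inl rfl⟩
  mul_mem' := by
    rintro x y ⟨a, ha, rfl | rfl⟩ ⟨b, hb, rfl | rfl⟩
    · exact ⟨_, mul_mem ha hb, Or.inl rfl⟩
    · refine ⟨_, mul_mem (inv_mem ha) hb, Or.inr ?_⟩
      rw [← mul_assoc Δ.t, σ.tb_eq (inv_mem ha), inv_inv, mul_assoc]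
    · exact ⟨_, mul_mem ha hb, Or.inr (mul_assoc _ _ _)⟩
    · refine ⟨_, mul_mem (inv_mem ha) hb, Or.inl ?_⟩
      rw [σ.tb_eq ha, mul_assoc, ← mul_assoc Δ.t Δ.t, Δ.tt, one_mul]
  inv_mem' := by
    rintro x ⟨a, ha, rfl | rfl⟩
    · exact ⟨_, inv_mem ha, Or.inl rfl⟩
    · exact ⟨a, ha, Or.inr (by rw [mul_inv_rev, Δ.t_inv, σ.tb_eq ha])⟩

theorem tb_sq {b : G} (hb : b ∈ σ.B) : Δ.t * b * (Δ.t * b) = 1 := by
  nth_rw 1 [σ.tb_eq hb]
  rw [mul_assoc, ← mul_assoc Δ.t Δ.t, Δ.tt, one_mul, inv_mul_cancel]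

theorem B_le : σ.B ≤ σ.BT := fun b hb => ⟨b, hb, Or.inl rfl⟩

theorem t_mem : Δ.t ∈ σ.BT := ⟨1, one_mem _, Or.inr (mul_one _).symm⟩

theorem A_le : Δ.A ≤ σ.BT := by
  rintro x ⟨y, rfl | rfl⟩
  · exact σ.B_le (σ.hE y)
  · exact mul_mem σ.t_mem (σ.B_le (σ.hE y))

theorem BT_comm {x : G} (hx : x ∈ σ.BT) (hc : Commute x Δ.t) : x ∈ Δ.A := by
  obtain ⟨b, hb, hxb⟩ := hx
  have hbt : Commute b Δ.t := by
    rcases hxb with rfl | rfl
    · exact hc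
    · have h : Commute (Δ.t⁻¹ * (Δ.t * b)) Δ.t := (Commute.refl Δ.t).inv_left.mul_left hc
      rwa [inv_mul_cancel_left] at h
  have h2 : b * b = 1 := by
    have h1 := σ.inv b hb
    rw [← hbt.eq, mul_inv_cancel_right] at h1
    calc b * b = b⁻¹ * b := by rw [← h1]
      _ = 1 := inv_mul_cancel b
  obtain ⟨y, rfl⟩ := σ.omega b hb h2
  rcases hxb with rfl | rfl
  · exact Δ.θ_mem y
  · exact Δ.tθ_mem y

theorem BT_two : IsPGroup 2 σ.BT := by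
  rintro ⟨x, b, hb, rfl | rfl⟩
  · exact ⟨σ.k, Subtype.ext (σ.expo x hb)⟩
  · exact ⟨1, Subtype.ext (by rw [pow_one, SubmonoidClass.coe_pow, pow_two, σ.tb_sq hb]; rfl)⟩

theorem BT_card : Nat.card σ.BT = 2 * Nat.card σ.B := by
  rw [show (2 : ℕ) = Nat.card Bool by simp, ← Nat.card_prod]
  refine (Nat.card_congr (Equiv.ofBijective
    (fun p : Bool × σ.B => (⟨cond p.1 Δ.t 1 * p.2, by
      obtain ⟨a, x, hx⟩ := p
      cases a
      · exact ⟨x, hx, Or.inl (one_mul _)⟩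
      · exact ⟨x, hx, Or.inr rfl⟩⟩ : σ.BT)) ⟨?_, ?_⟩)).symm
  · rintro ⟨a, x, hx⟩ ⟨b, y, hy⟩ e
    have e' : cond a Δ.t 1 * x = cond b Δ.t 1 * y := congrArg Subtype.val e
    cases a <;> cases b <;> simp only [cond_true, cond_false, one_mul] at e'
    · simp only [e']
    · refine absurd ?_ σ.t_not_mem
      rw [show Δ.t = x * y⁻¹ by rw [e', mul_inv_cancel_right]]
      exact mul_mem hx (inv_mem hy)
    · refine absurd ?_ σ.t_not_mem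
      rw [show Δ.t = y * x⁻¹ by rw [← e', mul_inv_cancel_right]]
      exact mul_mem hy (inv_mem hx)
    · simp only [mul_left_cancel e']
  · rintro ⟨x, b, hb, rfl | rfl⟩
    · exact ⟨(false, ⟨x, hb⟩), Subtype.ext (one_mul _)⟩
    · exact ⟨(true, ⟨b, hb⟩), rfl⟩

theorem B_no_conj {b : G} (hb : b ∈ σ.B) : ¬ IsConj Δ.t b := by
  intro h
  obtain ⟨g, hg⟩ := isConj_iff.1 h
  obtain ⟨x, hx⟩ := σ.omega b hb (by
    rw [← hg, show g * Δ.t * g⁻¹ * (g * Δ.t * g⁻¹) = g * (Δ.t * Δ.t) * g⁻¹ by group, Δ.tt]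
    group)
  exact σ.noX x (hx ▸ h)

/-- The normalizer of `B⟨t⟩`. -/
abbrev Γ : Subgroup G := normalizer (σ.BT : Set G)

theorem conj_BT {g : G} (hg : g ∈ σ.Γ) {x : G} (hx : x ∈ σ.BT) : g * x * g⁻¹ ∈ σ.BT :=
  (Subgroup.mem_normalizer_iff.1 hg x).1 hx

/-- `Γ` normalizes `B`. -/
theorem normB {g : G} (hg : g ∈ σ.Γ) {b : G} (hb : b ∈ σ.B) : g * b * g⁻¹ ∈ σ.B := by
  have key : ∀ c ∈ σ.B, c * c ≠ 1 → g * c * g⁻¹ ∈ σ.B := by
    intro c hc hc2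
    obtain ⟨d, hd, e | e⟩ := σ.conj_BT hg (σ.B_le hc)
    · exact e ▸ hd
    · exfalso
      refine hc2 ?_
      have h1 := σ.tb_sq hd
      rw [← e, show g * c * g⁻¹ * (g * c * g⁻¹) = g * (c * c) * g⁻¹ by group] at h1
      exact mul_left_cancel (a := g) (mul_right_cancel (b := g⁻¹) (h1.trans (by group)))
  by_cases hb2 : b * b = 1
  · by_cases hex : ∃ c ∈ σ.B, c * c ≠ 1
    · obtain ⟨c, hc, hc2⟩ := hex
      have h1 := key (b * c) (mul_mem hb hc) (by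
        rw [(σ.comm c hc b hb).mul_mul_mul_comm, hb2, one_mul]; exact hc2)
      have h2 := mul_mem h1 (inv_mem (key c hc hc2))
      rwa [show g * (b * c) * g⁻¹ * (g * c * g⁻¹)⁻¹ = g * b * g⁻¹ by group] at h2
    · push Not at hex
      obtain ⟨d, hd, e | e⟩ := σ.conj_BT hg (σ.B_le hb)
      · exact e ▸ hd
      · exfalso
        obtain ⟨y, rfl⟩ := σ.omega d hd (hex d hd)
        obtain ⟨z, rfl⟩ := σ.omega b hb hb2
        exact σ.noX z ((σ.allX y).trans (isConj_iff.2 ⟨g⁻¹, by rw [← e]; group⟩))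
  · exact key b hb hb2

theorem A_le_Γ : Δ.A ≤ σ.Γ := σ.A_le.trans Subgroup.le_normalizer

theorem BT_le_Γ : σ.BT ≤ σ.Γ := Subgroup.le_normalizer

/-- The displacement of `t`. -/
def β (_σ : Stage Δ) (g : G) : G := Δ.t * (g * Δ.t * g⁻¹)

theorem conj_t (g : G) : g * Δ.t * g⁻¹ = Δ.t * σ.β g := by
  rw [β, ← mul_assoc, Δ.tt, one_mul]

theorem β_mem {g : G} (hg : g ∈ σ.Γ) : σ.β g ∈ σ.B := by
  obtain ⟨b, hb, e | e⟩ := σ.conj_BT hg σ.t_mem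
  · exact absurd (isConj_iff.2 ⟨g, e⟩) (σ.B_no_conj hb)
  · rw [β, e, ← mul_assoc, Δ.tt, one_mul]
    exact hb

theorem β_mul (g h : G) : σ.β (g * h) = σ.β g * (g * σ.β h * g⁻¹) := by
  simp only [β]
  calc Δ.t * (g * h * Δ.t * (g * h)⁻¹)
      = Δ.t * (g * (Δ.t * Δ.t) * (h * Δ.t * h⁻¹) * g⁻¹) := by rw [Δ.tt]; group
    _ = Δ.t * (g * Δ.t * g⁻¹) * (g * (Δ.t * (h * Δ.t * h⁻¹)) * g⁻¹) := by group

theorem β_of_comm {g : G} (h : Commute g Δ.t) : σ.β g = 1 := by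
  rw [β, h.eq, mul_inv_cancel_right, Δ.tt]

theorem β_of_mem {b : G} (hb : b ∈ σ.B) : σ.β b = b⁻¹ * b⁻¹ := by
  rw [β, show Δ.t * (b * Δ.t * b⁻¹) = (Δ.t * b * Δ.t⁻¹) * (Δ.t * Δ.t) * b⁻¹ by group, σ.inv b hb,
    Δ.tt, mul_one]

/-- The top power map onto `E`. -/
theorem psi_mem {b : G} (hb : b ∈ σ.B) : ∃ x, b ^ 2 ^ (σ.k - 1) = Δ.θ x := by
  refine σ.omega _ (pow_mem hb _) ?_
  rw [← pow_add, ← two_mul, ← pow_succ', show σ.k - 1 + 1 = σ.k by have := σ.one_le; omega]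
  exact σ.expo b hb

theorem psi_mul {a b : G} (ha : a ∈ σ.B) (hb : b ∈ σ.B) :
    (a * b) ^ 2 ^ (σ.k - 1) = a ^ 2 ^ (σ.k - 1) * b ^ 2 ^ (σ.k - 1) :=
  (σ.comm a ha b hb).mul_pow _

theorem psi_sq {c : G} (hc : c ∈ σ.B) : (c * c) ^ 2 ^ (σ.k - 1) = 1 := by
  rw [← pow_two, ← pow_mul, ← pow_succ', show σ.k - 1 + 1 = σ.k by have := σ.one_le; omega]
  exact σ.expo c hc

/-- The kernel of the top power map consists of the squares. -/
theorem psi_ker {b : G} (hb : b ∈ σ.B) (h : b ^ 2 ^ (σ.k - 1) = 1) : ∃ c ∈ σ.B, b = c * c := by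
  let f : σ.B →* σ.B :=
    { toFun := fun x => x * x
      map_one' := one_mul 1
      map_mul' := fun x y => Subtype.ext ((σ.comm y y.2 x x.2).mul_mul_mul_comm (x : G) (y : G)) }
  let p : σ.B →* G :=
    { toFun := fun x => (x : G) ^ 2 ^ (σ.k - 1)
      map_one' := one_pow _
      map_mul' := fun x y => σ.psi_mul x.2 y.2 }
  have hker : Nat.card f.ker = Nat.card F := by
    refine (Nat.card_congr (Equiv.ofBijective
      (fun x : F => (⟨⟨Δ.θ x, σ.hE x⟩, Subtype.ext (Δ.θ_sq x)⟩ : f.ker)) ⟨?_, ?_⟩)).symm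
    · intro x y e
      exact Δ.θ_inj (congrArg (fun z : f.ker => ((z : σ.B) : G)) e)
    · rintro ⟨⟨x, hx⟩, hx'⟩
      obtain ⟨y, hy⟩ := σ.omega x hx (congrArg Subtype.val hx')
      exact ⟨y, Subtype.ext (Subtype.ext hy.symm)⟩
  have hrange : Nat.card p.range = Nat.card F := by
    refine (Nat.card_congr (Equiv.ofBijective
      (fun x : F => (⟨Δ.θ x, by
        obtain ⟨c, hc, e⟩ := σ.onto x
        exact ⟨⟨c, hc⟩, e⟩⟩ : p.range)) ⟨?_, ?_⟩)).symm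
    · intro x y e
      exact Δ.θ_inj (congrArg Subtype.val e)
    · rintro ⟨_, ⟨c, hc⟩, rfl⟩
      obtain ⟨y, hy⟩ := σ.psi_mem hc
      exact ⟨y, Subtype.ext hy.symm⟩
  have h1 := Subgroup.card_mul_index f.ker
  have h2 := Subgroup.card_mul_index p.ker
  rw [Subgroup.index_ker] at h1 h2
  rw [hker] at h1
  rw [hrange] at h2
  have hle : f.range ≤ p.ker := by
    rintro _ ⟨x, rfl⟩
    exact σ.psi_sq x.2
  have he : f.range = p.ker := Subgroup.eq_of_le_of_card_ge hle (by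
    refine le_of_eq (Nat.eq_of_mul_eq_mul_left (Nat.card_pos (α := F)) ?_)
    rw [h1, mul_comm, h2])
  obtain ⟨c, hc⟩ : (⟨b, hb⟩ : σ.B) ∈ f.range := he ▸ h
  exact ⟨c, c.2, (congrArg Subtype.val hc).symm⟩

/-- The displacement in `E`. -/
noncomputable def e (g : G) : F := Function.invFun Δ.θ (σ.β g ^ 2 ^ (σ.k - 1))

/-- The action on `E`. -/
noncomputable def lin (_σ : Stage Δ) (g : G) (x : F) : F := Function.invFun Δ.θ (g * Δ.θ x * g⁻¹)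

theorem θ_e {g : G} (hg : g ∈ σ.Γ) : Δ.θ (σ.e g) = σ.β g ^ 2 ^ (σ.k - 1) := by
  obtain ⟨x, hx⟩ := σ.psi_mem (σ.β_mem hg)
  rw [e, hx, Function.leftInverse_invFun Δ.θ_inj]

theorem θ_lin {g : G} (hg : g ∈ σ.Γ) (x : F) : Δ.θ (σ.lin g x) = g * Δ.θ x * g⁻¹ := by
  obtain ⟨y, hy⟩ := σ.omega _ (σ.normB hg (σ.hE x)) (by
    rw [show g * Δ.θ x * g⁻¹ * (g * Δ.θ x * g⁻¹) = g * (Δ.θ x * Δ.θ x) * g⁻¹ by group, Δ.θ_sq]
    group)
  rw [lin, hy, Function.leftInverse_invFun Δ.θ_inj]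

theorem lin_add {g : G} (hg : g ∈ σ.Γ) (x y : F) : σ.lin g (x + y) = σ.lin g x + σ.lin g y := by
  refine Δ.θ_inj ?_
  rw [Δ.θ_add, σ.θ_lin hg, σ.θ_lin hg, σ.θ_lin hg, Δ.θ_add]
  group

theorem lin_zero {g : G} (hg : g ∈ σ.Γ) : σ.lin g 0 = 0 :=
  Δ.θ_eq_one (by rw [σ.θ_lin hg, Δ.θ_zero]; group)

theorem lin_mul {g h : G} (hg : g ∈ σ.Γ) (hh : h ∈ σ.Γ) (x : F) :
    σ.lin (g * h) x = σ.lin g (σ.lin h x) := by
  refine Δ.θ_inj ?_
  rw [σ.θ_lin (mul_mem hg hh), σ.θ_lin hg, σ.θ_lin hh]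
  group

theorem lin_one (x : F) : σ.lin 1 x = x :=
  Δ.θ_inj (by rw [σ.θ_lin (one_mem _)]; group)

theorem e_mul {g h : G} (hg : g ∈ σ.Γ) (hh : h ∈ σ.Γ) :
    σ.e (g * h) = σ.e g + σ.lin g (σ.e h) := by
  refine Δ.θ_inj ?_
  rw [Δ.θ_add, σ.θ_e (mul_mem hg hh), σ.θ_e hg, σ.θ_lin hg, σ.θ_e hh, σ.β_mul,
    σ.psi_mul (σ.β_mem hg) (σ.normB hg (σ.β_mem hh)), conj_pow]

theorem e_comm {g : G} (hg : g ∈ σ.Γ) (h : Commute g Δ.t) : σ.e g = 0 :=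
  Δ.θ_eq_one (by rw [σ.θ_e hg, σ.β_of_comm h, one_pow])

theorem e_B {b : G} (hb : b ∈ σ.B) : σ.e b = 0 :=
  Δ.θ_eq_one (by rw [σ.θ_e (σ.BT_le_Γ (σ.B_le hb)), σ.β_of_mem hb, σ.psi_sq (inv_mem hb)])

theorem lin_BT {x : G} (hx : x ∈ σ.BT) (y : F) : σ.lin x y = y := by
  refine Δ.θ_inj ?_
  rw [σ.θ_lin (σ.BT_le_Γ hx)]
  obtain ⟨b, hb, rfl | rfl⟩ := hx
  · rw [(σ.comm _ hb _ (σ.hE y)).eq, mul_inv_cancel_right]
  · rw [show Δ.t * b * Δ.θ y * (Δ.t * b)⁻¹ = Δ.t * (b * Δ.θ y * b⁻¹) * Δ.t⁻¹ by group,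
      (σ.comm _ hb _ (σ.hE y)).eq, mul_inv_cancel_right, (Δ.t_comm y).eq, mul_inv_cancel_right]

theorem e_BT {x : G} (hx : x ∈ σ.BT) : σ.e x = 0 := by
  obtain ⟨b, hb, rfl | rfl⟩ := hx
  · exact σ.e_B hb
  · rw [σ.e_mul (σ.BT_le_Γ σ.t_mem) (σ.BT_le_Γ (σ.B_le hb)), σ.e_B hb,
      σ.e_comm (σ.BT_le_Γ σ.t_mem) (Commute.refl _), σ.lin_BT σ.t_mem, add_zero]

theorem of_e_eq_zero {g : G} (hg : g ∈ σ.Γ) (h : σ.e g = 0) :
    ∃ b ∈ σ.B, Commute (b⁻¹ * g) Δ.t := by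
  obtain ⟨c, hc, hbc⟩ := σ.psi_ker (σ.β_mem hg) (by rw [← σ.θ_e hg, h, Δ.θ_zero])
  refine ⟨c⁻¹, inv_mem hc, mul_inv_eq_iff_eq_mul.1 ?_⟩
  rw [show c⁻¹⁻¹ * g * Δ.t * (c⁻¹⁻¹ * g)⁻¹ = c * (g * Δ.t * g⁻¹) * c⁻¹ by group, σ.conj_t, hbc,
    show c * (Δ.t * (c * c)) * c⁻¹ = c * (Δ.t * c) by group, σ.tb_eq hc, mul_inv_cancel_left]

theorem twoEl_mem_A {u : G} (hu : IsTwoEl u) (hg : u ∈ σ.Γ) (hc : Commute u Δ.t) : u ∈ Δ.A :=
  Δ.mem_A_of_twoEl hu hc fun x hx => σ.BT_comm (σ.conj_BT hg (σ.A_le hx)) (by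
    have := (Δ.A_comm_t hx).map (MulAut.conj u)
    simp only [MulAut.conj_apply] at this
    rwa [hc.eq, mul_inv_cancel_right] at this)

theorem ν_mem : σ.ν ∈ σ.Γ := mem_normalizer_of_le fun x hx => by
  obtain ⟨b, hb, rfl | rfl⟩ := hx
  · exact σ.B_le (σ.ν_B x hb)
  · rw [show σ.ν * (Δ.t * b) * σ.ν⁻¹ = (σ.ν * Δ.t * σ.ν⁻¹) * (σ.ν * b * σ.ν⁻¹) by group,
      σ.ν_t.eq, mul_inv_cancel_right]
    exact mul_mem σ.t_mem (σ.B_le (σ.ν_B b hb))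

theorem ν_pow_lin (j : ℕ) (x : F) : σ.lin (σ.ν ^ j) x = σ.w ^ j * x := by
  induction j with
  | zero => rw [pow_zero, σ.lin_one, pow_zero, one_mul]
  | succ j ih =>
    rw [pow_succ', σ.lin_mul σ.ν_mem (pow_mem σ.ν_mem j), ih, pow_succ', mul_assoc]
    exact Δ.θ_inj (by rw [σ.θ_lin σ.ν_mem, σ.ν_E])

theorem exists_w {x y : F} (hx : x ≠ 0) (hy : y ≠ 0) : ∃ j : ℕ, σ.w ^ j * x = y := by
  obtain ⟨j, hj⟩ := σ.gen (y / x) (div_ne_zero hy hx)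
  exact ⟨j, by rw [hj, div_mul_cancel₀ y hx]⟩

theorem exists_e_ne [IsSimpleGroup G] (hG : ¬ IsMulCommutative G) : ∃ g ∈ σ.Γ, σ.e g ≠ 0 := by
  by_contra hcon
  push Not at hcon
  haveI : Fact (Nat.Prime 2) := ⟨Nat.prime_two⟩
  obtain ⟨P, hP⟩ := σ.BT_two.exists_le_sylow
  have hPB : (P : Subgroup G) = σ.BT := by
    by_contra hne
    obtain ⟨u, huP, hun, huB⟩ := exists_normalizing P.isPGroup' (lt_of_le_of_ne hP (Ne.symm hne))
    obtain ⟨b, hb, hc⟩ := σ.of_e_eq_zero hun (hcon u hun)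
    have huP' : b⁻¹ * u ∈ (P : Subgroup G) := mul_mem (hP (σ.B_le (inv_mem hb))) huP
    have hA := σ.twoEl_mem_A (IsTwoEl.of_mem P.isPGroup' huP')
      (mul_mem (σ.BT_le_Γ (σ.B_le (inv_mem hb))) hun) hc
    refine huB ?_
    have := mul_mem (σ.B_le hb) (σ.A_le hA)
    rwa [mul_inv_cancel_left] at this
  refine no_transfer hG Δ.ht P (M := σ.B) (hPB ▸ σ.B_le) (by rw [hPB, σ.BT_card]) fun g hg => ?_
  exact σ.B_no_conj hg (isConj_iff.2 ⟨g⁻¹, by rw [inv_inv]⟩)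

theorem Γ_trans [IsSimpleGroup G] (hG : ¬ IsMulCommutative G) {b : G} (hb : b ∈ σ.B) :
    ∃ g ∈ σ.Γ, σ.β g = b := by
  obtain ⟨g₀, hg₀, hne⟩ := σ.exists_e_ne hG
  obtain ⟨x, hx⟩ := σ.psi_mem hb
  obtain ⟨h, hh, he⟩ : ∃ h ∈ σ.Γ, σ.e h = x := by
    rcases eq_or_ne x 0 with rfl | hx0
    · exact ⟨1, one_mem _, σ.e_comm (one_mem _) (Commute.one_left _)⟩
    · obtain ⟨j, hj⟩ := σ.exists_w hne hx0
      refine ⟨σ.ν ^ j * g₀, mul_mem (pow_mem σ.ν_mem j) hg₀, ?_⟩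
      rw [σ.e_mul (pow_mem σ.ν_mem j) hg₀, σ.e_comm (pow_mem σ.ν_mem j) (σ.ν_t.pow_left j),
        zero_add, σ.ν_pow_lin, hj]
  have hbh : (b * (σ.β h)⁻¹) ^ 2 ^ (σ.k - 1) = 1 := by
    rw [σ.psi_mul hb (inv_mem (σ.β_mem hh)), inv_pow, ← σ.θ_e hh, he, hx, mul_inv_cancel]
  obtain ⟨c, hc, hbc⟩ := σ.psi_ker (mul_mem hb (inv_mem (σ.β_mem hh))) hbh
  refine ⟨c⁻¹ * h, mul_mem (σ.BT_le_Γ (σ.B_le (inv_mem hc))) hh, ?_⟩
  rw [σ.β_mul, σ.β_of_mem (inv_mem hc), inv_inv,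
    show c⁻¹ * σ.β h * c = σ.β h by
      rw [(σ.comm _ (inv_mem hc) _ (σ.β_mem hh)).eq, inv_mul_cancel_right],
    ← hbc, inv_mul_cancel_right]

theorem Γ_orbit [IsSimpleGroup G] (hG : ¬ IsMulCommutative G) :
    Nat.card (orbitOf Δ.t σ.Γ) = Nat.card σ.B := by
  refine (Nat.card_congr (Equiv.ofBijective
    (fun b : σ.B => (⟨Δ.t * b, by
      obtain ⟨g, hg, hgb⟩ := σ.Γ_trans hG b.2
      exact ⟨g, hg, by rw [σ.conj_t, hgb]⟩⟩ : orbitOf Δ.t σ.Γ)) ⟨?_, ?_⟩)).symm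
  · intro a b e
    exact Subtype.ext (mul_left_cancel (congrArg Subtype.val e :))
  · rintro ⟨_, g, hg, rfl⟩
    exact ⟨⟨σ.β g, σ.β_mem hg⟩, Subtype.ext (σ.conj_t g).symm⟩

theorem B_two : IsPGroup 2 σ.B := fun x => ⟨σ.k, Subtype.ext (σ.expo x x.2)⟩

/-- A Sylow 2-subgroup of `Γ`. -/
def IsSylG (U : Subgroup G) : Prop :=
  σ.BT ≤ U ∧ U ≤ σ.Γ ∧ IsPGroup 2 U ∧
    ∀ Q : Subgroup G, IsPGroup 2 Q → Q ≤ σ.Γ → Nat.card Q ≤ Nat.card U

theorem exists_sylG : ∃ U, σ.IsSylG U := by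
  classical
  obtain ⟨U, hU, hmax⟩ := Set.Finite.exists_maximalFor (fun Q : Subgroup G => Nat.card Q)
    {Q : Subgroup G | σ.BT ≤ Q ∧ Q ≤ σ.Γ ∧ IsPGroup 2 Q} (Set.toFinite _)
    ⟨σ.BT, le_rfl, σ.BT_le_Γ, σ.BT_two⟩
  refine ⟨U, hU.1, hU.2.1, hU.2.2, fun Q hQ hQΓ => ?_⟩
  have h2 : IsPGroup 2 (Q ⊔ σ.BT : Subgroup G) :=
    hQ.to_sup_of_normal_right' σ.BT_two hQΓ
  refine le_trans (Nat.le_of_dvd Nat.card_pos (Subgroup.card_dvd_of_le (le_sup_left : Q ≤ Q ⊔ σ.BT))) ?_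
  by_contra hlt
  push Not at hlt
  exact absurd (hmax (j := Q ⊔ σ.BT) ⟨le_sup_right, sup_le hQΓ σ.BT_le_Γ, h2⟩ hlt.le) (not_le.2 hlt)

variable {U : Subgroup G} (hU : σ.IsSylG U)
include hU

theorem U_A : Δ.A ≤ U := σ.A_le.trans hU.1

theorem U_cent {v : G} (hv : v ∈ U) (hc : Commute v Δ.t) : v ∈ Δ.A :=
  σ.twoEl_mem_A (IsTwoEl.of_mem hU.2.2.1 hv) (hU.2.1 hv) hc

theorem U_stab_card :
    Nat.card ((centralizer ({Δ.t} : Set G)).subgroupOf U) = Nat.card Δ.A :=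
  Nat.card_congr
    { toFun := fun v => ⟨v.1.1, σ.U_cent hU v.1.2 (Subgroup.mem_centralizer_singleton_iff.1 v.2)⟩
      invFun := fun a => ⟨⟨a, σ.U_A hU a.2⟩,
        Subgroup.mem_centralizer_singleton_iff.2 (Δ.A_comm_t a.2).eq⟩
      left_inv := fun _ => rfl
      right_inv := fun _ => rfl }

theorem U_card [IsSimpleGroup G] (hG : ¬ IsMulCommutative G) :
    Nat.card U = Nat.card σ.B * Nat.card Δ.A ∧ Nat.card (orbitOf Δ.t U) = Nat.card σ.B := by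
  haveI : Fact (Nat.Prime 2) := ⟨Nat.prime_two⟩
  have h1 := orbit_card Δ.t U
  rw [σ.U_stab_card hU] at h1
  have hsub : orbitOf Δ.t U ⊆ orbitOf Δ.t σ.Γ := fun _ ⟨h, hh, e⟩ => ⟨h, hU.2.1 hh, e⟩
  have hle : Nat.card (orbitOf Δ.t U) ≤ Nat.card σ.B :=
    (Nat.card_mono (Set.toFinite _) hsub).trans (σ.Γ_orbit hG).le
  have h2 := orbit_card Δ.t σ.Γ
  rw [σ.Γ_orbit hG] at h2
  have hdvd : Nat.card Δ.A ∣ Nat.card ((centralizer ({Δ.t} : Set G)).subgroupOf σ.Γ) := by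
    rw [← Nat.card_congr (subgroupOfEquivOfLe σ.A_le_Γ).toEquiv]
    exact Subgroup.card_dvd_of_le fun x hx =>
      Subgroup.mem_centralizer_singleton_iff.2 (Δ.A_comm_t hx).eq
  obtain ⟨a, ha⟩ := IsPGroup.iff_card.1 σ.B_two
  obtain ⟨c, hc⟩ := IsPGroup.iff_card.1 Δ.A_two
  have hd : 2 ^ (a + c) ∣ Nat.card σ.Γ := by
    rw [← h2, pow_add, ← ha, ← hc]
    exact mul_dvd_mul_left _ hdvd
  obtain ⟨K, hK⟩ := Sylow.exists_subgroup_card_pow_prime 2 hd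
  have h3 := hU.2.2.2 (K.map σ.Γ.subtype) ((IsPGroup.of_card hK).map _) (Subgroup.map_subtype_le _)
  rw [Subgroup.card_map_of_injective (Subgroup.subtype_injective _), hK, pow_add, ← ha, ← hc,
    ← h1] at h3
  have h4 := Nat.le_of_mul_le_mul_right h3 Nat.card_pos
  have h5 : Nat.card (orbitOf Δ.t U) = Nat.card σ.B := le_antisymm hle h4
  exact ⟨by rw [← h1, h5], h5⟩

theorem U_trans [IsSimpleGroup G] (hG : ¬ IsMulCommutative G) {b : G} (hb : b ∈ σ.B) :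
    ∃ u ∈ U, σ.β u = b := by
  have hsub : orbitOf Δ.t U ⊆ orbitOf Δ.t σ.Γ := fun _ ⟨h, hh, e⟩ => ⟨h, hU.2.1 hh, e⟩
  have heq : orbitOf Δ.t U = orbitOf Δ.t σ.Γ := by
    refine Set.eq_of_subset_of_ncard_le hsub ?_ (Set.toFinite _)
    rw [← Nat.card_coe_set_eq, ← Nat.card_coe_set_eq, σ.Γ_orbit hG, (σ.U_card hU hG).2]
  obtain ⟨g, hg, hgb⟩ := σ.Γ_trans hG hb
  obtain ⟨u, hu, e⟩ : Δ.t * b ∈ orbitOf Δ.t U := heq ▸ ⟨g, hg, by rw [σ.conj_t, hgb]⟩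
  exact ⟨u, hu, mul_left_cancel (a := Δ.t) (by rw [← σ.conj_t, e])⟩

theorem sq_not_tB [IsSimpleGroup G] (hG : ¬ IsMulCommutative G) {u b : G} (hu : u ∈ U)
    (hb : b ∈ σ.B) : u * u ≠ Δ.t * b := by
  intro h
  obtain ⟨v, hv, hvb⟩ := σ.U_trans hU hG hb
  have e : (v⁻¹ * u * v) * (v⁻¹ * u * v) = Δ.t := by
    rw [show v⁻¹ * u * v * (v⁻¹ * u * v) = v⁻¹ * (u * u) * v by group, h, ← hvb, ← σ.conj_t]
    group
  have hA := σ.U_cent hU (mul_mem (mul_mem (inv_mem hv) hu) hv) (by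
    rw [← e]
    exact ((Commute.refl (v⁻¹ * u * v)).mul_right (Commute.refl _)))
  rw [Δ.A_sq hA] at e
  exact Δ.t_ne e.symm

theorem sq_mem_B [IsSimpleGroup G] (hG : ¬ IsMulCommutative G) {u : G} (hu : u ∈ U)
    (h : u * u ∈ σ.BT) : u * u ∈ σ.B := by
  obtain ⟨b, hb, e | e⟩ := h
  · exact e ▸ hb
  · exact absurd e (σ.sq_not_tB hU hG hu hb)

theorem invol_coset [IsSimpleGroup G] (hG : ¬ IsMulCommutative G) {y a : G} (hy : y ∈ U)
    (hyB : y ∉ σ.BT) (hy2 : y * y = 1) (ha : a ∈ σ.BT) (hya : y * a * (y * a) = 1) : a ∈ σ.B := by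
  obtain ⟨b, hb, rfl | rfl⟩ := ha
  · exact hb
  exfalso
  obtain ⟨v, hv, hvb⟩ := σ.U_trans hU hG hb
  have hc : Commute y (Δ.t * b) := by
    have h1 : y * (Δ.t * b) = (Δ.t * b)⁻¹ * y⁻¹ := by
      rw [← mul_inv_rev]
      exact mul_eq_one_iff_eq_inv.1 hya
    rwa [inv_eq_of_mul_eq_one_right (σ.tb_sq hb), inv_eq_of_mul_eq_one_right hy2] at h1
  have hc' : Commute (v⁻¹ * y * v) Δ.t := by
    have h1 := hc.map (MulAut.conj v⁻¹)
    simp only [MulAut.conj_apply, inv_inv] at h1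
    rwa [← hvb, ← σ.conj_t, show v⁻¹ * (v * Δ.t * v⁻¹) * v = Δ.t by group] at h1
  have hA := σ.U_cent hU (mul_mem (mul_mem (inv_mem hv) hy) hv) hc'
  refine hyB ?_
  have := σ.conj_BT (hU.2.1 hv) (σ.A_le hA)
  rwa [show v * (v⁻¹ * y * v) * v⁻¹ = y by group] at this

theorem inverts [IsSimpleGroup G] (hG : ¬ IsMulCommutative G) {y : G} (hy : y ∈ U)
    (hX : IsConj Δ.t y) (h : ∀ u ∈ U, y⁻¹ * (u * y * u⁻¹) ∈ σ.B) {b : G} (hb : b ∈ σ.B) :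
    y * b * y⁻¹ = b⁻¹ := by
  have h1 := orbit_card y U
  have h2 : Nat.card ((centralizer ({y} : Set G)).subgroupOf U) ≤ Nat.card Δ.A := by
    rw [← Subgroup.card_map_of_injective U.subtype_injective]
    refine Δ.cmax ((hU.2.2.1.to_subgroup _).map _) hX ?_
    rintro _ ⟨v, hv, rfl⟩
    exact Subgroup.mem_centralizer_singleton_iff.1 (Subgroup.mem_subgroupOf.1 hv)
  rw [(σ.U_card hU hG).1] at h1
  have h3 : Nat.card σ.B ≤ Nat.card (orbitOf y U) := by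
    refine Nat.le_of_mul_le_mul_right ?_ (Nat.card_pos (α := Δ.A))
    rw [← h1]
    exact Nat.mul_le_mul_left _ h2
  have hsub : orbitOf y U ⊆ (fun c => y * c) '' (σ.B : Set G) := by
    rintro _ ⟨u, hu, rfl⟩
    exact ⟨_, h u hu, mul_inv_cancel_left _ _⟩
  have heq := Set.eq_of_subset_of_ncard_le hsub (by
    rw [Set.ncard_image_of_injective _ (mul_right_injective y), ← Nat.card_coe_set_eq,
      ← Nat.card_coe_set_eq]
    exact h3) (Set.toFinite _)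
  obtain ⟨g, hg⟩ := isConj_iff.1 hX
  have hy2 : y * y = 1 := by
    rw [← hg, show g * Δ.t * g⁻¹ * (g * Δ.t * g⁻¹) = g * (Δ.t * Δ.t) * g⁻¹ by group, Δ.tt]
    group
  obtain ⟨u, -, e⟩ : y * b ∈ orbitOf y U := heq ▸ ⟨b, hb, rfl⟩
  have hyb : y * b * (y * b) = 1 := by
    rw [← e, show u * y * u⁻¹ * (u * y * u⁻¹) = u * (y * y) * u⁻¹ by group, hy2]
    group
  rw [inv_eq_of_mul_eq_one_right hy2]
  exact mul_eq_one_iff_eq_inv.1 (by rwa [← mul_assoc] at hyb)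

theorem false_of_conj_in_BT [IsSimpleGroup G] (hG : ¬ IsMulCommutative G)
    (hX : ∀ y ∈ U, IsConj Δ.t y → y ∈ σ.BT) {V : Subgroup G} (hBV : σ.B ≤ V) (hVU : V ≤ U)
    (htV : Δ.t ∉ V) (hsq : ∀ u ∈ U, u * u ∈ V) : False := by
  haveI : Fact (Nat.Prime 2) := ⟨Nat.prime_two⟩
  obtain ⟨P, hP⟩ := hU.2.2.1.exists_le_sylow
  have hPU : (P : Subgroup G) = U := by
    by_contra hne
    obtain ⟨u, huP, hun, huU⟩ := exists_normalizing P.isPGroup' (lt_of_le_of_ne hP (Ne.symm hne))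
    have htb : ∀ b ∈ σ.B, u * (Δ.t * b) * u⁻¹ ∈ σ.BT := by
      intro b hb
      refine hX _ ((Subgroup.mem_normalizer_iff.1 hun _).1
        (mul_mem (hU.1 σ.t_mem) (hU.1 (σ.B_le hb)))) ?_
      obtain ⟨g, -, hgb⟩ := σ.Γ_trans hG hb
      exact (isConj_iff.2 ⟨g, by rw [σ.conj_t, hgb]⟩ : IsConj Δ.t (Δ.t * b)).trans
        (isConj_iff.2 ⟨u, rfl⟩)
    have hug : u ∈ σ.Γ := mem_normalizer_of_le fun x hx => by
      have ht' : u * Δ.t * u⁻¹ ∈ σ.BT := by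
        have := htb 1 (one_mem _)
        rwa [mul_one] at this
      obtain ⟨b, hb, rfl | rfl⟩ := hx
      · have := mul_mem (inv_mem ht') (htb x hb)
        rwa [show (u * Δ.t * u⁻¹)⁻¹ * (u * (Δ.t * x) * u⁻¹) = u * x * u⁻¹ by group] at this
      · exact htb b hb
    refine huU ?_
    have h1 := hU.2.2.2 (U ⊔ zpowers u) (P.isPGroup'.to_le (sup_le hP (zpowers_le.2 huP)))
      (sup_le hU.2.1 (zpowers_le.2 hug))
    rw [Subgroup.eq_of_le_of_card_ge (le_sup_left : U ≤ U ⊔ zpowers u) h1]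
    exact mem_sup_right (mem_zpowers u)
  obtain ⟨M, hVM, hMU, htM, hcard, -⟩ := hyperplane hVU (hU.1 σ.t_mem) htV hsq
  refine no_transfer hG Δ.ht P (M := M) (hPU ▸ hMU) (by rw [hPU, hcard]) fun g hg => ?_
  have hc : IsConj Δ.t (g⁻¹ * Δ.t * g) := isConj_iff.2 ⟨g⁻¹, by rw [inv_inv]⟩
  obtain ⟨b, hb, e | e⟩ := hX _ (hMU hg) hc
  · exact σ.B_no_conj hb (e ▸ hc)
  · refine htM ?_
    have := mul_mem (e ▸ hg) (inv_mem (hVM (hBV hb)))
    rwa [mul_inv_cancel_right] at this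

end Stage

end Cfsg.Lib.TwoTimesPSL
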