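/-
If some element of `Γ` centralizing `E` moves `t` out of `t B²`, the situation either is
contradictory or reproduces itself with a larger `B`.
-/
import Mathlib
import Cfsg.Agent.TwoTimesPSL.Stage

set_option autoImplicit false
set_option linter.unusedSectionVars false
set_option linter.style.haveILetI false

namespace Cfsg.Lib.TwoTimesPSL

open Subgroup

variable {G : Type*} [Group G] [Finite G] {F : Type*} [Field F] [Finite F]

theorem eq_one_of_pow_two (h2 : (2 : F) = 0) {c : F} : ∀ l : ℕ, c ^ 2 ^ l = 1 → c = 1 := by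
  intro l
  induction l generalizing c with
  | zero => intro h; simpa using h
  | succ l ih =>
    intro h
    rw [pow_succ', pow_mul] at h
    have h1 : c * c = 1 := by rw [← pow_two]; exact ih h
    have h3 : (c - 1) * (c - 1) = 0 := by
      have : (c - 1) * (c - 1) = c * c - 2 * c + 1 := by ring
      rw [this, h1, h2, zero_mul, sub_zero, show (1 : F) + 1 = 2 by norm_num, h2]
    exact sub_eq_zero.1 (mul_self_eq_zero.1 h3)

/-- An equivariant alternating biadditive form on a field of characteristic two vanishes. -/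
theorem alt_form_zero (h2 : (2 : F) = 0) (g : F → F → F)
    (addl : ∀ x y z, g (x + y) z = g x z + g y z) (addr : ∀ x y z, g x (y + z) = g x y + g x z)
    (alt : ∀ x, g x x = 0) (sc : ∀ c x y, g (c * x) (c * y) = c * g x y) (x y : F) : g x y = 0 := by
  have hdbl : ∀ a : F, a + a = 0 := fun a => by rw [← two_mul, h2, zero_mul]
  have hlin : ∀ a b x y, g (a * x) (b * y) = g (b * x) (a * y) := by
    intro a b x y
    have h := sc (a + b) x y
    rw [add_mul, add_mul, addl, addr, addr, sc, sc, add_mul] at h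
    have h' : g (a * x) (b * y) + g (b * x) (a * y) = 0 := by linear_combination h
    calc g (a * x) (b * y) = g (a * x) (b * y) + (g (b * x) (a * y) + g (b * x) (a * y)) := by
          rw [hdbl, add_zero]
      _ = g (b * x) (a * y) := by rw [← add_assoc, h', zero_add]
  have hsurj : ∀ z : F, ∃ b : F, b * b = z := by
    refine Finite.surjective_of_injective (f := fun b : F => b * b) fun a b e => ?_
    have : (a - b) * (a - b) = 0 := by
      have e' : a * a = b * b := e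
      linear_combination e' + (b * b - a * b) * h2
    exact sub_eq_zero.1 (mul_self_eq_zero.1 this)
  have hone : ∀ z, g 1 z = 0 := by
    intro z
    obtain ⟨b, rfl⟩ := hsurj z
    have := hlin 1 b 1 b
    rw [one_mul, mul_one, one_mul, alt] at this
    exact this
  rcases eq_or_ne x 0 with rfl | hx
  · have := addl 0 0 y
    rw [add_zero] at this
    linear_combination -this
  · have := sc x 1 (y / x)
    rw [mul_one, mul_div_cancel₀ y hx, hone, mul_zero] at this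
    exact this

namespace Stage

variable {Δ : ElemFrame G F} (σ : Stage Δ)

/-- The centralizer of `E` in `Γ`. -/
def Γ₀ : Subgroup G where
  carrier := {g | g ∈ σ.Γ ∧ ∀ x, σ.lin g x = x}
  one_mem' := ⟨one_mem _, σ.lin_one⟩
  mul_mem' := fun {a b} ha hb =>
    ⟨mul_mem ha.1 hb.1, fun x => by rw [σ.lin_mul ha.1 hb.1, hb.2, ha.2]⟩
  inv_mem' := fun {a} ha => ⟨inv_mem ha.1, fun x => by
    have h := σ.lin_mul (inv_mem ha.1) ha.1 x
    rw [inv_mul_cancel, σ.lin_one, ha.2] at h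
    exact h.symm⟩

theorem Γ₀_conj {g h : G} (hg : g ∈ σ.Γ) (hh : h ∈ σ.Γ₀) : g * h * g⁻¹ ∈ σ.Γ₀ := by
  refine ⟨mul_mem (mul_mem hg hh.1) (inv_mem hg), fun x => ?_⟩
  rw [σ.lin_mul (mul_mem hg hh.1) (inv_mem hg), σ.lin_mul hg hh.1, hh.2, ← σ.lin_mul hg (inv_mem hg),
    mul_inv_cancel, σ.lin_one]

theorem BT_le_Γ₀ : σ.BT ≤ σ.Γ₀ := fun _ hx => ⟨σ.BT_le_Γ hx, σ.lin_BT hx⟩

theorem e_inv {g : G} (hg : g ∈ σ.Γ₀) : σ.e g⁻¹ = σ.e g := by
  have h := σ.e_mul (inv_mem hg.1) hg.1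
  rw [inv_mul_cancel, σ.e_comm (one_mem _) (Commute.one_left _), (inv_mem hg).2] at h
  calc σ.e g⁻¹ = σ.e g⁻¹ + σ.e g + σ.e g := by rw [add_assoc, Δ.dbl, add_zero]
    _ = σ.e g := by rw [← h, zero_add]

/-- The hypothesis of the translation case. -/
def Trans : Prop := ∃ g ∈ σ.Γ₀, σ.e g ≠ 0

theorem e_onto (h : σ.Trans) (x : F) : ∃ g ∈ σ.Γ₀, σ.e g = x := by
  obtain ⟨g, hg, hne⟩ := h
  rcases eq_or_ne x 0 with rfl | hx
  · exact ⟨1, one_mem _, σ.e_comm (one_mem _) (Commute.one_left _)⟩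
  · obtain ⟨j, hj⟩ := σ.exists_w hne hx
    have hν := pow_mem σ.ν_mem j
    refine ⟨σ.ν ^ j * g * (σ.ν ^ j)⁻¹, σ.Γ₀_conj hν hg, ?_⟩
    rw [σ.e_mul (mul_mem hν hg.1) (inv_mem hν),
      σ.e_comm (inv_mem hν) (σ.ν_t.pow_left j).inv_left, σ.lin_zero (mul_mem hν hg.1), add_zero,
      σ.e_mul hν hg.1, σ.e_comm hν (σ.ν_t.pow_left j), zero_add, σ.ν_pow_lin, hj]

variable {U : Subgroup G} (hU : σ.IsSylG U) (hT : σ.Trans)
include hU hT

theorem U_le_Γ₀ : U ≤ σ.Γ₀ := by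
  intro u hu
  have huΓ := hU.2.1 hu
  obtain ⟨g', hg', he'⟩ := σ.e_onto hT (σ.e u)
  have hg : g'⁻¹ * u ∈ σ.Γ := mul_mem (inv_mem hg'.1) huΓ
  have h0 : σ.e (g'⁻¹ * u) = 0 := by
    rw [σ.e_mul (inv_mem hg'.1) huΓ, σ.e_inv hg', (inv_mem hg').2, he', Δ.dbl]
  obtain ⟨b, hb, hc⟩ := σ.of_e_eq_zero hg h0
  have hcΓ : b⁻¹ * (g'⁻¹ * u) ∈ σ.Γ := mul_mem (inv_mem (σ.BT_le_Γ (σ.B_le hb))) hg
  obtain ⟨a, s, ha, hs, -, he, ⟨i, hi⟩, ⟨l, hl⟩⟩ := exists_split (b⁻¹ * (g'⁻¹ * u))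
  have haA : a ∈ Δ.A := σ.twoEl_mem_A ha (hi ▸ zpow_mem hcΓ i) (hi ▸ hc.zpow_left i)
  have hsΓ : s ∈ σ.Γ := hl ▸ zpow_mem hcΓ l
  set h₁ := g' * b * a with hh₁
  have hh : h₁ ∈ σ.Γ₀ :=
    mul_mem (mul_mem hg' (σ.BT_le_Γ₀ (σ.B_le hb))) (σ.BT_le_Γ₀ (σ.A_le haA))
  have hus : u = h₁ * s := by
    rw [hh₁, mul_assoc _ a s, he]
    group
  have hpow : ∀ m : ℕ, u ^ m * (s ^ m)⁻¹ ∈ σ.Γ₀ := by
    intro m
    induction m with
    | zero => simp
    | succ m ih =>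
      rw [pow_succ, pow_succ', mul_inv_rev,
        show u ^ m * u * ((s ^ m)⁻¹ * s⁻¹)
          = (u ^ m * (s ^ m)⁻¹) * ((s ^ m) * (u * s⁻¹) * (s ^ m)⁻¹) *
              ((s ^ m) * s * (s ^ m)⁻¹ * s⁻¹) by group,
        show (s ^ m) * s * (s ^ m)⁻¹ * s⁻¹ = 1 by
          rw [← pow_succ, pow_succ']; group, mul_one]
      refine mul_mem ih (σ.Γ₀_conj (pow_mem hsΓ m) ?_)
      rw [hus, mul_inv_cancel_right]
      exact hh
  have h1 := hpow (orderOf s)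
  rw [pow_orderOf_eq_one, inv_one, mul_one] at h1
  obtain ⟨r, hr⟩ := IsTwoEl.of_mem hU.2.2.1 hu
  obtain ⟨m, hm⟩ := exists_pow_eq_self_of_coprime (x := u) (n := orderOf s) (by
    refine Nat.Coprime.coprime_dvd_right (orderOf_dvd_of_pow_eq_one hr) ?_
    exact Nat.Coprime.pow_right r (Nat.coprime_two_right.2 hs))
  exact hm ▸ pow_mem h1 m

theorem eU {u v : G} (hu : u ∈ U) (hv : v ∈ U) : σ.e (u * v) = σ.e u + σ.e v := by
  rw [σ.e_mul (hU.2.1 hu) (hU.2.1 hv), (σ.U_le_Γ₀ hU hT hu).2]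

omit hT in
theorem mem_BT_of_e {u : G} (hu : u ∈ U) (h : σ.e u = 0) : u ∈ σ.BT := by
  obtain ⟨b, hb, hc⟩ := σ.of_e_eq_zero (hU.2.1 hu) h
  have hA := σ.U_cent hU (mul_mem (inv_mem (hU.1 (σ.B_le hb))) hu) hc
  have := mul_mem (σ.B_le hb) (σ.A_le hA)
  rwa [mul_inv_cancel_left] at this

theorem sq_mem [IsSimpleGroup G] (hG : ¬ IsMulCommutative G) {u : G} (hu : u ∈ U) :
    u * u ∈ σ.B :=
  σ.sq_mem_B hU hG hu (σ.mem_BT_of_e hU (mul_mem hu hu) (by rw [σ.eU hU hT hu hu, Δ.dbl]))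

theorem comm_mem [IsSimpleGroup G] (hG : ¬ IsMulCommutative G) {u y : G} (hu : u ∈ U) (hy : y ∈ U) :
    y⁻¹ * (u * y * u⁻¹) ∈ σ.B := by
  have hn : ∀ {g b : G}, g ∈ U → b ∈ σ.B → g⁻¹ * b * g ∈ σ.B := fun {g b} hg hb => by
    have := σ.normB (inv_mem (hU.2.1 hg)) hb
    rwa [inv_inv] at this
  rw [show y⁻¹ * (u * y * u⁻¹)
    = (y⁻¹ * ((u * y) * (u * y)) * y) * (y⁻¹ * (y⁻¹ * (u⁻¹ * u⁻¹) * y) * y) * (y⁻¹ * y⁻¹) by group]
  refine mul_mem (mul_mem (hn hy (σ.sq_mem hU hT hG (mul_mem hu hy))) ?_)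
    (σ.sq_mem hU hT hG (inv_mem hy))
  exact hn hy (hn hy (σ.sq_mem hU hT hG (inv_mem hu)))

omit hT in
theorem U_trans_e [IsSimpleGroup G] (hG : ¬ IsMulCommutative G) (x : F) : ∃ u ∈ U, σ.e u = x := by
  obtain ⟨b, hb, e⟩ := σ.onto x
  obtain ⟨u, hu, hub⟩ := σ.U_trans hU hG hb
  exact ⟨u, hu, Δ.θ_inj (by rw [σ.θ_e (hU.2.1 hu), hub, e])⟩

/-- A scalar-like automorphism of `U` of odd order fixing `t`. -/
theorem exists_nu [IsSimpleGroup G] (hG : ¬ IsMulCommutative G) :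
    ∃ s : G, Odd (orderOf s) ∧ Commute s Δ.t ∧ s ∈ σ.Γ ∧ (∀ u ∈ U, s * u * s⁻¹ ∈ U) ∧
      ∀ x, σ.lin s x = σ.w * x := by
  obtain ⟨g, hg, hg'⟩ := conj_into (σ.U_le_Γ₀ hU hT) hU.2.2.1
    (fun Q hQ hQ0 => hU.2.2.2 Q hQ fun x hx => (hQ0 hx).1)
    (Q := U.map (MulAut.conj σ.ν).toMonoidHom) (hU.2.2.1.map _) (by
      rintro _ ⟨x, hx, rfl⟩
      exact σ.Γ₀_conj σ.ν_mem (σ.U_le_Γ₀ hU hT hx))
  obtain ⟨u, hu, hub⟩ := σ.U_trans hU hG (σ.β_mem hg.1)
  set ν₁ := u⁻¹ * g * σ.ν with hν₁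
  have hug : u⁻¹ * g ∈ σ.Γ₀ := mul_mem (inv_mem (σ.U_le_Γ₀ hU hT hu)) hg
  have hν₁Γ : ν₁ ∈ σ.Γ := mul_mem hug.1 σ.ν_mem
  have hν₁t : Commute ν₁ Δ.t := by
    refine mul_inv_eq_iff_eq_mul.1 ?_
    rw [hν₁, show u⁻¹ * g * σ.ν * Δ.t * (u⁻¹ * g * σ.ν)⁻¹
      = u⁻¹ * (g * (σ.ν * Δ.t * σ.ν⁻¹) * g⁻¹) * u by group, σ.ν_t.eq, mul_inv_cancel_right,
      σ.conj_t, ← hub, ← σ.conj_t]
    group
  have hν₁U : ∀ x ∈ U, ν₁ * x * ν₁⁻¹ ∈ U := by
    intro x hx
    have h1 : g * (σ.ν * x * σ.ν⁻¹) * g⁻¹ ∈ U := hg' _ ⟨x, hx, by simp⟩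
    rw [hν₁, show u⁻¹ * g * σ.ν * x * (u⁻¹ * g * σ.ν)⁻¹
      = u⁻¹ * (g * (σ.ν * x * σ.ν⁻¹) * g⁻¹) * u by group]
    exact mul_mem (mul_mem (inv_mem hu) h1) hu
  have hlin₁ : ∀ x, σ.lin ν₁ x = σ.w * x := fun x => by
    rw [hν₁, σ.lin_mul hug.1 σ.ν_mem, hug.2, ← pow_one σ.ν, σ.ν_pow_lin, pow_one]
  have hlinp : ∀ (m : ℕ) (x : F), σ.lin (ν₁ ^ m) x = σ.w ^ m * x := by
    intro m x
    induction m with
    | zero => rw [pow_zero, σ.lin_one, pow_zero, one_mul]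
    | succ m ih =>
      rw [pow_succ', σ.lin_mul hν₁Γ (pow_mem hν₁Γ m), ih, hlin₁, pow_succ', mul_assoc]
  obtain ⟨a, s, ha, hs, -, he, haz, hsz⟩ := exists_split ν₁
  obtain ⟨i, hi : ν₁ ^ i = a⟩ := mem_powers_iff_mem_zpowers.2 haz
  obtain ⟨m, hm : ν₁ ^ m = s⟩ := mem_powers_iff_mem_zpowers.2 hsz
  obtain ⟨l, hl⟩ := ha
  have hw : σ.w ^ i = 1 := by
    refine eq_one_of_pow_two Δ.char2 l ?_
    have h1 := hlinp (i * 2 ^ l) 1
    rw [pow_mul, hi, hl, σ.lin_one, mul_one, pow_mul] at h1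
    exact h1.symm
  refine ⟨s, hs, hm ▸ hν₁t.pow_left m, hm ▸ pow_mem hν₁Γ m, ?_, fun x => ?_⟩
  · have hn : ν₁ ∈ normalizer (U : Set G) := mem_normalizer_of_le hν₁U
    intro x hx
    exact (Subgroup.mem_normalizer_iff.1 (hm ▸ pow_mem hn m) x).1 hx
  · have h1 := hlin₁ x
    rw [← he, σ.lin_mul (hi ▸ pow_mem hν₁Γ i) (hm ▸ pow_mem hν₁Γ m), ← hi, hlinp, hw, one_mul]
      at h1
    exact h1

/-- The next stage from a suitable abelian-by-construction subgroup `C`. -/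
theorem next_of [IsSimpleGroup G] (hG : ¬ IsMulCommutative G) {s : G} (hst : Commute s Δ.t)
    (hsΓ : s ∈ σ.Γ) (hsw : ∀ x, σ.lin s x = σ.w * x) {C : Subgroup G} (hBC : σ.B ≤ C) (hCU : C ≤ U)
    (hCB : ∀ x ∈ C, x ∈ σ.BT → x ∈ σ.B) (hcen : ∀ c ∈ C, ∀ b ∈ σ.B, Commute c b)
    (hCt : ∀ c ∈ C, Δ.t * c * Δ.t⁻¹ ∈ C) (hCs : ∀ c ∈ C, s * c * s⁻¹ ∈ C)
    (hX : (∀ c ∈ C, ∀ d ∈ C, Commute c d) →
      ∀ y ∈ U, IsConj Δ.t y → y ∉ σ.BT → Δ.t * y ∈ C) :
    ∃ σ' : Stage Δ, σ.B < σ'.B := by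
  classical
  have he0 : ∀ c ∈ C, σ.e c = 0 → c ∈ σ.B := fun c hc h =>
    hCB c hc (σ.mem_BT_of_e hU (hCU hc) h)
  have hsp : ∀ (j : ℕ), ∀ c ∈ C, s ^ j * c * (s ^ j)⁻¹ ∈ C ∧
      σ.e (s ^ j * c * (s ^ j)⁻¹) = σ.w ^ j * σ.e c := by
    intro j c hc
    induction j with
    | zero => simp [hc]
    | succ j ih =>
      rw [pow_succ', show s * s ^ j * c * (s * s ^ j)⁻¹ = s * (s ^ j * c * (s ^ j)⁻¹) * s⁻¹ by group]
      refine ⟨hCs _ ih.1, ?_⟩
      have hd := hU.2.1 (hCU ih.1)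
      rw [σ.e_mul (mul_mem hsΓ hd) (inv_mem hsΓ), σ.e_comm (inv_mem hsΓ) hst.inv_left,
        σ.lin_zero (mul_mem hsΓ hd), add_zero, σ.e_mul hsΓ hd, σ.e_comm hsΓ hst, zero_add, hsw,
        ih.2, pow_succ', mul_assoc]
  have hsq : ∀ c ∈ C, c * c ∈ σ.B := fun c hc => σ.sq_mem hU hT hG (hCU hc)
  -- `C` is abelian
  have hab : ∀ c ∈ C, ∀ d ∈ C, Commute c d := by
    by_cases hz : ∀ c ∈ C, σ.e c = 0
    · exact fun c hc d hd => σ.comm c (he0 c hc (hz c hc)) d (he0 d hd (hz d hd))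
    push Not at hz
    obtain ⟨c₀, hc₀, hne⟩ := hz
    have hf : ∀ x : F, ∃ c ∈ C, σ.e c = x := by
      intro x
      rcases eq_or_ne x 0 with rfl | hx
      · exact ⟨1, one_mem _, σ.e_comm (one_mem _) (Commute.one_left _)⟩
      · obtain ⟨j, hj⟩ := σ.exists_w hne hx
        exact ⟨_, (hsp j c₀ hc₀).1, (hsp j c₀ hc₀).2.trans hj⟩
    choose f hfC hfe using hf
    let K : G → G → G := fun c d => c * d * c⁻¹ * d⁻¹
    have hKB : ∀ c ∈ C, ∀ d ∈ C, K c d ∈ σ.B := by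
      intro c hc d hd
      have h1 := σ.comm_mem hU hT hG (hCU hc) (hCU hd)
      have h2 := σ.normB (hU.2.1 (hCU hd)) h1
      rwa [show d * (d⁻¹ * (c * d * c⁻¹)) * d⁻¹ = K c d by simp only [K]; group] at h2
    have hKl : ∀ a ∈ C, ∀ c ∈ C, ∀ d ∈ C, K (a * c) d = K c d * K a d := by
      intro a ha c hc d hd
      calc K (a * c) d = a * K c d * a⁻¹ * K a d := by simp only [K]; group
        _ = K c d * K a d := by rw [(hcen a ha _ (hKB c hc d hd)).eq, mul_inv_cancel_right]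
    have hKz : ∀ b ∈ σ.B, ∀ d ∈ C, K b d = 1 ∧ K d b = 1 := by
      intro b hb d hd
      have h := (hcen d hd b hb)
      refine ⟨?_, ?_⟩
      · simp only [K]
        rw [h.symm.eq, mul_inv_cancel_right, mul_inv_cancel]
      · simp only [K]
        rw [h.eq, mul_inv_cancel_right, mul_inv_cancel]
    have hK2 : ∀ c ∈ C, ∀ d ∈ C, ∃ x, K c d = Δ.θ x := fun c hc d hd =>
      σ.omega _ (hKB c hc d hd) (by rw [← hKl c hc c hc d hd]; exact (hKz _ (hsq c hc) d hd).1)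
    have hKinv : ∀ c ∈ C, ∀ d ∈ C, K c d = K d c := by
      intro c hc d hd
      obtain ⟨x, hx⟩ := hK2 d hd c hc
      calc K c d = (K d c)⁻¹ := by simp only [K]; group
        _ = K d c := by rw [hx, Δ.θ_inv]
    have hKwd : ∀ c ∈ C, ∀ c' ∈ C, σ.e c = σ.e c' → ∀ d ∈ C, K c d = K c' d := by
      intro c hc c' hc' he d hd
      have hb : c * c'⁻¹ ∈ σ.B := he0 _ (mul_mem hc (inv_mem hc')) (by
        rw [σ.eU hU hT (hCU hc) (inv_mem (hCU hc')), σ.e_inv (σ.U_le_Γ₀ hU hT (hCU hc')), he, Δ.dbl])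
      have e : c = c * c'⁻¹ * c' := by group
      rw [e, hKl _ (hBC hb) _ hc' _ hd, (hKz _ hb d hd).1, mul_one]
    choose! g hg using hK2
    set g' : F → F → F := fun x y => g (f x) (f y) with hg'def
    have hg' : ∀ x y, Δ.θ (g' x y) = K (f x) (f y) := fun x y => (hg _ (hfC x) _ (hfC y)).symm
    have hsym : ∀ x y, g' x y = g' y x := fun x y => Δ.θ_inj (by
      rw [hg', hg', hKinv _ (hfC x) _ (hfC y)])
    have addl : ∀ x y z, g' (x + y) z = g' x z + g' y z := fun x y z => Δ.θ_inj (by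
      rw [Δ.θ_add, hg', hg', hg', hKwd (f (x + y)) (hfC _) (f y * f x) (mul_mem (hfC y) (hfC x))
        (by rw [hfe, σ.eU hU hT (hCU (hfC y)) (hCU (hfC x)), hfe, hfe, add_comm]) _ (hfC z),
        hKl _ (hfC y) _ (hfC x) _ (hfC z)])
    have hscw : ∀ (j : ℕ) x y, g' (σ.w ^ j * x) (σ.w ^ j * y) = σ.w ^ j * g' x y := by
      intro j x y
      refine Δ.θ_inj ?_
      have hx := hsp j _ (hfC x)
      have hy := hsp j _ (hfC y)
      rw [hg', hKwd _ (hfC _) _ hx.1 (by rw [hfe, hx.2, hfe]) _ (hfC _), hKinv _ hx.1 _ (hfC _),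
        hKwd _ (hfC _) _ hy.1 (by rw [hfe, hy.2, hfe]) _ hx.1, hKinv _ hy.1 _ hx.1,
        show K (s ^ j * f x * (s ^ j)⁻¹) (s ^ j * f y * (s ^ j)⁻¹)
          = s ^ j * K (f x) (f y) * (s ^ j)⁻¹ by simp only [K]; group, ← hg',
        ← σ.θ_lin (pow_mem hsΓ j)]
      congr 1
      induction j with
      | zero => rw [pow_zero, σ.lin_one, pow_zero, one_mul]
      | succ j ih =>
        rw [pow_succ', σ.lin_mul hsΓ (pow_mem hsΓ j), hsw, ih (hsp j _ (hfC x)) (hsp j _ (hfC y)),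
          pow_succ', mul_assoc]
    have alt : ∀ x, g' x x = 0 := fun x => Δ.θ_eq_one (by rw [hg']; simp only [K]; group)
    have addr : ∀ x y z, g' x (y + z) = g' x y + g' x z := fun x y z => by
      rw [hsym, addl, hsym y x, hsym z x]
    have sc : ∀ c x y, g' (c * x) (c * y) = c * g' x y := by
      intro c x y
      rcases eq_or_ne c 0 with rfl | hc
      · rw [zero_mul, zero_mul, zero_mul]
        exact alt 0
      · obtain ⟨j, rfl⟩ := σ.gen c hc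
        exact hscw j x y
    intro c hc d hd
    have h0 := alt_form_zero Δ.char2 g' addl addr alt sc (σ.e c) (σ.e d)
    have h1 : K c d = 1 := by
      rw [hKwd c hc _ (hfC (σ.e c)) (hfe _).symm d hd, hKinv _ (hfC _) _ hd,
        hKwd d hd _ (hfC (σ.e d)) (hfe _).symm _ (hfC _), hKinv _ (hfC _) _ (hfC _), ← hg', h0,
        Δ.θ_zero]
    exact mul_inv_eq_iff_eq_mul.1 (mul_inv_eq_one.1 h1)
  by_cases hα : ∀ c ∈ C, Δ.t * c * Δ.t⁻¹ = c⁻¹ → c ∈ σ.B
  · exfalso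
    refine σ.false_of_conj_in_BT hU hG (fun y hy hyX => ?_) le_rfl (σ.B_le.trans hU.1) σ.t_not_mem
      (fun u hu => σ.sq_mem hU hT hG hu)
    by_contra hyBT
    obtain ⟨g, hg⟩ := isConj_iff.1 hyX
    have hy2 : y * y = 1 := by
      rw [← hg, show g * Δ.t * g⁻¹ * (g * Δ.t * g⁻¹) = g * (Δ.t * Δ.t) * g⁻¹ by group, Δ.tt]
      group
    have hc := hX hab y hy hyX hyBT
    have hb := hα _ hc (by
      rw [mul_inv_rev, inv_eq_of_mul_eq_one_right hy2, Δ.t_inv, ← mul_assoc Δ.t, Δ.tt, one_mul])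
    refine hyBT ?_
    have := mul_mem σ.t_mem (σ.B_le hb)
    rwa [← mul_assoc, Δ.tt, one_mul] at this
  push Not at hα
  obtain ⟨c₀, hc₀, hinv, hc₀B⟩ := hα
  have hne : σ.e c₀ ≠ 0 := fun h => hc₀B (he0 c₀ hc₀ h)
  have hinvC : ∀ c ∈ C, Δ.t * c * Δ.t⁻¹ = c⁻¹ := by
    intro c hc
    rcases eq_or_ne (σ.e c) 0 with h | h
    · exact σ.inv c (he0 c hc h)
    · obtain ⟨j, hj⟩ := σ.exists_w hne h
      obtain ⟨hd, hde⟩ := hsp j c₀ hc₀
      have hb : c * (s ^ j * c₀ * (s ^ j)⁻¹)⁻¹ ∈ σ.B := he0 _ (mul_mem hc (inv_mem hd)) (by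
        rw [σ.eU hU hT (hCU hc) (inv_mem (hCU hd)), σ.e_inv (σ.U_le_Γ₀ hU hT (hCU hd)), hde, hj,
          Δ.dbl])
      set d := s ^ j * c₀ * (s ^ j)⁻¹ with hdd
      have hdinv : Δ.t * d * Δ.t⁻¹ = d⁻¹ := by
        have hts := (hst.pow_left j).symm
        rw [hdd, show Δ.t * (s ^ j * c₀ * (s ^ j)⁻¹) * Δ.t⁻¹
          = (Δ.t * s ^ j) * c₀ * (Δ.t * s ^ j)⁻¹ by group, hts.eq,
          show s ^ j * Δ.t * c₀ * (s ^ j * Δ.t)⁻¹ = s ^ j * (Δ.t * c₀ * Δ.t⁻¹) * (s ^ j)⁻¹ by group,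
          hinv]
        group
      calc Δ.t * c * Δ.t⁻¹ = (Δ.t * (c * d⁻¹) * Δ.t⁻¹) * (Δ.t * d * Δ.t⁻¹) := by group
        _ = (c * d⁻¹)⁻¹ * d⁻¹ := by rw [σ.inv _ hb, hdinv]
        _ = d * c⁻¹ * d⁻¹ := by group
        _ = c⁻¹ := by rw [(hab d hd _ (inv_mem hc)).eq, mul_inv_cancel_right]
  refine ⟨{ B := C
            k := σ.k + 1
            ν := s
            w := σ.w
            one_le := by omega
            comm := hab
            inv := hinvC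
            hE := fun x => hBC (σ.hE x)
            omega := ?_
            expo := ?_
            onto := ?_
            gen := σ.gen
            ν_t := hst
            ν_B := hCs
            ν_E := fun x => by rw [← σ.θ_lin hsΓ, hsw]
            noX := σ.noX
            allX := σ.allX }, lt_of_le_of_ne hBC fun e => hc₀B ?_⟩
  · intro c hc h2
    have h1 := hinvC c hc
    rw [inv_eq_of_mul_eq_one_right h2] at h1
    have hA := σ.U_cent hU (hCU hc) (mul_inv_eq_iff_eq_mul.1 h1).symm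
    exact σ.omega c (hCB c hc (σ.A_le hA)) h2
  · intro c hc
    rw [pow_succ', pow_mul, pow_two]
    exact σ.expo _ (hsq c hc)
  · intro x
    rcases eq_or_ne x 0 with rfl | hx
    · exact ⟨1, one_mem _, by rw [one_pow, Δ.θ_zero]⟩
    obtain ⟨j, hj⟩ := σ.exists_w hne hx
    obtain ⟨hd, hde⟩ := hsp j c₀ hc₀
    generalize s ^ j * c₀ * (s ^ j)⁻¹ = d at hd hde
    refine ⟨d, hd, ?_⟩
    have hβ : σ.β d = (d * d)⁻¹ := by
      rw [β, show Δ.t * (d * Δ.t * d⁻¹) = (Δ.t * d * Δ.t⁻¹) * (Δ.t * Δ.t) * d⁻¹ by group,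
        hinvC d hd, Δ.tt, mul_one, ← mul_inv_rev]
    have h1 := σ.θ_e (hU.2.1 (hCU hd))
    rw [hde, hj, hβ, inv_pow] at h1
    rw [Nat.add_sub_cancel, show (2 : ℕ) ^ σ.k = 2 * 2 ^ (σ.k - 1) by
      rw [← pow_succ', show σ.k - 1 + 1 = σ.k by have := σ.one_le; omega], pow_mul, pow_two]
    calc (d * d) ^ 2 ^ (σ.k - 1) = ((d * d) ^ 2 ^ (σ.k - 1))⁻¹⁻¹ := (inv_inv _).symm
      _ = Δ.θ x := by rw [← h1, Δ.θ_inv]
  · exact e ▸ hc₀

/-- The translation case. -/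
theorem translation [IsSimpleGroup G] (hG : ¬ IsMulCommutative G) :
    ∃ σ' : Stage Δ, σ.B < σ'.B := by
  classical
  obtain ⟨s, hsodd, hst, hsΓ, hsU, hsw⟩ := σ.exists_nu hU hT hG
  by_cases hk : ∃ b ∈ σ.B, b * b ≠ 1
  · obtain ⟨b₁, hb₁, hb₁2⟩ := hk
    refine σ.next_of hU hT hG hst hsΓ hsw (C := U ⊓ centralizer (σ.B : Set G))
      (fun b hb => ⟨hU.1 (σ.B_le hb), Subgroup.mem_centralizer_iff.2 fun c hc =>
        (σ.comm c hc b hb).eq⟩) inf_le_left ?_ ?_ ?_ ?_ ?_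
    · intro x hx hxB
      obtain ⟨b, hb, rfl | rfl⟩ := hxB
      · exact hb
      exfalso
      have h1 := Subgroup.mem_centralizer_iff.1 hx.2 b₁ hb₁
      have h2 : Δ.t * b₁ * Δ.t⁻¹ = b₁ := by
        calc Δ.t * b₁ * Δ.t⁻¹ = Δ.t * (b * b₁ * b⁻¹) * Δ.t⁻¹ := by
              rw [(σ.comm b hb b₁ hb₁).eq, mul_inv_cancel_right]
          _ = Δ.t * b * b₁ * (Δ.t * b)⁻¹ := by group
          _ = b₁ := by rw [← h1, mul_inv_cancel_right]
      rw [σ.inv b₁ hb₁] at h2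
      refine hb₁2 ?_
      nth_rw 1 [← h2]
      exact inv_mul_cancel b₁
    · exact fun c hc b hb => (Subgroup.mem_centralizer_iff.1 hc.2 b hb).symm
    · intro c hc
      refine ⟨U.mul_mem (U.mul_mem (hU.1 σ.t_mem) hc.1) (U.inv_mem (hU.1 σ.t_mem)),
        Subgroup.mem_centralizer_iff.2 fun b hb => ?_⟩
      have hb' := σ.normB (inv_mem (σ.BT_le_Γ σ.t_mem)) hb
      have h1 : Commute (Δ.t⁻¹ * b * Δ.t⁻¹⁻¹) c := Subgroup.mem_centralizer_iff.1 hc.2 _ hb'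
      have h2 := h1.map (MulAut.conj Δ.t)
      simp only [MulAut.conj_apply] at h2
      rwa [show Δ.t * (Δ.t⁻¹ * b * Δ.t⁻¹⁻¹) * Δ.t⁻¹ = b by group] at h2
    · intro c hc
      refine ⟨hsU c hc.1, Subgroup.mem_centralizer_iff.2 fun b hb => ?_⟩
      have hb' := σ.normB (inv_mem hsΓ) hb
      have h1 : Commute (s⁻¹ * b * s⁻¹⁻¹) c := Subgroup.mem_centralizer_iff.1 hc.2 _ hb'
      have h2 := h1.map (MulAut.conj s)
      simp only [MulAut.conj_apply] at h2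
      rwa [show s * (s⁻¹ * b * s⁻¹⁻¹) * s⁻¹ = b by group] at h2
    · intro _ y hy hyX _
      refine ⟨mul_mem (hU.1 σ.t_mem) hy, Subgroup.mem_centralizer_iff.2 fun b hb => ?_⟩
      have h1 := σ.inverts hU hG hy hyX (fun u hu => σ.comm_mem hU hT hG hu hy) hb
      have h2 : Δ.t * y * b * (Δ.t * y)⁻¹ = b := by
        rw [show Δ.t * y * b * (Δ.t * y)⁻¹ = Δ.t * (y * b * y⁻¹) * Δ.t⁻¹ by group, h1,
          σ.inv _ (inv_mem hb), inv_inv]
      exact (mul_inv_eq_iff_eq_mul.1 h2).symm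
  · push Not at hk
    obtain ⟨M, hBM, hMU, htM, -, hdich⟩ := hyperplane (σ.B_le.trans hU.1) (hU.1 σ.t_mem) σ.t_not_mem
      (fun u hu => σ.sq_mem hU hT hG hu)
    let χ : G → ZMod 2 := fun u => if u ∈ M then 0 else 1
    have hM2 : ∀ u ∈ U, ∀ v ∈ U, χ (u * v) = χ u + χ v := by
      intro u hu v hv
      have hcase : ∀ u ∈ U, u ∉ M → Δ.t⁻¹ * u ∈ M := fun u hu h => (hdich u hu).resolve_left h
      by_cases h1 : u ∈ M
      · by_cases h2 : v ∈ M
        · simp [χ, h1, h2, mul_mem h1 h2]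
        · have : u * v ∉ M := fun h => h2 (by
            have := mul_mem (inv_mem h1) h
            rwa [inv_mul_cancel_left] at this)
          simp [χ, h1, h2, this]
      · by_cases h2 : v ∈ M
        · have : u * v ∉ M := fun h => h1 (by
            have := mul_mem h (inv_mem h2)
            rwa [mul_inv_cancel_right] at this)
          simp [χ, h1, h2, this]
        · have h3 : u * v ∈ M := by
            by_contra h3
            have h4 := mul_mem (inv_mem (hcase u hu h1)) (hcase _ (mul_mem hu hv) h3)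
            rw [show (Δ.t⁻¹ * u)⁻¹ * (Δ.t⁻¹ * (u * v)) = v by group] at h4
            exact h2 h4
          have h11 : (1 : ZMod 2) + 1 = 0 := rfl
          simp [χ, h1, h2, h3, h11]
    let o := orderOf s
    let lam : G → ZMod 2 := fun u => ∑ i ∈ Finset.range o, χ (s ^ i * u * (s ^ i)⁻¹)
    have hsN : s ∈ normalizer (U : Set G) := mem_normalizer_of_le hsU
    have hsiU : ∀ (i : ℕ), ∀ u ∈ U, s ^ i * u * (s ^ i)⁻¹ ∈ U := fun i u hu =>
      (Subgroup.mem_normalizer_iff.1 (pow_mem hsN i) u).1 hu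
    have hadd : ∀ u ∈ U, ∀ v ∈ U, lam (u * v) = lam u + lam v := by
      intro u hu v hv
      simp only [lam, ← Finset.sum_add_distrib]
      refine Finset.sum_congr rfl fun i _ => ?_
      rw [← hM2 _ (hsiU i u hu) _ (hsiU i v hv)]
      congr 1
      group
    have hone : lam 1 = 0 := by
      simp only [lam, mul_one, mul_inv_cancel, χ, one_mem, if_true, Finset.sum_const_zero]
    have ht : lam Δ.t = 1 := by
      obtain ⟨m, hm⟩ := hsodd
      simp only [lam, (hst.pow_left _).eq, mul_inv_cancel_right, χ, htM, if_false, Finset.sum_const,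
        Finset.card_range, o, hm, nsmul_eq_mul, mul_one]
      push_cast
      rw [show (2 : ZMod 2) = 0 from rfl, zero_mul, zero_add]
    have hlamB : ∀ b ∈ σ.B, lam b = 0 := by
      intro b hb
      refine Finset.sum_eq_zero fun i _ => ?_
      simp [χ, hBM (σ.normB (pow_mem hsΓ i) hb)]
    have hinv : ∀ u, lam (s * u * s⁻¹) = lam u := by
      intro u
      have e1 := Finset.sum_range_succ' (fun i => χ (s ^ i * u * (s ^ i)⁻¹)) o
      have e2 := Finset.sum_range_succ (fun i => χ (s ^ i * u * (s ^ i)⁻¹)) o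
      simp only [o, pow_orderOf_eq_one, pow_zero, one_mul, inv_one, mul_one] at e1 e2
      have e3 := add_right_cancel (e1.symm.trans e2)
      simp only [lam]
      refine Eq.trans (Finset.sum_congr rfl fun i _ => ?_) e3
      congr 1
      rw [pow_succ]
      group
    let W : Subgroup G :=
      { carrier := {u | u ∈ U ∧ lam u = 0}
        one_mem' := ⟨one_mem _, hone⟩
        mul_mem' := fun {a b} ha hb =>
          ⟨mul_mem ha.1 hb.1, by rw [hadd a ha.1 b hb.1, ha.2, hb.2, add_zero]⟩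
        inv_mem' := fun {a} ha => ⟨inv_mem ha.1, by
          have := hadd a ha.1 a⁻¹ (inv_mem ha.1)
          rw [mul_inv_cancel, hone, ha.2, zero_add] at this
          exact this.symm⟩ }
    have h2cases : ∀ z : ZMod 2, z = 0 ∨ z = 1 := by decide
    have hWt : ∀ u ∈ U, u ∉ W → Δ.t * u ∈ W := by
      intro u hu h
      refine ⟨mul_mem (hU.1 σ.t_mem) hu, ?_⟩
      rcases h2cases (lam u) with e | e
      · exact absurd ⟨hu, e⟩ h
      · rw [hadd _ (hU.1 σ.t_mem) u hu, ht, e]; rfl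
    have hUE : ∀ c ∈ U, ∀ b ∈ σ.B, Commute c b := by
      intro c hc b hb
      obtain ⟨x, rfl⟩ := σ.omega b hb (hk b hb)
      refine mul_inv_eq_iff_eq_mul.1 ?_
      rw [← σ.θ_lin (hU.2.1 hc), (σ.U_le_Γ₀ hU hT hc).2]
    refine σ.next_of hU hT hG hst hsΓ hsw (C := W) (fun b hb => ⟨hU.1 (σ.B_le hb), hlamB b hb⟩)
      (fun _ h => h.1) ?_ (fun c hc => hUE c hc.1) ?_ ?_ ?_
    · intro x hx hxB
      obtain ⟨b, hb, rfl | rfl⟩ := hxB
      · exact hb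
      · exfalso
        have := hx.2
        rw [hadd _ (hU.1 σ.t_mem) b (hU.1 (σ.B_le hb)), ht, hlamB b hb, add_zero] at this
        exact one_ne_zero this
    · intro c hc
      refine ⟨mul_mem (mul_mem (hU.1 σ.t_mem) hc.1) (inv_mem (hU.1 σ.t_mem)), ?_⟩
      rw [Δ.t_inv, hadd _ (mul_mem (hU.1 σ.t_mem) hc.1) _ (hU.1 σ.t_mem),
        hadd _ (hU.1 σ.t_mem) _ hc.1, ht, hc.2]
      rfl
    · exact fun c hc => ⟨hsU c hc.1, by rw [hinv, hc.2]⟩
    · intro hab y hy hyX _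
      refine hWt y hy fun hyW => ?_
      have h1 := Δ.cmax (hU.2.2.1.to_le (fun _ h => h.1 : W ≤ U)) hyX fun v hv => hab v hv y hyW
      have hcov : (U : Set G) ⊆ (W : Set G) ∪ (fun v => Δ.t * v) '' (W : Set G) := by
        intro u hu
        by_cases h : u ∈ W
        · exact Or.inl h
        · exact Or.inr ⟨_, hWt u hu h, by show Δ.t * (Δ.t * u) = u; rw [← mul_assoc, Δ.tt, one_mul]⟩
      have h2 := (Set.ncard_le_ncard hcov (Set.toFinite _)).trans (Set.ncard_union_le _ _)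
      rw [Set.ncard_image_of_injective _ (mul_right_injective Δ.t), ← Nat.card_coe_set_eq,
        ← Nat.card_coe_set_eq] at h2
      have h3 : Nat.card σ.B * Nat.card Δ.A ≤ 2 * Nat.card Δ.A :=
        (σ.U_card hU hG).1 ▸ (le_trans h2 (by have := h1; show _ ≤ _; exact two_mul (Nat.card Δ.A) ▸ add_le_add h1 h1))
      have h4 : Nat.card F ≤ Nat.card σ.B :=
        Nat.card_le_card_of_injective (fun x => (⟨Δ.θ x, σ.hE x⟩ : σ.B)) fun x y e =>
          Δ.θ_inj (congrArg Subtype.val e)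
      have h5 := Nat.le_of_mul_le_mul_right h3 Nat.card_pos
      have := Δ.card_F_four
      omega

end Stage

end Cfsg.Lib.TwoTimesPSL
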