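/-
If the centralizer of `E` in `Γ` keeps `t` inside `t B²`, `Γ` induces an affine group on `E` which
leads to a contradiction.
-/
import Mathlib
import Cfsg.Agent.TwoTimesPSL.Translation
import Cfsg.Agent.TwoTimesPSL.AffineThree

set_option autoImplicit false
set_option linter.unusedSectionVars false
set_option linter.style.haveILetI false

namespace Cfsg.Lib.TwoTimesPSL

open Subgroup

variable {G : Type*} [Group G] [Finite G] {F : Type*} [Field F] [Finite F]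

namespace Stage

variable {Δ : ElemFrame G F} (σ : Stage Δ)

/-- The affine action. -/
noncomputable def act : σ.Γ →* Equiv.Perm F :=
  letI : MulAction σ.Γ F :=
    { smul := fun g x => σ.e g + σ.lin g x
      one_smul := fun x => by
        show σ.e ((1 : σ.Γ) : G) + σ.lin ((1 : σ.Γ) : G) x = x
        rw [OneMemClass.coe_one, σ.e_comm (one_mem _) (Commute.one_left _), σ.lin_one, zero_add]
      mul_smul := fun g h x => by
        show σ.e ((g * h : σ.Γ) : G) + σ.lin ((g * h : σ.Γ) : G) x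
          = σ.e g + σ.lin g (σ.e h + σ.lin h x)
        rw [Subgroup.coe_mul, σ.e_mul g.2 h.2, σ.lin_mul g.2 h.2, σ.lin_add g.2, add_assoc] }
  MulAction.toPermHom σ.Γ F

theorem act_apply (g : σ.Γ) (x : F) : σ.act g x = σ.e g + σ.lin g x := rfl

variable (hN : ¬ σ.Trans)
include hN

theorem act_ker (g : σ.Γ) : σ.act g = 1 ↔ (g : G) ∈ σ.Γ₀ := by
  constructor
  · intro h
    refine ⟨g.2, fun x => ?_⟩
    have h0 := congrArg (fun p : Equiv.Perm F => p 0) h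
    have hx := congrArg (fun p : Equiv.Perm F => p x) h
    simp only [σ.act_apply, Equiv.Perm.one_apply, σ.lin_zero g.2, add_zero] at h0
    simp only [σ.act_apply, Equiv.Perm.one_apply, h0, zero_add] at hx
    exact hx
  · intro h
    refine Equiv.ext fun x => ?_
    have he : σ.e g = 0 := by
      by_contra hne
      exact hN ⟨g, h, hne⟩
    rw [σ.act_apply, he, h.2, zero_add, Equiv.Perm.one_apply]

theorem U_ker {U : Subgroup G} (hU : σ.IsSylG U) {u : G} (hu : u ∈ U) (h : u ∈ σ.Γ₀) :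
    u ∈ σ.BT := by
  refine σ.mem_BT_of_e hU hu ?_
  by_contra hne
  exact hN ⟨u, h, hne⟩

theorem stab_odd (g : σ.Γ) (h : σ.act g 0 = 0) : Odd (orderOf (σ.act g)) := by
  rw [σ.act_apply, σ.lin_zero g.2, add_zero] at h
  obtain ⟨b, hb, hc⟩ := σ.of_e_eq_zero g.2 h
  have hbΓ : b ∈ σ.Γ := σ.BT_le_Γ (σ.B_le hb)
  obtain ⟨a, s, ha, hs, -, he, ⟨i, hi⟩, ⟨l, hl⟩⟩ := exists_split (b⁻¹ * (g : G))
  have hcΓ : b⁻¹ * (g : G) ∈ σ.Γ := mul_mem (inv_mem hbΓ) g.2
  have haΓ : a ∈ σ.Γ := hi ▸ zpow_mem hcΓ i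
  have hsΓ : s ∈ σ.Γ := hl ▸ zpow_mem hcΓ l
  have haA : a ∈ Δ.A := σ.twoEl_mem_A ha haΓ (hi ▸ hc.zpow_left i)
  have hg : g = ⟨b, hbΓ⟩ * (⟨a, haΓ⟩ * ⟨s, hsΓ⟩) := Subtype.ext (by
    show (g : G) = b * (a * s)
    rw [he, mul_inv_cancel_left])
  rw [hg, map_mul, map_mul, (σ.act_ker hN ⟨b, hbΓ⟩).2 (σ.BT_le_Γ₀ (σ.B_le hb)),
    (σ.act_ker hN ⟨a, haΓ⟩).2 (σ.BT_le_Γ₀ (σ.A_le haA)), one_mul, one_mul]
  refine hs.of_dvd_nat ?_
  rw [show orderOf s = orderOf (⟨s, hsΓ⟩ : σ.Γ) from (Subgroup.orderOf_mk _ _).symm]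
  exact orderOf_map_dvd _ _

theorem stab_card_odd : Odd (Nat.card (MulAction.stabilizer σ.act.range (0 : F))) := by
  by_contra hev
  haveI : Fact (Nat.Prime 2) := ⟨Nat.prime_two⟩
  obtain ⟨k, hk⟩ := exists_prime_orderOf_dvd_card' (G := MulAction.stabilizer σ.act.range (0 : F)) 2
    (even_iff_two_dvd.1 (Nat.not_odd_iff_even.1 hev))
  obtain ⟨g, hg⟩ := (k : σ.act.range).2
  have h0 : σ.act g 0 = 0 := by rw [hg]; exact k.2
  have h1 := σ.stab_odd hN g h0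
  rw [hg, Subgroup.orderOf_coe, Subgroup.orderOf_coe, hk] at h1
  exact absurd h1 (by decide)

theorem range_trans [IsSimpleGroup G] (hG : ¬ IsMulCommutative G) (x : F) :
    ∃ k : σ.act.range, k • (0 : F) = x := by
  obtain ⟨b, hb, e⟩ := σ.onto x
  obtain ⟨g, hg, hgb⟩ := σ.Γ_trans hG hb
  refine ⟨⟨σ.act ⟨g, hg⟩, _, rfl⟩, ?_⟩
  show σ.act ⟨g, hg⟩ 0 = x
  rw [σ.act_apply, σ.lin_zero hg, add_zero]
  exact Δ.θ_inj (by rw [σ.θ_e hg, hgb, e])

omit hN in
theorem w_ne_one : σ.w ≠ 1 := by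
  classical
  intro h
  haveI := Fintype.ofFinite F
  have h4 := Δ.card_F_four
  rw [Nat.card_eq_fintype_card] at h4
  obtain ⟨x, -, hx⟩ := Finset.exists_mem_notMem_of_card_lt_card
    (s := ({0, 1} : Finset F)) (t := Finset.univ)
    (by
      classical
      rw [Finset.card_univ]
      have : ({0, 1} : Finset F).card ≤ 2 := Finset.card_le_two
      omega)
  simp only [Finset.mem_insert, Finset.mem_singleton, not_or] at hx
  obtain ⟨j, hj⟩ := σ.gen x hx.1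
  exact hx.2 (by rw [← hj, h, one_pow])

theorem three_le [IsSimpleGroup G] (hG : ¬ IsMulCommutative G) : 3 ≤ Δ.n := by
  by_contra hn
  have hn2 : Δ.n = 2 := by have := Δ.two_le; omega
  have hF : Nat.card F = 4 := by rw [Δ.card, hn2]; norm_num
  haveI := Fintype.ofFinite F
  let ψ : σ.Γ →* Equiv.Perm {x : F // x ≠ 0} :=
    letI : MulAction σ.Γ {x : F // x ≠ 0} :=
      { smul := fun g x => ⟨σ.lin g x, fun h => x.2 (Δ.θ_eq_one (by
          have h1 := σ.θ_lin g.2 (x : F)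
          rw [h, Δ.θ_zero] at h1
          exact mul_left_cancel (a := (g : G)) (mul_right_cancel (b := (g : G)⁻¹)
            (h1.symm.trans (by group)))))⟩
        one_smul := fun x => Subtype.ext (σ.lin_one _)
        mul_smul := fun g h x => Subtype.ext (σ.lin_mul g.2 h.2 _) }
    MulAction.toPermHom σ.Γ {x : F // x ≠ 0}
  have hker : σ.act.ker = ψ.ker := by
    ext g
    rw [MonoidHom.mem_ker, MonoidHom.mem_ker, σ.act_ker hN g]
    constructor
    · intro h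
      exact Equiv.ext fun x => Subtype.ext (h.2 x)
    · intro h
      refine ⟨g.2, fun x => ?_⟩
      rcases eq_or_ne x 0 with rfl | hx
      · exact σ.lin_zero g.2
      · exact congrArg Subtype.val (congrArg (fun p : Equiv.Perm {x : F // x ≠ 0} => p ⟨x, hx⟩) h)
  have hle : Nat.card σ.act.range ≤ 6 := by
    rw [← Subgroup.index_ker, hker, Subgroup.index_ker]
    refine (Subgroup.card_le_card_group _).trans ?_
    rw [Nat.card_perm]
    have : Nat.card {x : F // x ≠ 0} = 3 := by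
      classical
      rw [Nat.card_eq_fintype_card, Fintype.card_subtype_compl, Fintype.card_subtype_eq,
        ← Nat.card_eq_fintype_card, hF]
    rw [this]
    rfl
  have horb : MulAction.orbit σ.act.range (0 : F) = Set.univ :=
    Set.eq_univ_of_forall fun x => σ.range_trans hN hG x
  have hcard := Subgroup.card_mul_index (MulAction.stabilizer σ.act.range (0 : F))
  rw [MulAction.index_stabilizer, horb, Set.ncard_univ, hF] at hcard
  have hst : 2 ≤ Nat.card (MulAction.stabilizer σ.act.range (0 : F)) := by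
    let τ : σ.act.range := ⟨σ.act ⟨σ.ν, σ.ν_mem⟩, _, rfl⟩
    have hν : ∀ x, σ.act ⟨σ.ν, σ.ν_mem⟩ x = σ.w * x := fun x => by
      rw [σ.act_apply, σ.e_comm σ.ν_mem σ.ν_t, zero_add]
      show σ.lin σ.ν x = _
      rw [← pow_one σ.ν, σ.ν_pow_lin, pow_one]
    have hτ : τ ∈ MulAction.stabilizer σ.act.range (0 : F) :=
      (hν 0).trans (mul_zero _)
    have hne : (⟨τ, hτ⟩ : MulAction.stabilizer σ.act.range (0 : F)) ≠ 1 := fun h => by
      have h1 := hν 1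
      have h2 : σ.act ⟨σ.ν, σ.ν_mem⟩ = 1 := congrArg
        (fun k : MulAction.stabilizer σ.act.range (0 : F) => ((k : σ.act.range) : Equiv.Perm F)) h
      rw [h2, Equiv.Perm.one_apply, mul_one] at h1
      exact σ.w_ne_one h1.symm
    haveI : Nontrivial (MulAction.stabilizer σ.act.range (0 : F)) := nontrivial_of_ne _ _ hne
    exact Finite.one_lt_card
  obtain ⟨r, hr⟩ := σ.stab_card_odd hN
  omega

theorem aff [IsSimpleGroup G] (hG : ¬ IsMulCommutative G) : Aff σ.act.range F Δ.n where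
  char2 := Δ.char2
  card := Δ.card
  three := σ.three_le hN hG
  aff := by
    rintro ⟨_, g, rfl⟩ x y
    show σ.act g (x + y) = σ.act g x + σ.act g y + σ.act g 0
    simp only [σ.act_apply, σ.lin_add g.2, σ.lin_zero g.2, add_zero]
    linear_combination (- σ.e (g : G)) * Δ.char2
  inj := by
    rintro ⟨_, g, rfl⟩ h
    refine Subtype.ext ((σ.act_ker hN g).2 ⟨g.2, fun x => ?_⟩)
    have hx : σ.act g x + σ.act g 0 = x := h x
    simp only [σ.act_apply, σ.lin_zero g.2, add_zero] at hx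
    linear_combination hx - σ.e (g : G) * Δ.char2
  trans := σ.range_trans hN hG
  odd := σ.stab_card_odd hN
  scal := fun c hc => by
    obtain ⟨j, rfl⟩ := σ.gen c hc
    refine ⟨⟨σ.act ⟨σ.ν ^ j, pow_mem σ.ν_mem j⟩, _, rfl⟩, fun x => ?_⟩
    show σ.act ⟨σ.ν ^ j, pow_mem σ.ν_mem j⟩ x = _
    rw [σ.act_apply, σ.e_comm (pow_mem σ.ν_mem j) (σ.ν_t.pow_left j), zero_add]
    exact σ.ν_pow_lin j x
  semi := by
    rintro ⟨_, g, rfl⟩ h
    have h0 : σ.act g 0 = 0 := h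
    rw [σ.act_apply, σ.lin_zero g.2, add_zero] at h0
    obtain ⟨b, hb, hc⟩ := σ.of_e_eq_zero g.2 h0
    have hbT := σ.B_le hb
    have hcΓ : b⁻¹ * (g : G) ∈ σ.Γ := mul_mem (inv_mem (σ.BT_le_Γ hbT)) g.2
    have hlin : ∀ x, σ.lin (b⁻¹ * (g : G)) x = σ.lin g x := fun x => by
      rw [σ.lin_mul (inv_mem (σ.BT_le_Γ hbT)) g.2, σ.lin_BT (inv_mem hbT)]
    obtain ⟨u, ρ, hρ⟩ := Δ.semi (σ.three_le hN hG) _ hc fun x => ⟨_, (σ.θ_lin hcΓ x).symm⟩
    have hx : ∀ x, σ.act g x = u * ρ x := fun x => by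
      rw [σ.act_apply, h0, zero_add, ← hlin]
      exact Δ.θ_inj (by rw [σ.θ_lin hcΓ, hρ])
    refine ⟨ρ, fun x => ?_⟩
    show σ.act g x = σ.act g 1 * ρ x
    rw [hx, hx, map_one, mul_one]

/-- An element of `X ∩ U` with central image lies in `BT`. -/
theorem central_case [IsSimpleGroup G] (hG : ¬ IsMulCommutative G) {U : Subgroup G}
    (hU : σ.IsSylG U) {y : G} (hy : y ∈ U) (hX : IsConj Δ.t y)
    (hc : ∀ u : G, ∀ hu : u ∈ U,
      Commute (σ.act ⟨u, hU.2.1 hu⟩) (σ.act ⟨y, hU.2.1 hy⟩)) : y ∈ σ.BT := by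
  by_contra hyB
  obtain ⟨g, hg⟩ := isConj_iff.1 hX
  have hy2 : y * y = 1 := by
    rw [← hg, show g * Δ.t * g⁻¹ * (g * Δ.t * g⁻¹) = g * (Δ.t * Δ.t) * g⁻¹ by group, Δ.tt]
    group
  have h : ∀ u ∈ U, y⁻¹ * (u * y * u⁻¹) ∈ σ.B := by
    intro u hu
    have hm : y⁻¹ * (u * y * u⁻¹) ∈ U :=
      mul_mem (inv_mem hy) (mul_mem (mul_mem hu hy) (inv_mem hu))
    have hBT : y⁻¹ * (u * y * u⁻¹) ∈ σ.BT := by
      refine σ.U_ker hN hU hm ((σ.act_ker hN ⟨_, hU.2.1 hm⟩).1 ?_)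
      rw [show (⟨_, hU.2.1 hm⟩ : σ.Γ) = (⟨y, hU.2.1 hy⟩ : σ.Γ)⁻¹ *
        ((⟨u, hU.2.1 hu⟩ : σ.Γ) * ⟨y, hU.2.1 hy⟩ * (⟨u, hU.2.1 hu⟩ : σ.Γ)⁻¹) from rfl,
        map_mul, map_mul, map_mul, map_inv, map_inv, (hc u hu).eq, mul_inv_cancel_right,
        inv_mul_cancel]
    refine σ.invol_coset hU hG hy hyB hy2 hBT ?_
    rw [mul_inv_cancel_left, show u * y * u⁻¹ * (u * y * u⁻¹) = u * (y * y) * u⁻¹ by group, hy2]
    group
  refine hyB (σ.U_ker hN hU hy ⟨hU.2.1 hy, fun x => Δ.θ_inj ?_⟩)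
  rw [σ.θ_lin (hU.2.1 hy), σ.inverts hU hG hy hX h (σ.hE x), Δ.θ_inv]

/-- The affine case is impossible. -/
theorem faithful [IsSimpleGroup G] (hG : ¬ IsMulCommutative G) : False := by
  classical
  haveI : Fact (Nat.Prime 2) := ⟨Nat.prime_two⟩
  have hA := σ.aff hN hG
  obtain ⟨-, hclass, hP⟩ := hA.conclusion
  obtain ⟨U, hU⟩ := σ.exists_sylG
  let φ : U →* σ.act.range := σ.act.rangeRestrict.comp (Subgroup.inclusion hU.2.1)
  have hφ : ∀ u : U, ((φ u : σ.act.range) : Equiv.Perm F) = σ.act ⟨u, hU.2.1 u.2⟩ := fun u => rfl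
  have hkerφ : φ.ker = σ.BT.subgroupOf U := by
    ext u
    rw [MonoidHom.mem_ker, Subgroup.mem_subgroupOf]
    constructor
    · intro h
      exact σ.U_ker hN hU u.2 ((σ.act_ker hN _).1 (by rw [← hφ, h]; rfl))
    · intro h
      exact Subtype.ext (by rw [hφ]; exact (σ.act_ker hN _).2 (σ.BT_le_Γ₀ h))
  obtain ⟨P, hPle⟩ := ((hU.2.2.1.of_equiv Subgroup.topEquiv.symm).map φ).exists_le_sylow
  have hPeq : (P : Subgroup σ.act.range) = φ.range := by
    have hr : φ.range = (⊤ : Subgroup U).map φ := MonoidHom.range_eq_map φ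
    rw [hr]
    refine (Subgroup.eq_of_le_of_card_ge hPle ?_).symm
    rw [← hr, hA.sylow_card P]
    have h1 := Subgroup.card_mul_index φ.ker
    rw [Subgroup.index_ker, hkerφ, Nat.card_congr (subgroupOfEquivOfLe hU.1).toEquiv, σ.BT_card,
      (σ.U_card hU hG).1, Δ.A_card, Δ.card] at h1
    refine le_of_eq (Nat.eq_of_mul_eq_mul_left (show 0 < 2 * Nat.card σ.B by have := Nat.card_pos (α := σ.B); omega) ?_)
    rw [h1]
    ring
  obtain ⟨j, a, hjP, hj, hjc, haP, haj, hsq⟩ := hP P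
  rw [hPeq] at hjP haP
  have hj1 : j ≠ 1 := fun e => by rw [e, orderOf_one] at hj; omega
  have hnoX : ∀ y ∈ U, IsConj Δ.t y → y ∈ σ.BT := by
    intro y hy hX
    by_contra hyB
    obtain ⟨g₀, hg₀⟩ := isConj_iff.1 hX
    have hy2 : y * y = 1 := by
      rw [← hg₀, show g₀ * Δ.t * g₀⁻¹ * (g₀ * Δ.t * g₀⁻¹) = g₀ * (Δ.t * Δ.t) * g₀⁻¹ by group, Δ.tt]
      group
    have hy1 : φ ⟨y, hy⟩ ≠ 1 := fun e => hyB (σ.U_ker hN hU hy ((σ.act_ker hN _).1 (by
      rw [← hφ ⟨y, hy⟩, e]; rfl)))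
    have hyo : orderOf (φ ⟨y, hy⟩) = 2 := orderOf_eq_prime (by
      rw [pow_two, ← map_mul, show (⟨y, hy⟩ : U) * ⟨y, hy⟩ = 1 from Subtype.ext hy2, map_one]) hy1
    obtain ⟨k, hk⟩ := isConj_iff.1 (hclass _ _ hyo hj)
    obtain ⟨g, hg⟩ := σ.act.rangeRestrict_surjective k
    let H : Subgroup G := (Subgroup.comap σ.act.rangeRestrict φ.range).map σ.Γ.subtype
    have hUH : U ≤ H := fun u hu => ⟨⟨u, hU.2.1 hu⟩, ⟨⟨u, hu⟩, rfl⟩, rfl⟩
    have hy'Γ : (g : G) * y * (g : G)⁻¹ ∈ σ.Γ := mul_mem (mul_mem g.2 (hU.2.1 hy)) (inv_mem g.2)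
    have hy'act : σ.act.rangeRestrict ⟨(g : G) * y * (g : G)⁻¹, hy'Γ⟩ = j := by
      rw [← hk, ← hg]
      rw [show (⟨(g : G) * y * (g : G)⁻¹, hy'Γ⟩ : σ.Γ) = g * ⟨y, hU.2.1 hy⟩ * g⁻¹ from rfl,
        map_mul, map_mul, map_inv]
      rfl
    have hy'2 : orderOf ((g : G) * y * (g : G)⁻¹) = 2 := by
      refine ((MulAut.conj (g : G)).orderOf_eq y).trans (orderOf_eq_prime (by rw [pow_two, hy2]) ?_)
      exact fun e => hyB (e ▸ one_mem _)
    obtain ⟨h, hh, hh'⟩ := conj_into hUH hU.2.2.1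
      (fun Q hQ hQH => hU.2.2.2 Q hQ (hQH.trans (Subgroup.map_subtype_le _)))
      (Q := zpowers ((g : G) * y * (g : G)⁻¹)) (isTwoEl_of_orderOf_two hy'2).isPGroup
      (zpowers_le.2 ⟨⟨_, hy'Γ⟩, by
        show σ.act.rangeRestrict _ ∈ φ.range
        rw [hy'act]; exact hjP, rfl⟩)
    obtain ⟨h', hh'r, rfl⟩ := hh
    have hz := hh' _ (mem_zpowers _)
    have hzact : φ ⟨_, hz⟩ = j := by
      have e : φ ⟨_, hz⟩ = σ.act.rangeRestrict (h' * ⟨(g : G) * y * (g : G)⁻¹, hy'Γ⟩ * h'⁻¹) := rfl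
      rw [e, map_mul, map_mul, map_inv, hy'act,
        (hjc _ (hPeq ▸ (hh'r : σ.act.rangeRestrict h' ∈ φ.range))).eq, mul_inv_cancel_right]
    have hzB := σ.central_case hN hG hU hz
      (hX.trans (isConj_iff.2 ⟨(h' : G) * g, by simp only [Subgroup.coe_subtype]; group⟩))
      fun u hu => by
        have h1 := hjc (φ ⟨u, hu⟩) (hPeq ▸ (⟨⟨u, hu⟩, rfl⟩ : φ ⟨u, hu⟩ ∈ φ.range))
        rw [← hzact] at h1
        exact congrArg Subtype.val h1
    refine hj1 (hzact.symm.trans ?_)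
    rw [← MonoidHom.mem_ker, hkerφ]
    exact hzB
  -- the squares
  obtain ⟨⟨v, hv⟩, hva⟩ := haP
  have hsqBT : ∀ u : U, φ u * φ u = 1 → (u : G) * u ∈ σ.B := fun u h => by
    refine σ.sq_mem_B hU hG u.2 ?_
    have h1 : u * u ∈ φ.ker := by rw [MonoidHom.mem_ker, map_mul, h]
    rw [hkerφ] at h1
    exact h1
  have hjj : j * j = 1 := by rw [← pow_two, ← hj, pow_orderOf_eq_one]
  have hv4 : v * v * (v * v) ∈ σ.B := hsqBT (⟨v, hv⟩ * ⟨v, hv⟩) (by rw [map_mul, hva, haj, hjj])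
  have hn : ∀ {b : G}, b ∈ σ.B → ∀ {g : G}, g ∈ U → g * b * g⁻¹ ∈ σ.B :=
    fun hb _ hg => σ.normB (hU.2.1 hg) hb
  have haux : ∀ u : U, φ u = a → (u : G) * u * (v * v)⁻¹ ∈ σ.B := by
    intro u hu
    have hr : (⟨v, hv⟩ : U)⁻¹ * u ∈ φ.ker := by
      rw [MonoidHom.mem_ker, map_mul, map_inv, hva, hu, inv_mul_cancel]
    rw [hkerφ, Subgroup.mem_subgroupOf] at hr
    have hr' : v⁻¹ * (u : G) ∈ σ.BT := hr
    set r := v⁻¹ * (u : G) with hrdef
    have hw : v⁻¹ * r * v * r ∈ σ.B := by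
      obtain ⟨b, hb, e | e⟩ := hr'
      · rw [e]
        have := hn hb (inv_mem hv)
        rw [inv_inv] at this
        exact mul_mem this hb
      · have hx : σ.β v⁻¹ * (v⁻¹ * b * v) ∈ σ.B := by
          have := hn hb (inv_mem hv)
          rw [inv_inv] at this
          exact mul_mem (σ.β_mem (inv_mem (hU.2.1 hv))) this
        rw [e, show v⁻¹ * (Δ.t * b) * v * (Δ.t * b)
          = (v⁻¹ * Δ.t * v⁻¹⁻¹) * (v⁻¹ * b * v) * Δ.t * b by group, σ.conj_t,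
          mul_assoc Δ.t, σ.tb_eq hx, mul_assoc _ Δ.t Δ.t, Δ.tt, mul_one]
        exact mul_mem (inv_mem hx) hb
    rw [show (u : G) * u * (v * v)⁻¹ = v * (v * (v⁻¹ * r * v * r) * v⁻¹) * v⁻¹ by
      rw [hrdef]; group]
    exact hn (hn hw hv) hv
  let V : Subgroup G :=
    { carrier := {x | x ∈ σ.B ∨ x * (v * v)⁻¹ ∈ σ.B}
      one_mem' := Or.inl (one_mem _)
      mul_mem' := by
        intro x y hx hy
        rcases hx with hx | hx <;> rcases hy with hy | hy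
        · exact Or.inl (mul_mem hx hy)
        · refine Or.inr ?_
          rw [mul_assoc]
          exact mul_mem hx hy
        · refine Or.inr ?_
          rw [show x * y * (v * v)⁻¹ = (x * (v * v)⁻¹) * ((v * v) * y * (v * v)⁻¹) by group]
          exact mul_mem hx (hn hy (mul_mem hv hv))
        · refine Or.inl ?_
          rw [show x * y = (x * (v * v)⁻¹) * ((v * v) * (y * (v * v)⁻¹) * (v * v)⁻¹) * (v * v * (v * v))
            by group]
          exact mul_mem (mul_mem hx (hn hy (mul_mem hv hv))) hv4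
      inv_mem' := by
        intro x hx
        rcases hx with hx | hx
        · exact Or.inl (inv_mem hx)
        · refine Or.inr ?_
          rw [show x⁻¹ * (v * v)⁻¹
            = ((v * v)⁻¹ * (x * (v * v)⁻¹)⁻¹ * (v * v)⁻¹⁻¹) * (v * v * (v * v))⁻¹ by group]
          exact mul_mem (hn (inv_mem hx) (inv_mem (mul_mem hv hv))) (inv_mem hv4) }
  refine σ.false_of_conj_in_BT hU hG hnoX (V := V) (fun b hb => Or.inl hb) ?_ ?_ ?_
  · rintro x (hx | hx)
    · exact hU.1 (σ.B_le hx)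
    · have := mul_mem (hU.1 (σ.B_le hx)) (mul_mem hv hv)
      rwa [inv_mul_cancel_right] at this
  · rintro (h | h)
    · exact σ.t_not_mem h
    · refine σ.sq_not_tB hU hG hv h ?_
      have h1 : v * v = (Δ.t * (v * v)⁻¹)⁻¹ * Δ.t := by
        rw [mul_inv_rev, inv_inv, inv_mul_cancel_right]
      rw [σ.tb_eq h, ← h1]
  · intro u hu
    by_cases h : φ ⟨u, hu⟩ * φ ⟨u, hu⟩ = 1
    · exact Or.inl (hsqBT ⟨u, hu⟩ h)
    right
    rcases hsq (φ ⟨u, hu⟩) (hPeq ▸ (⟨⟨u, hu⟩, rfl⟩ : φ ⟨u, hu⟩ ∈ φ.range)) h with e | e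
    · exact haux ⟨u, hu⟩ e
    · have h1 : (u⁻¹ * u⁻¹) * (v * v)⁻¹ ∈ σ.B :=
        haux (⟨u, hu⟩ : U)⁻¹ (by rw [map_inv, e, inv_inv])
      rw [show u * u * (v * v)⁻¹
        = ((v * v)⁻¹ * (u⁻¹ * u⁻¹ * (v * v)⁻¹)⁻¹ * (v * v)⁻¹⁻¹) * (v * v * (v * v))⁻¹ by
          simp [mul_assoc]]
      exact mul_mem (hn (inv_mem h1) (inv_mem (mul_mem hv hv))) (inv_mem hv4)

end Stage

end Cfsg.Lib.TwoTimesPSL
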