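/-
Conclusion of the elementary case: the Sylow 2-subgroups are elementary abelian of order 8.
-/
import Mathlib
import Cfsg.Agent.TwoTimesPSL.Faithful

set_option autoImplicit false
set_option linter.unusedSectionVars false
set_option linter.style.haveILetI false

namespace Cfsg.Lib.TwoTimesPSL

variable {G : Type*} [Group G] [Finite G] {F : Type*} [Field F] [Finite F]

theorem ElemFrame.tight (Δ : ElemFrame G F) [IsSimpleGroup G] (hG : ¬ IsMulCommutative G) :
    Δ.Tight := by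
  classical
  by_contra hT
  obtain ⟨noX, allX⟩ := Δ.O_eq hG hT
  obtain ⟨B, ⟨σ, rfl⟩, hmax⟩ := Set.Finite.exists_maximal
    (s := {B : Subgroup G | ∃ σ : Stage Δ, σ.B = B}) (Set.toFinite _)
    ⟨_, Stage.base Δ noX allX, rfl⟩
  by_cases h : σ.Trans
  · obtain ⟨U, hU⟩ := σ.exists_sylG
    obtain ⟨σ', hlt⟩ := σ.translation hU h hG
    exact hlt.not_ge (hmax ⟨σ', rfl⟩ hlt.le)
  · exact σ.faithful h hG

theorem ElemFrame.sylow_eight (Δ : ElemFrame G F) [IsSimpleGroup G] (hG : ¬ IsMulCommutative G)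
    (S : Sylow 2 G) :
    Nat.card (S : Subgroup G) = 8 ∧ ∀ x ∈ (S : Subgroup G), x ^ 2 = 1 := by
  haveI : Fact (Nat.Prime 2) := ⟨Nat.prime_two⟩
  have hT := Δ.tight hG
  obtain ⟨P, hP⟩ := Δ.A_two.exists_le_sylow
  have hPA : (P : Subgroup G) = Δ.A := hT _ P.isPGroup' hP
  obtain ⟨g, hg⟩ := MulAction.exists_smul_eq G P S
  have hS : (S : Subgroup G) = Δ.A.map (MulAut.conj g).toMonoidHom := by
    rw [← hg, Cfsg.Lib.Transfer.sylow_smul_coe, hPA]
  refine ⟨?_, ?_⟩
  · rw [hS, Subgroup.card_map_of_injective (MulAut.conj g).injective, Δ.A_card, Δ.card,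
      Δ.n_eq_two hG hT]
    norm_num
  · intro x hx
    rw [hS] at hx
    obtain ⟨a, ha, rfl⟩ := hx
    rw [← map_pow, pow_two, Δ.A_sq ha, map_one]

end Cfsg.Lib.TwoTimesPSL
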