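/-
The centralizer of `t` seen through its epimorphism onto `Z₂ × P`, `P` simple: lifting of
2-subgroups, of normalizing elements and of conjugacy.
-/
import Mathlib
import Cfsg.Agent.TwoTimesPSL.Dihedral
import Cfsg.Prelude.Def_CaseTheorems

set_option autoImplicit false
set_option linter.unusedSectionVars false
set_option linter.style.haveILetI false

namespace Cfsg.Lib.TwoTimesPSL

open Subgroup

/-- The group of order two. -/
abbrev Z2 : Type := Multiplicative (ZMod 2)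

/-- Its generator. -/
abbrev g1 : Z2 := Multiplicative.ofAdd 1

theorem Z2_cases : ∀ z : Z2, z = 1 ∨ z = g1 := by decide

theorem g1_ne : g1 ≠ (1 : Z2) := by decide

theorem g1_sq : g1 * g1 = (1 : Z2) := by decide

/-- The centralizer of `t`, up to odd order, contains `Z₂ × P`. -/
structure Model (G P : Type*) [Group G] [Group P] where
  t : G
  ht : orderOf t = 2
  L : Subgroup G
  pr : L →* Z2 × P
  L_t : ∀ x ∈ L, Commute x t
  twoEl_L : ∀ x : G, IsTwoEl x → Commute x t → x ∈ L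
  norm : ∀ c : G, Commute c t → ∀ x ∈ L, c * x * c⁻¹ ∈ L
  surj : Function.Surjective pr
  odd : Odd (Nat.card pr.ker)
  pr_t : ∀ h : t ∈ L, pr ⟨t, h⟩ = (g1, 1)
  act : ∀ c : G, Commute c t → ∃ α : P →* P, ∀ (x : G) (hx : x ∈ L) (hx' : c * x * c⁻¹ ∈ L),
    (pr ⟨x, hx⟩).1 = 1 → pr ⟨c * x * c⁻¹, hx'⟩ = (1, α (pr ⟨x, hx⟩).2)

variable {G : Type*} [Group G] [Finite G] {P : Type*} [Group P] [Finite P] (Δ : Model G P)

namespace Model

theorem t_L : Δ.t ∈ Δ.L := Δ.twoEl_L _ (isTwoEl_of_orderOf_two Δ.ht) (Commute.refl _)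

theorem tt : Δ.t * Δ.t = 1 := by rw [← pow_two, ← Δ.ht, pow_orderOf_eq_one]

theorem two_group_L {Q : Subgroup G} (hQ : IsPGroup 2 Q) (hQt : ∀ x ∈ Q, Commute x Δ.t) :
    Q ≤ Δ.L := fun x hx => Δ.twoEl_L x (IsTwoEl.of_mem hQ hx) (hQt x hx)

/-- A 2-subgroup meets the kernel trivially. -/
theorem ker_inj {Q : Subgroup G} (hQ : IsPGroup 2 Q) {x : G} (hx : x ∈ Q) (hxL : x ∈ Δ.L)
    (h : Δ.pr ⟨x, hxL⟩ = 1) : x = 1 := by
  refine (IsTwoEl.of_mem hQ hx).eq_one ?_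
  have h1 : orderOf (⟨⟨x, hxL⟩, h⟩ : Δ.pr.ker) ∣ Nat.card Δ.pr.ker := orderOf_dvd_natCard _
  rw [← Subgroup.orderOf_coe, ← Subgroup.orderOf_coe] at h1
  exact Δ.odd.of_dvd_nat h1

/-- Lifting a 2-subgroup of `P`. -/
theorem exists_lift {R : Subgroup P} (hR : IsPGroup 2 R) :
    ∃ s : R →* G, (∀ r, ∃ h : s r ∈ Δ.L, Δ.pr ⟨s r, h⟩ = (1, (r : P))) ∧ Function.Injective s := by
  classical
  haveI : Fact (Nat.Prime 2) := ⟨Nat.prime_two⟩
  let j : R →* Z2 × P := (MonoidHom.inr Z2 P).comp R.subtype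
  have hj : Function.Injective j := fun a b e => Subtype.ext (congrArg Prod.snd e)
  let H : Subgroup Δ.L := j.range.comap Δ.pr
  obtain ⟨T⟩ : Nonempty (Sylow 2 H) := inferInstance
  let q : H →* Z2 × P := Δ.pr.comp H.subtype
  have hqR : ∀ h : H, q h ∈ j.range := fun h => h.2
  have hsurj : (T : Subgroup H).map q = j.range := by
    refine le_antisymm (by rintro _ ⟨h, -, rfl⟩; exact hqR h) fun y hy => ?_
    let q' : H →* j.range := q.codRestrict _ hqR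
    have hq' : Function.Surjective q' := fun z => by
      obtain ⟨x, hx⟩ := Δ.surj (z : Z2 × P)
      exact ⟨⟨x, show Δ.pr x ∈ j.range from hx ▸ z.2⟩, Subtype.ext hx⟩
    have htop : (T : Subgroup H).map q' = ⊤ := by
      obtain ⟨k, hk⟩ := IsPGroup.iff_card.1 (hR.of_equiv (MonoidHom.ofInjective hj))
      refine Subgroup.eq_top_of_le_card _ (Nat.le_of_dvd Nat.card_pos ?_)
      have hidx : ((T : Subgroup H).map q').index ∣ (T : Subgroup H).index :=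
        Subgroup.index_map_dvd _ hq'
      have h1 : ((T : Subgroup H).map q').index ∣ 2 ^ k := hk ▸ Subgroup.index_dvd_card _
      have h2 : ((T : Subgroup H).map q').index = 1 :=
        Nat.eq_one_of_dvd_coprimes ((Nat.Prime.coprime_iff_not_dvd Nat.prime_two).2
          T.not_dvd_index |>.pow_left k) h1 hidx
      rw [Subgroup.index_eq_one] at h2
      rw [h2, Subgroup.card_top]
    obtain ⟨h, hh, e⟩ : (⟨y, hy⟩ : j.range) ∈ (T : Subgroup H).map q' := htop ▸ Subgroup.mem_top _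
    exact ⟨h, hh, congrArg Subtype.val e⟩
  have hex : ∀ r : R, ∃ h : H, h ∈ (T : Subgroup H) ∧ q h = j r := fun r =>
    (hsurj ▸ ⟨r, rfl⟩ : j r ∈ (T : Subgroup H).map q)
  choose f hfT hfq using hex
  have huniq : ∀ h h' : H, h ∈ (T : Subgroup H) → h' ∈ (T : Subgroup H) → q h = q h' → h = h' := by
    intro h h' hh hh' e
    have hQ : IsPGroup 2 (((T : Subgroup H).map H.subtype).map Δ.L.subtype) :=
      (T.isPGroup'.map _).map _
    have h1 := Δ.ker_inj hQ (x := ((h⁻¹ * h' : H) : Δ.L))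
      ⟨_, ⟨_, mul_mem (inv_mem hh) hh', rfl⟩, rfl⟩ ((h⁻¹ * h' : H) : Δ.L).2
      (show q (h⁻¹ * h') = 1 by rw [map_mul, map_inv, e, inv_mul_cancel])
    exact inv_mul_eq_one.1 (Subtype.ext (Subtype.ext h1))
  let s : R →* H :=
    { toFun := f
      map_one' := huniq _ _ (hfT 1) (one_mem _) (by rw [hfq, map_one, map_one])
      map_mul' := fun a b => huniq _ _ (hfT _) (mul_mem (hfT a) (hfT b))
        (by rw [hfq, map_mul, map_mul, hfq, hfq]) }
  refine ⟨(Δ.L.subtype.comp H.subtype).comp s, fun r => ⟨((s r : H) : Δ.L).2, hfq r⟩, fun a b e => ?_⟩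
  refine hj ?_
  rw [← hfq a, ← hfq b]
  exact congrArg q (Subtype.ext (Subtype.ext e) : f a = f b)

section Lift

variable {R : Subgroup P} {s : R →* G}
  (hs : ∀ r, ∃ h : s r ∈ Δ.L, Δ.pr ⟨s r, h⟩ = (1, (r : P)))
include hs

theorem s_L (r : R) : s r ∈ Δ.L := (hs r).1

theorem pr_s (r : R) (h : s r ∈ Δ.L) : Δ.pr ⟨s r, h⟩ = (1, (r : P)) := (hs r).2

theorem s_comm (r : R) : Commute Δ.t (s r) := (Δ.L_t _ (Δ.s_L hs r)).symm

theorem ts_ne (r r' : R) : Δ.t * s r ≠ s r' := by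
  intro e
  have h := Δ.pr_s hs r' (Δ.s_L hs r')
  rw [show (⟨s r', Δ.s_L hs r'⟩ : Δ.L) = ⟨Δ.t, Δ.t_L⟩ * ⟨s r, Δ.s_L hs r⟩ from Subtype.ext e.symm,
    map_mul, Δ.pr_t, Δ.pr_s hs] at h
  have := congrArg Prod.fst h
  simp only [Prod.fst_mul, mul_one] at this
  exact g1_ne this

theorem s_ne_t (r : R) : s r ≠ Δ.t := fun e =>
  Δ.ts_ne hs 1 r (by rw [map_one, mul_one, e])

/-- Involutions with conjugate images are conjugate in the centralizer. -/
theorem conj_involutions {r r' : R} (hr : r * r = 1) (hr' : r' * r' = 1)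
    (h : IsConj (r : P) (r' : P)) : ∃ g : G, Commute g Δ.t ∧ g * s r * g⁻¹ = s r' := by
  obtain ⟨m, hm⟩ := isConj_iff.1 h
  obtain ⟨⟨x, hx⟩, hpx⟩ := Δ.surj (1, m)
  have h1 : x * s r * x⁻¹ * (x * s r * x⁻¹) = 1 := by
    rw [show x * s r * x⁻¹ * (x * s r * x⁻¹) = x * (s r * s r) * x⁻¹ by group, ← map_mul, hr, map_one]
    group
  have hmem : x * s r * x⁻¹ * s r' ∈ Δ.L :=
    mul_mem (mul_mem (mul_mem hx (Δ.s_L hs r)) (inv_mem hx)) (Δ.s_L hs r')
  obtain ⟨o, ho, he⟩ := coset_conj (O := Δ.pr.ker.map Δ.L.subtype)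
    (by rw [Subgroup.card_map_of_injective Δ.L.subtype_injective]; exact Δ.odd) h1
    (show s r' * s r' = 1 by rw [← map_mul, hr', map_one])
    ⟨⟨_, hmem⟩, by
      show Δ.pr ⟨_, hmem⟩ = 1
      rw [show (⟨_, hmem⟩ : Δ.L) = ⟨x, hx⟩ * ⟨s r, Δ.s_L hs r⟩ * (⟨x, hx⟩ : Δ.L)⁻¹ *
        ⟨s r', Δ.s_L hs r'⟩ from rfl, map_mul, map_mul, map_mul, map_inv, hpx, Δ.pr_s hs, Δ.pr_s hs]
      refine Prod.ext ?_ ?_
      · simp
      · show m * (r : P) * m⁻¹ * (r' : P) = 1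
        rw [hm]
        exact congrArg Subtype.val hr', rfl⟩
  obtain ⟨⟨o, hoL⟩, -, rfl⟩ := ho
  refine ⟨o * x, (Δ.L_t o hoL).mul_left (Δ.L_t x hx), ?_⟩
  rw [show o * x * s r * (o * x)⁻¹ = o * (x * s r * x⁻¹) * o⁻¹ by group]
  exact he

/-- An element normalizing an abelian 2-subgroup of `P` lifts. -/
theorem lift_norm (hR : IsPGroup 2 R) (hab : ∀ a b : R, a * b = b * a) {m : P}
    (hm : ∀ r ∈ R, m * r * m⁻¹ ∈ R) :
    ∃ g : G, Commute g Δ.t ∧ ∀ r : R, g * s r * g⁻¹ = s ⟨m * r * m⁻¹, hm r r.2⟩ := by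
  classical
  haveI : Fact (Nat.Prime 2) := ⟨Nat.prime_two⟩
  obtain ⟨⟨x, hx⟩, hpx⟩ := Δ.surj (1, m)
  let j : R →* Z2 × P := (MonoidHom.inr Z2 P).comp R.subtype
  let H : Subgroup G := (j.range.comap Δ.pr).map Δ.L.subtype
  have hsH : s.range ≤ H := by
    rintro _ ⟨r, rfl⟩
    exact ⟨⟨s r, Δ.s_L hs r⟩, ⟨r, (Δ.pr_s hs r _).symm⟩, rfl⟩
  have hR2 : IsPGroup 2 s.range := by
    rw [MonoidHom.range_eq_map]
    exact (hR.of_equiv Subgroup.topEquiv.symm).map s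
  have hmax : ∀ Q : Subgroup G, IsPGroup 2 Q → Q ≤ H → Nat.card Q ≤ Nat.card s.range := by
    intro Q hQ hQH
    have hQL : Q ≤ Δ.L := hQH.trans (Subgroup.map_subtype_le _)
    have hinj : Function.Injective s := fun a b e => by
      have := Δ.pr_s hs a (Δ.s_L hs a)
      rw [show (⟨s a, Δ.s_L hs a⟩ : Δ.L) = ⟨s b, Δ.s_L hs b⟩ from Subtype.ext e, Δ.pr_s hs] at this
      exact Subtype.ext (congrArg Prod.snd this).symm
    rw [← Nat.card_congr (MonoidHom.ofInjective hinj).toEquiv]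
    refine le_trans ?_ (Nat.card_le_card_of_surjective j.rangeRestrict j.rangeRestrict_surjective)
    refine Nat.card_le_card_of_injective (fun v : Q => (⟨Δ.pr ⟨v, hQL v.2⟩, by
      obtain ⟨⟨w, hw⟩, hwj, e⟩ := hQH v.2
      have e' : (⟨v, hQL v.2⟩ : Δ.L) = ⟨w, hw⟩ := Subtype.ext e.symm
      rw [e']
      exact hwj⟩ : j.range)) fun v w e => ?_
    have e' : Δ.pr ⟨v, hQL v.2⟩ = Δ.pr ⟨w, hQL w.2⟩ := congrArg Subtype.val e
    have := Δ.ker_inj hQ (mul_mem (inv_mem v.2) w.2) (hQL (mul_mem (inv_mem v.2) w.2)) (by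
      rw [show (⟨(v : G)⁻¹ * w, _⟩ : Δ.L) = (⟨v, hQL v.2⟩ : Δ.L)⁻¹ * ⟨w, hQL w.2⟩ from rfl,
        map_mul, map_inv, e', inv_mul_cancel])
    exact Subtype.ext (inv_mul_eq_one.1 this)
  obtain ⟨h, hh, hh'⟩ := conj_into hsH hR2 hmax (Q := s.range.map (MulAut.conj x).toMonoidHom)
    (hR2.map _) (by
      rintro _ ⟨_, ⟨r, rfl⟩, rfl⟩
      refine ⟨⟨x, hx⟩ * ⟨s r, Δ.s_L hs r⟩ * (⟨x, hx⟩ : Δ.L)⁻¹, ⟨⟨m * r * m⁻¹, hm r r.2⟩, ?_⟩, rfl⟩
      rw [map_mul, map_mul, map_inv, hpx, Δ.pr_s hs]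
      exact Prod.ext (by simp [j]) rfl)
  obtain ⟨⟨h, hhL⟩, ⟨r₀, hr₀⟩, rfl⟩ := hh
  refine ⟨h * x, (Δ.L_t h hhL).mul_left (Δ.L_t x hx), fun r => ?_⟩
  obtain ⟨r', hr'⟩ := hh' _ ⟨s r, ⟨r, rfl⟩, rfl⟩
  have e : h * x * s r * (h * x)⁻¹ = s r' := by
    rw [hr']
    show h * x * s r * (h * x)⁻¹ = h * (x * s r * x⁻¹) * h⁻¹
    group
  rw [e]
  congr 1
  have h1 := Δ.pr_s hs r' (Δ.s_L hs r')
  rw [show (⟨s r', Δ.s_L hs r'⟩ : Δ.L) = (⟨h, hhL⟩ * ⟨x, hx⟩) * ⟨s r, Δ.s_L hs r⟩ *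
    ((⟨h, hhL⟩ : Δ.L) * ⟨x, hx⟩)⁻¹ from Subtype.ext e.symm, map_mul, map_mul, map_inv, map_mul,
    hpx, Δ.pr_s hs, ← hr₀] at h1
  have h2 : (r₀ : P) * m * r * ((r₀ : P) * m)⁻¹ = r' := congrArg Prod.snd h1
  refine Subtype.ext ?_
  show (r' : P) = m * r * m⁻¹
  rw [← h2, show (r₀ : P) * m * r * ((r₀ : P) * m)⁻¹ = r₀ * (m * r * m⁻¹) * (r₀ : P)⁻¹ by group]
  have h3 := congrArg Subtype.val (hab r₀ ⟨m * r * m⁻¹, hm r r.2⟩)
  push_cast at h3
  rw [h3, mul_inv_cancel_right]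

/-- Conjugating 2-subgroups of the centralizer into the lift of a Sylow subgroup of `P`. -/
theorem sylC (hR : IsPGroup 2 R) (hmaxR : ∀ W : Subgroup P, IsPGroup 2 W → Nat.card W ≤ Nat.card R)
    {Q : Subgroup G} (hQ : IsPGroup 2 Q) (hQt : ∀ x ∈ Q, Commute x Δ.t) :
    ∃ g : G, Commute g Δ.t ∧ ∀ x ∈ Q, ∃ r : R, g * x * g⁻¹ = s r ∨ g * x * g⁻¹ = Δ.t * s r := by
  classical
  haveI : Fact (Nat.Prime 2) := ⟨Nat.prime_two⟩
  let A : Subgroup G :=
    { carrier := {x | ∃ r : R, x = s r ∨ x = Δ.t * s r}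
      one_mem' := ⟨1, Or.inl (map_one s).symm⟩
      mul_mem' := by
        rintro x y ⟨a, rfl | rfl⟩ ⟨b, rfl | rfl⟩ <;> refine ⟨a * b, ?_⟩ <;> rw [map_mul]
        · exact Or.inl rfl
        · exact Or.inr (by rw [← mul_assoc, ← (Δ.s_comm hs a).eq, mul_assoc])
        · exact Or.inr (mul_assoc _ _ _)
        · exact Or.inl (by rw [(Δ.s_comm hs a).symm.mul_mul_mul_comm, Δ.tt, one_mul])
      inv_mem' := by
        rintro x ⟨a, rfl | rfl⟩ <;> refine ⟨a⁻¹, ?_⟩ <;> rw [map_inv]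
        · exact Or.inl rfl
        · exact Or.inr (by
            rw [mul_inv_rev, inv_eq_of_mul_eq_one_right Δ.tt]
            exact ((Δ.s_comm hs a).inv_right).symm.eq) }
  have hA2 : IsPGroup 2 A := by
    intro ⟨x, a, hx⟩
    obtain ⟨i, hi⟩ := hR a
    refine ⟨i + 1, Subtype.ext ?_⟩
    push_cast
    have h1 : s a ^ 2 ^ i = 1 := by rw [← map_pow, hi, map_one]
    rcases hx with rfl | rfl
    · rw [pow_succ, pow_mul, h1, one_pow]
    · rw [(Δ.s_comm hs a).mul_pow, pow_succ, pow_mul (s a), h1, one_pow, mul_one, mul_comm, pow_mul,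
        pow_two, Δ.tt, one_pow]
  have hAL : A ≤ Δ.L := by
    rintro x ⟨a, rfl | rfl⟩
    · exact Δ.s_L hs a
    · exact mul_mem Δ.t_L (Δ.s_L hs a)
  have hmax : ∀ W : Subgroup G, IsPGroup 2 W → W ≤ Δ.L → Nat.card W ≤ Nat.card A := by
    intro W hW hWL
    let φ : W →* Z2 × P := Δ.pr.comp (Subgroup.inclusion hWL)
    have hφ : Function.Injective φ := by
      rw [injective_iff_map_eq_one]
      intro w hw
      exact Subtype.ext (Δ.ker_inj hW w.2 (hWL w.2) hw)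
    let ψ : W →* P := (MonoidHom.snd Z2 P).comp φ
    have h1 : Nat.card ψ.range ≤ Nat.card R :=
      hmaxR _ (MonoidHom.range_eq_map ψ ▸ (hW.of_equiv Subgroup.topEquiv.symm).map ψ)
    have hf : ∀ w : W, ∃ r : ψ.range, (r : P) = (φ w).2 := fun w => ⟨⟨_, w, rfl⟩, rfl⟩
    have h2 : Nat.card W ≤ Nat.card (Z2 × ψ.range) :=
      Nat.card_le_card_of_injective (fun w => ((φ w).1, (⟨ψ w, w, rfl⟩ : ψ.range))) fun v w e => hφ
        (Prod.ext (congrArg Prod.fst e :) (congrArg (fun p : Z2 × ψ.range => ((p.2 : ψ.range) : P)) e :))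
    rw [Nat.card_prod] at h2
    have h3 : Nat.card A = Nat.card (Z2 × R) := by
      refine (Nat.card_congr (Equiv.ofBijective
        (fun p : Z2 × R => (⟨(if p.1 = 1 then 1 else Δ.t) * s p.2, by
          refine ⟨p.2, ?_⟩
          split_ifs
          · exact Or.inl (one_mul _)
          · exact Or.inr rfl⟩ : A)) ⟨?_, ?_⟩)).symm
      · have hinj : ∀ a b : R, s a = s b → a = b := fun a b e => by
          have := Δ.pr_s hs a (Δ.s_L hs a)
          rw [show (⟨s a, Δ.s_L hs a⟩ : Δ.L) = ⟨s b, Δ.s_L hs b⟩ from Subtype.ext e, Δ.pr_s hs] at this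
          exact Subtype.ext (congrArg Prod.snd this).symm
        rintro ⟨z, a⟩ ⟨z', b⟩ e
        have e' := congrArg Subtype.val e
        simp only [] at e'
        rcases Z2_cases z with rfl | rfl <;> rcases Z2_cases z' with rfl | rfl <;>
          simp only [g1_ne, if_true, if_false, one_mul] at e'
        · rw [hinj a b e']
        · exact absurd e'.symm (Δ.ts_ne hs _ _)
        · exact absurd e' (Δ.ts_ne hs _ _)
        · rw [hinj a b (mul_left_cancel e')]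
      · rintro ⟨x, a, rfl | rfl⟩
        · exact ⟨(1, a), Subtype.ext (by simp)⟩
        · exact ⟨(g1, a), Subtype.ext (by simp [g1_ne])⟩
    rw [h3, Nat.card_prod]
    exact h2.trans (Nat.mul_le_mul_left _ h1)
  obtain ⟨g, hg, hg'⟩ := conj_into hAL hA2 hmax hQ (Δ.two_group_L hQ hQt)
  exact ⟨g, Δ.L_t g hg, fun x hx => hg' x hx⟩

end Lift

end Model

end Cfsg.Lib.TwoTimesPSL
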