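/-
The three cases `q` even, `q ≡ 3, 5` and `q ≡ 1, 7` modulo 8.
-/
import Mathlib
import Cfsg.Agent.TwoTimesPSL.Model
import Cfsg.Agent.TwoTimesPSL.ElemMain
import Cfsg.Agent.TwoTimesPSL.DihedralMain
import Cfsg.Agent.Components.BGN.PSL
import Cfsg.Agent.Classical.PSLTwoDihedral
import Cfsg.Agent.S0276

set_option autoImplicit false
set_option linter.unusedSectionVars false
set_option linter.style.haveILetI false

namespace Cfsg.Lib.TwoTimesPSL

open Subgroup Cfsg.Lib.Known.AutPSL2

variable {G : Type*} [Group G] [Finite G]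

section PSL

variable {F : Type*} [Field F] [Fintype F]

local notation "S₂" => Matrix.SpecialLinearGroup (Fin 2) F
local notation "P₂" => Matrix.ProjectiveSpecialLinearGroup (Fin 2) F

theorem sylow_max {K : Type*} [Group K] [Finite K] (U : Sylow 2 K) (W : Subgroup K)
    (hW : IsPGroup 2 W) : Nat.card W ≤ Nat.card (U : Subgroup K) := by
  haveI : Fact (Nat.Prime 2) := ⟨Nat.prime_two⟩
  obtain ⟨V, hV⟩ := hW.exists_le_sylow
  rw [U.card_eq_multiplicity, ← V.card_eq_multiplicity]
  exact Nat.le_of_dvd Nat.card_pos (Subgroup.card_dvd_of_le hV)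

theorem key_conj {g : S₂} (hc : (g : Matrix (Fin 2) (Fin 2) F) 1 0 = 0) (x : F) :
    π g * π (uS x) * (π g)⁻¹ = π (uS (g.1 0 0 ^ 2 * x)) := by
  rw [← map_inv, ← map_mul, ← map_mul]
  congr 1
  refine sl_ext ?_
  rw [conj_uS, coe_uS, hc]
  simp

variable (Δ : Model G (Matrix.ProjectiveSpecialLinearGroup (Fin 2) F))

theorem normE_aux {R : Subgroup P₂} {s : R →* G}
    (hs : ∀ r, ∃ h : s r ∈ Δ.L, Δ.pr ⟨s r, h⟩ = (1, (r : P₂))) {g : G} (hg : Commute g Δ.t) (r r' : R) :
    g * s r * g⁻¹ ≠ Δ.t * s r' := by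
  intro e
  obtain ⟨α, hα⟩ := Δ.act g hg
  have hx' := Δ.norm g hg _ (Δ.s_L hs r)
  have h := hα _ (Δ.s_L hs r) hx' (by rw [Δ.pr_s hs])
  rw [show (⟨g * s r * g⁻¹, hx'⟩ : Δ.L) = ⟨Δ.t, Δ.t_L⟩ * ⟨s r', Δ.s_L hs r'⟩ from Subtype.ext e,
    map_mul, Δ.pr_t, Δ.pr_s hs] at h
  have h1 := congrArg Prod.fst h
  simp only [Prod.fst_mul, mul_one] at h1
  exact g1_ne h1

theorem act_aut {g : G} (hg : Commute g Δ.t) :
    ∃ α : MulAut P₂, ∀ (x : G) (hx : x ∈ Δ.L) (hx' : g * x * g⁻¹ ∈ Δ.L),
      (Δ.pr ⟨x, hx⟩).1 = 1 → Δ.pr ⟨g * x * g⁻¹, hx'⟩ = (1, α (Δ.pr ⟨x, hx⟩).2) := by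
  obtain ⟨α, hα⟩ := Δ.act g hg
  obtain ⟨β, hβ⟩ := Δ.act g⁻¹ hg.inv_left
  have hinj : Function.Injective α := by
    refine Function.LeftInverse.injective (g := β) fun p => ?_
    obtain ⟨⟨x, hx⟩, hp⟩ := Δ.surj (1, p)
    have hy := Δ.norm g hg x hx
    have h1 := hα x hx hy (by rw [hp])
    rw [hp] at h1
    have hz : g⁻¹ * (g * x * g⁻¹) * g⁻¹⁻¹ ∈ Δ.L := by
      rw [show g⁻¹ * (g * x * g⁻¹) * g⁻¹⁻¹ = x by group]
      exact hx
    have h2 := hβ _ hy hz (by rw [h1])
    rw [h1] at h2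
    rw [show (⟨_, hz⟩ : Δ.L) = ⟨x, hx⟩ from Subtype.ext (by group), hp] at h2
    exact (congrArg Prod.snd h2).symm
  exact ⟨MulEquiv.ofBijective α ⟨hinj, Finite.surjective_of_injective hinj⟩, hα⟩

include Δ in
theorem even_case [IsSimpleGroup G] (hG : ¬ IsMulCommutative G) {n : ℕ} (hn : 2 ≤ n)
    (hF : Fintype.card F = 2 ^ n) (T : Sylow 2 G) :
    Nat.card (T : Subgroup G) = 8 ∧ ∀ x ∈ (T : Subgroup G), x ^ 2 = 1 := by
  classical
  haveI : Fact (Nat.Prime 2) := ⟨Nat.prime_two⟩
  haveI : CharP F 2 := charP_of_card_eq_prime_pow hF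
  letI : Algebra (ZMod 2) F := ZMod.algebra F 2
  obtain ⟨U, hU⟩ := exists_sylow_u (F := F) 2 (by omega : 1 ≤ n) hF
  set R := (u (F := F)).range with hR
  have hR2 : IsPGroup 2 R := hU ▸ U.isPGroup'
  obtain ⟨s, hs, hsinj⟩ := Δ.exists_lift hR2
  let r : F → R := fun x => ⟨π (uS x), Multiplicative.ofAdd x, rfl⟩
  have hr : ∀ z : R, ∃ x, z = r x := by
    rintro ⟨_, x, rfl⟩
    exact ⟨x.toAdd, rfl⟩
  have hab : ∀ a b : R, a * b = b * a := by
    intro a b
    obtain ⟨x, rfl⟩ := hr a
    obtain ⟨y, rfl⟩ := hr b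
    exact Subtype.ext (by
      show π (uS x) * π (uS y) = π (uS y) * π (uS x)
      rw [← map_mul, ← map_mul, ← uS_add, ← uS_add, add_comm])
  haveI : IsCyclic Fˣ := inferInstance
  obtain ⟨ω, hω⟩ := IsCyclic.exists_generator (α := Fˣ)
  obtain ⟨b, hb⟩ : ∃ b : F, b * b = (ω : F) := by
    refine Finite.surjective_of_injective (f := fun b : F => b * b) (fun a b e => ?_) _
    have e' : a * a = b * b := e
    have h : (a - b) * (a - b) = 0 := by
      linear_combination e' + (b * b - a * b) * (CharTwo.two_eq_zero : (2 : F) = 0)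
    exact sub_eq_zero.1 (mul_self_eq_zero.1 h)
  have hb0 : b ≠ 0 := fun e => ω.ne_zero (by rw [← hb, e, mul_zero])
  let m : S₂ := ⟨!![b, 0; 0, b⁻¹], by rw [Matrix.det_fin_two_of, mul_inv_cancel₀ hb0, mul_zero, sub_zero]⟩
  have hm : ∀ x, π m * π (uS x) * (π m)⁻¹ = π (uS ((ω : F) * x)) := fun x => by
    rw [key_conj (show (m : Matrix (Fin 2) (Fin 2) F) 1 0 = 0 by simp [m])]
    have : (m : Matrix (Fin 2) (Fin 2) F) 0 0 = b := by simp [m]
    rw [this, pow_two, hb]
  have hmR : ∀ z ∈ R, π m * z * (π m)⁻¹ ∈ R := by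
    rintro _ ⟨x, rfl⟩
    exact ⟨Multiplicative.ofAdd _, (hm x.toAdd).symm⟩
  obtain ⟨τ, hτt, hτ⟩ := Δ.lift_norm hs hR2 hab hmR
  let Φ : ElemFrame G F :=
    { t := Δ.t
      θ := fun x => s (r x)
      n := n
      ω := ω
      τ := τ
      two_le := hn
      card := by rw [Nat.card_eq_fintype_card, hF]
      char2 := CharTwo.two_eq_zero
      gen := fun x hx => by
        obtain ⟨j, hj⟩ := mem_powers_iff_mem_zpowers.2 (hω (Units.mk0 x hx))
        exact ⟨j, by rw [← Units.val_pow_eq_pow_val, show ω ^ j = Units.mk0 x hx from hj, Units.val_mk0]⟩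
      ht := Δ.ht
      θ_add := fun x y => by
        rw [← map_mul]
        exact congrArg s (Subtype.ext (by
          show π (uS (x + y)) = π (uS x) * π (uS y)
          rw [uS_add, map_mul]))
      θ_inj := fun x y e => uS_injective_π (congrArg Subtype.val (hsinj e))
      t_not := fun x => Δ.s_ne_t hs _
      t_comm := fun x => Δ.s_comm hs _
      sylC := fun Q hQ hQt => by
        obtain ⟨g, hg, hg'⟩ := Δ.sylC hs hR2
          (fun W hW => by rw [← hU]; exact sylow_max U W hW) hQ hQt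
        refine ⟨g, hg, fun x hx => ?_⟩
        obtain ⟨z, hz⟩ := hg' x hx
        obtain ⟨y, rfl⟩ := hr z
        exact ⟨y, hz⟩
      τ_comm := hτt
      τ_act := fun x => by
        rw [hτ]
        exact congrArg s (Subtype.ext (hm x))
      normE := fun g hg h x => by
        obtain ⟨y, e | e⟩ := h x
        · exact ⟨y, e⟩
        · exact absurd e (normE_aux Δ hs hg _ _)
      semi := fun _ g hg h => by
        obtain ⟨α, hα⟩ := act_aut Δ hg
        have hαu : ∀ x, ∃ y, α (π (uS x)) = π (uS y) ∧ g * s (r x) * g⁻¹ = s (r y) := fun x => by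
          obtain ⟨y, hy⟩ := h x
          refine ⟨y, ?_, hy⟩
          have hx' := Δ.norm g hg _ (Δ.s_L hs (r x))
          have h1 := hα _ (Δ.s_L hs (r x)) hx' (by rw [Δ.pr_s hs])
          rw [Δ.pr_s hs, show (⟨g * s (r x) * g⁻¹, hx'⟩ : Δ.L) = ⟨s (r y), Δ.s_L hs _⟩ from
            Subtype.ext hy, Δ.pr_s hs] at h1
          exact (congrArg Prod.snd h1).symm
        obtain ⟨k, a, σ, hdec⟩ := exists_decomp 2 (by omega : 1 ≤ n) hF α
        obtain ⟨k, rfl⟩ := QuotientGroup.mk_surjective k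
        have hα' : ∀ x, α (π (uS x)) = π k * π (uS ((a : F) * σ x)) * (π k)⁻¹ := fun x => by
          rw [hdec, MulAut.mul_apply, MulAut.mul_apply, fieldAut_u, diagAut_u]
          rfl
        have hk : (k : Matrix (Fin 2) (Fin 2) F) 1 0 = 0 := by
          obtain ⟨y, hy, -⟩ := hαu 1
          rw [hα', map_one, mul_one, ← map_inv, ← map_mul, ← map_mul] at hy
          have h10 := π_eq_apply hy.symm 1 0 (by simp [coe_uS])
          rw [conj_uS] at h10
          simp at h10
          exact h10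
        refine ⟨k.1 0 0 ^ 2 * a, σ.toRingEquiv, fun x => ?_⟩
        obtain ⟨y, hy, hgy⟩ := hαu x
        show g * s (r x) * g⁻¹ = s (r _)
        rw [hgy]
        rw [hα', key_conj hk] at hy
        rw [← uS_injective_π hy, mul_assoc]
        rfl }
  exact Φ.sylow_eight hG T

include Δ in
theorem klein_case [IsSimpleGroup G] (hG : ¬ IsMulCommutative G)
    (hq : Fintype.card F % 8 = 3 ∨ Fintype.card F % 8 = 5) (T : Sylow 2 G) :
    Nat.card (T : Subgroup G) = 8 ∧ ∀ x ∈ (T : Subgroup G), x ^ 2 = 1 := by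
  classical
  haveI : Fact (Nat.Prime 2) := ⟨Nat.prime_two⟩
  obtain ⟨Q⟩ : Nonempty (Sylow 2 P₂) := inferInstance
  haveI hK : IsKleinFour (Q : Subgroup P₂) := Cfsg.Agent.S0276.result rfl hq Q
  set R := (Q : Subgroup P₂) with hR
  haveI := Fintype.ofFinite R
  have hsq : ∀ a : R, a * a = 1 := IsKleinFour.mul_self
  have hab : ∀ a b : R, a * b = b * a := fun a b => by
    rw [← IsKleinFour.inv_eq_self (a * b), mul_inv_rev, IsKleinFour.inv_eq_self a,
      IsKleinFour.inv_eq_self b]
  obtain ⟨a, -, ha⟩ := Finset.exists_mem_notMem_of_card_lt_card (s := ({1} : Finset R))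
    (t := Finset.univ) (by
      rw [Finset.card_singleton, Finset.card_univ, ← Nat.card_eq_fintype_card, IsKleinFour.card_four]
      norm_num)
  obtain ⟨b, -, hb⟩ := Finset.exists_mem_notMem_of_card_lt_card (s := ({1, a} : Finset R))
    (t := Finset.univ) (by
      rw [Finset.card_univ, ← Nat.card_eq_fintype_card, IsKleinFour.card_four]
      have : ({1, a} : Finset R).card ≤ 2 := Finset.card_le_two
      omega)
  simp only [Finset.mem_insert, Finset.mem_singleton, not_or] at ha hb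
  have hall : ∀ x : R, x = 1 ∨ x = a ∨ x = b ∨ x = a * b := fun x => by
    have h := Finset.mem_univ x
    rw [← IsKleinFour.eq_finset_univ ha hb.1 (Ne.symm hb.2)] at h
    simp only [Finset.mem_insert, Finset.mem_singleton] at h
    tauto
  have hab1 : a * b ≠ 1 := fun e => hb.2 (by rw [← mul_left_cancel (e.trans (hsq a).symm)])
  have haba : a * b ≠ a := fun e => hb.1 (mul_left_cancel (e.trans (mul_one a).symm))
  have habb : a * b ≠ b := fun e => ha (mul_right_cancel (e.trans (one_mul b).symm))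
  -- conjugacy in the normalizer
  haveI : IsMulCommutative (Q : Subgroup P₂) := ⟨⟨hab⟩⟩
  have hord : ∀ x : R, x ≠ 1 → orderOf (x : P₂) = 2 := fun x hx => by
    rw [Subgroup.orderOf_coe]
    exact orderOf_eq_prime (by rw [pow_two, hsq]) hx
  have hnorm : ∀ x y : R, x ≠ 1 → y ≠ 1 →
      ∃ m ∈ normalizer (R : Set P₂), m * (x : P₂) * m⁻¹ = y := by
    intro x y hx hy
    obtain ⟨g, hg⟩ := isConj_iff.1
      (Cfsg.Lib.PSLTwoDihedral.involution_conj (by omega) (hord x hx) (hord y hy))
    obtain ⟨m, hm, e⟩ := Q.conj_eq_normalizer_conj_of_mem (x : P₂) g⁻¹ x.2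
      (by rw [inv_inv, hg]; exact y.2)
    rw [inv_inv, hg] at e
    exact ⟨m⁻¹, inv_mem hm, by rw [inv_inv]; exact e.symm⟩
  let cj : normalizer (R : Set P₂) → R → R := fun m x =>
    ⟨(m : P₂) * x * (m : P₂)⁻¹, (Subgroup.mem_normalizer_iff.1 m.2 _).1 x.2⟩
  have cj_mul : ∀ m x y, cj m (x * y) = cj m x * cj m y := fun m x y => Subtype.ext (by
    show (m : P₂) * (x * y : R) * (m : P₂)⁻¹ = _
    push_cast
    simp only [cj, Subgroup.coe_mul]
    group)
  have cj_comp : ∀ m m' x, cj (m * m') x = cj m (cj m' x) := fun m m' x => Subtype.ext (by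
    simp only [cj, Subgroup.coe_mul]
    group)
  have cj_inj : ∀ m, Function.Injective (cj m) := fun m x y e => Subtype.ext
    (mul_left_cancel (mul_right_cancel (congrArg Subtype.val e :)))
  have cj_one : ∀ m, cj m 1 = 1 := fun m => Subtype.ext (by simp [cj])
  have hcyc : ∃ m : normalizer (R : Set P₂), cj m a = b ∧ cj m b = a * b := by
    obtain ⟨m1, hm1, e1⟩ := hnorm a b ha hb.1
    obtain ⟨m2, hm2, e2⟩ := hnorm a (a * b) ha hab1
    set n1 : normalizer (R : Set P₂) := ⟨m1, hm1⟩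
    set n2 : normalizer (R : Set P₂) := ⟨m2, hm2⟩
    have f1 : cj n1 a = b := Subtype.ext e1
    have f2 : cj n2 a = a * b := Subtype.ext e2
    rcases hall (cj n1 b) with e | e | e | e
    · exact absurd (cj_inj n1 (e.trans (cj_one n1).symm)) hb.1
    · -- `n1` exchanges `a` and `b`
      rcases hall (cj n2 b) with e' | e' | e' | e'
      · exact absurd (cj_inj n2 (e'.trans (cj_one n2).symm)) hb.1
      · refine ⟨n2 * n2, ?_, ?_⟩
        · rw [cj_comp, f2, cj_mul, f2, e', hab (a * b) a, ← mul_assoc, hsq, one_mul]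
        · rw [cj_comp, e', f2]
      · refine ⟨n2 * n1, ?_, ?_⟩
        · rw [cj_comp, f1, e']
        · rw [cj_comp, e, f2]
      · exact absurd (cj_inj n2 (e'.trans f2.symm)) hb.2
    · exact absurd (cj_inj n1 (e.trans f1.symm)) hb.2
    · exact ⟨n1, f1, e⟩
  obtain ⟨m, hma, hmb⟩ := hcyc
  obtain ⟨s, hs, hsinj⟩ := Δ.exists_lift Q.isPGroup'
  obtain ⟨τ, hτt, hτ⟩ := Δ.lift_norm hs Q.isPGroup' hab
    (m := (m : P₂)) fun x hx => (Subgroup.mem_normalizer_iff.1 m.2 x).1 hx
  -- the field with four elements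
  let K := GaloisField 2 2
  haveI : Fintype K := Fintype.ofFinite K
  have hK4 : Nat.card K = 2 ^ 2 := GaloisField.card 2 2 (by norm_num)
  haveI : CharP K 2 := inferInstance
  obtain ⟨ω, -, hω⟩ := Finset.exists_mem_notMem_of_card_lt_card (s := ({0, 1} : Finset K))
    (t := Finset.univ) (by
      rw [Finset.card_univ, ← Nat.card_eq_fintype_card, hK4]
      have : ({0, 1} : Finset K).card ≤ 2 := Finset.card_le_two
      omega)
  simp only [Finset.mem_insert, Finset.mem_singleton, not_or] at hω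
  have hω1 : ω + 1 ≠ 0 := fun e => hω.2 (CharTwo.add_eq_zero.1 e)
  have hω2 : ω + 1 ≠ 1 := fun e => hω.1 (by linear_combination e)
  have hω3 : ω + 1 ≠ ω := fun e => one_ne_zero (by linear_combination e : (1 : K) = 0)
  have hKall : ∀ x : K, x = 0 ∨ x = 1 ∨ x = ω ∨ x = ω + 1 := by
    intro x
    have huniv : ({0, 1, ω, ω + 1} : Finset K) = Finset.univ := by
      refine Finset.eq_univ_of_card _ ?_
      rw [← Nat.card_eq_fintype_card, hK4, Finset.card_insert_of_notMem
          (by simp [Ne.symm hω.1, hω1.symm]),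
        Finset.card_insert_of_notMem (by simp [Ne.symm hω.2, hω2.symm]),
        Finset.card_insert_of_notMem (by simpa using hω3.symm), Finset.card_singleton]
      norm_num
    have := huniv ▸ Finset.mem_univ x
    simpa using this
  have hsq2 : ω * ω = ω + 1 := by
    rcases hKall (ω * ω) with e | e | e | e
    · exact absurd (mul_self_eq_zero.1 e) hω.1
    · exact absurd (sub_eq_zero.1 (mul_self_eq_zero.1 (show (ω - 1) * (ω - 1) = 0 by
        linear_combination e + (1 - ω) * (CharTwo.two_eq_zero : (2 : K) = 0)))) hω.2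
    · exact absurd (mul_left_cancel₀ hω.1 (e.trans (mul_one ω).symm)) hω.2
    · exact e
  let r : K → R := fun x => if x = 0 then 1 else if x = 1 then a else if x = ω then b else a * b
  have r0 : r 0 = 1 := if_pos rfl
  have r1 : r 1 = a := by simp [r]
  have rω : r ω = b := by simp [r, hω.1, hω.2]
  have rω1 : r (ω + 1) = a * b := by simp [r, hω1, hω2, hω3]
  have hd : ∀ y : K, y + y = 0 := CharTwo.add_self_eq_zero
  have radd : ∀ x y : K, r (x + y) = r x * r y := by
    intro x y
    rcases hKall x with h1 | h1 | h1 | h1 <;> rcases hKall y with h2 | h2 | h2 | h2 <;> rw [h1, h2]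
    all_goals first
      | (rw [zero_add, r0, one_mul])
      | (rw [add_zero, r0, mul_one])
      | (rw [hd, r0, hsq])
      | (rw [add_comm, rω1, r1, rω])
      | (rw [add_comm, rω1, r1, rω, hab])
      | (rw [rω1, r1, rω, hab])
      | (rw [show (1 : K) + (ω + 1) = ω by linear_combination hd 1, rω, r1, rω1, ← mul_assoc, hsq,
          one_mul])
      | (rw [show ω + 1 + (1 : K) = ω by linear_combination hd 1, rω, r1, rω1, hab (a * b) a,
          ← mul_assoc, hsq, one_mul])
      | (rw [show ω + (ω + 1) = (1 : K) by linear_combination hd ω, r1, rω, rω1, hab a b, ← mul_assoc,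
          hsq, one_mul])
      | (rw [show ω + 1 + ω = (1 : K) by linear_combination hd ω, r1, rω, rω1, mul_assoc, hsq,
          mul_one])
  have rinj : Function.Injective r := by
    intro x y e
    rcases hKall x with rfl | rfl | rfl | rfl <;> rcases hKall y with rfl | rfl | rfl | rfl <;>
      simp only [r0, r1, rω, rω1] at e <;>
      first
        | rfl
        | exact absurd e ha | exact absurd e.symm ha
        | exact absurd e hb.1 | exact absurd e.symm hb.1
        | exact absurd e hb.2 | exact absurd e.symm hb.2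
        | exact absurd e hab1 | exact absurd e.symm hab1
        | exact absurd e haba | exact absurd e.symm haba
        | exact absurd e habb | exact absurd e.symm habb
  have rsurj : ∀ z : R, ∃ x, r x = z := fun z => by
    rcases hall z with rfl | rfl | rfl | rfl
    · exact ⟨0, r0⟩
    · exact ⟨1, r1⟩
    · exact ⟨ω, rω⟩
    · exact ⟨ω + 1, rω1⟩
  have hmab : cj m (a * b) = a := by
    rw [cj_mul, hma, hmb, hab a b, ← mul_assoc, hsq, one_mul]
  let Φ : ElemFrame G K :=
    { t := Δ.t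
      θ := fun x => s (r x)
      n := 2
      ω := ω
      τ := τ
      two_le := le_rfl
      card := hK4
      char2 := CharTwo.two_eq_zero
      gen := fun x hx => by
        rcases hKall x with h | h | h | h
        · exact absurd h hx
        · exact ⟨0, by rw [pow_zero, h]⟩
        · exact ⟨1, by rw [pow_one, h]⟩
        · exact ⟨2, by rw [pow_two, hsq2, h]⟩
      ht := Δ.ht
      θ_add := fun x y => by rw [radd, map_mul]
      θ_inj := fun x y e => rinj (hsinj e)
      t_not := fun x => Δ.s_ne_t hs _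
      t_comm := fun x => Δ.s_comm hs _
      sylC := fun W hW hWt => by
        obtain ⟨g, hg, hg'⟩ := Δ.sylC hs Q.isPGroup' (sylow_max Q) hW hWt
        refine ⟨g, hg, fun x hx => ?_⟩
        obtain ⟨z, hz⟩ := hg' x hx
        obtain ⟨y, rfl⟩ := rsurj z
        exact ⟨y, hz⟩
      τ_comm := hτt
      τ_act := fun x => by
        rw [hτ]
        refine congrArg s ?_
        show cj m (r x) = r (ω * x)
        rcases hKall x with h | h | h | h <;> rw [h]
        · rw [mul_zero, r0, cj_one]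
        · rw [mul_one, r1, rω, hma]
        · rw [hsq2, rω, rω1, hmb]
        · rw [show ω * (ω + 1) = (1 : K) by linear_combination hsq2 + hd ω, r1, rω1, hmab]
      normE := fun g hg h x => by
        obtain ⟨y, e | e⟩ := h x
        · exact ⟨y, e⟩
        · exact absurd e (normE_aux Δ hs hg _ _)
      semi := fun h3 => absurd h3 (by norm_num) }
  exact Φ.sylow_eight hG T

theorem dihedral_case [IsSimpleGroup G] (hG : ¬ IsMulCommutative G)
    (hq : Fintype.card F % 8 = 1 ∨ Fintype.card F % 8 = 7)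
    (Δ : Model G (Matrix.ProjectiveSpecialLinearGroup (Fin 2) F)) : False := by
  classical
  haveI : Fact (Nat.Prime 2) := ⟨Nat.prime_two⟩
  have hodd : Fintype.card F % 2 = 1 := by omega
  have h16 : 16 ∣ Fintype.card F ^ 2 - 1 := by
    obtain ⟨k, hk⟩ : ∃ k, Fintype.card F = 8 * k + 1 ∨ Fintype.card F = 8 * k + 7 :=
      ⟨Fintype.card F / 8, by omega⟩
    rcases hk with e | e
    · exact ⟨4 * k * k + k, by rw [e, show (8 * k + 1) ^ 2 = 16 * (4 * k * k + k) + 1 by ring,
        Nat.add_sub_cancel]⟩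
    · exact ⟨4 * k * k + 7 * k + 3, by
        rw [e, show (8 * k + 7) ^ 2 = 16 * (4 * k * k + 7 * k + 3) + 1 by ring, Nat.add_sub_cancel]⟩
  obtain ⟨Q⟩ : Nonempty (Sylow 2 P₂) := inferInstance
  obtain ⟨c, d, n, hgen⟩ := Cfsg.Lib.PSLTwoDihedral.exists_isGen hodd h16 Q
  obtain ⟨s, hs, hsinj⟩ := Δ.exists_lift Q.isPGroup'
  have hcQ : c ∈ (Q : Subgroup P₂) := hgen.mem_iff.2 (Or.inl (mem_zpowers c))
  have hdQ : d ∈ (Q : Subgroup P₂) := hgen.mem_iff.2 (Or.inr ⟨0, by simp⟩)
  let c' : (Q : Subgroup P₂) := ⟨c, hcQ⟩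
  let d' : (Q : Subgroup P₂) := ⟨d, hdQ⟩
  have hform : ∀ r : (Q : Subgroup P₂), ∃ i : ℤ, s r = s c' ^ i ∨ s r = s c' ^ i * s d' := by
    intro r
    rcases hgen.mem_iff.1 r.2 with ⟨i, hi⟩ | ⟨i, hi⟩
    · refine ⟨i, Or.inl ?_⟩
      rw [← map_zpow]
      exact congrArg s (Subtype.ext hi.symm)
    · refine ⟨i, Or.inr ?_⟩
      rw [← map_zpow, ← map_mul]
      exact congrArg s (Subtype.ext hi)
  let Φ : DihFrame G :=
    { t := Δ.t
      c := s c'
      s := s d'
      n := n
      two_le := hgen.two_le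
      ht := Δ.ht
      hc := by
        rw [orderOf_injective s hsinj, ← Subgroup.orderOf_coe]
        exact hgen.order
      hs := by
        rw [← map_mul, show d' * d' = 1 from Subtype.ext hgen.invol, map_one]
      hinv := by
        rw [← map_inv, ← map_mul, ← map_mul, ← map_inv]
        exact congrArg s (Subtype.ext hgen.inv)
      hsc := by
        rintro ⟨i, hi⟩
        refine hgen.notMem ⟨i, ?_⟩
        have hi' : s (c' ^ i) = s d' := (map_zpow s c' i).trans hi
        exact congrArg Subtype.val (hsinj hi')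
      htc := Δ.s_comm hs _
      hts := Δ.s_comm hs _
      htD := fun i => ⟨fun e => Δ.s_ne_t hs (c' ^ i) (by rw [map_zpow]; exact e.symm),
        fun e => Δ.s_ne_t hs (c' ^ i * d') (by rw [map_mul, map_zpow]; exact e.symm)⟩
      conjD := fun x y hx hy hxo hyo => by
        have hmem : ∀ z, (z ∈ zpowers (s c') ∨ ∃ i : ℤ, z = s c' ^ i * s d') → ∃ r, s r = z := by
          rintro z (⟨i, rfl⟩ | ⟨i, rfl⟩)
          · exact ⟨c' ^ i, map_zpow s c' i⟩
          · exact ⟨c' ^ i * d', by rw [map_mul, map_zpow]⟩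
        obtain ⟨r, rfl⟩ := hmem x hx
        obtain ⟨r', rfl⟩ := hmem y hy
        rw [orderOf_injective s hsinj] at hxo hyo
        refine Δ.conj_involutions hs ?_ ?_ (Cfsg.Lib.PSLTwoDihedral.involution_conj hodd
          (by rw [Subgroup.orderOf_coe]; exact hxo) (by rw [Subgroup.orderOf_coe]; exact hyo))
        · have := pow_orderOf_eq_one r
          rwa [hxo, pow_two] at this
        · have := pow_orderOf_eq_one r'
          rwa [hyo, pow_two] at this
      sylC := fun W hW hWt => by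
        obtain ⟨g, hg, hg'⟩ := Δ.sylC hs Q.isPGroup' (sylow_max Q) hW hWt
        refine ⟨g, hg, fun x hx => ?_⟩
        obtain ⟨z, hz⟩ := hg' x hx
        obtain ⟨i, hi⟩ := hform z
        rcases hz with e | e <;> rcases hi with e' | e'
        · exact ⟨1, Or.inl rfl, i, Or.inl (by rw [e, e', one_mul])⟩
        · exact ⟨1, Or.inl rfl, i, Or.inr (by rw [e, e', one_mul])⟩
        · exact ⟨Δ.t, Or.inr rfl, i, Or.inl (by rw [e, e'])⟩
        · exact ⟨Δ.t, Or.inr rfl, i, Or.inr (by rw [e, e'])⟩ }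
  exact Φ.false_of_simple hG

end PSL

end Cfsg.Lib.TwoTimesPSL
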