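/-
The model of the centralizer from the hypothesis on `O^{2'}(C(t)/O(C(t)))`, and the final statement.
-/
import Mathlib
import Cfsg.Agent.TwoTimesPSL.Cases

set_option autoImplicit false
set_option linter.unusedSectionVars false
set_option linter.style.haveILetI false

namespace Cfsg.Lib.TwoTimesPSL

open Subgroup Cfsg.Lib.Known.AutPSL2

variable {F : Type*} [Field F] [Fintype F]

local notation "P₂" => Matrix.ProjectiveSpecialLinearGroup (Fin 2) F

theorem psl_noncomm : ¬ IsMulCommutative P₂ := by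
  intro h
  have e : π (uS (1 : F) * vS 1) = π (vS (1 : F) * uS 1) := by
    rw [map_mul, map_mul]
    exact mul_comm' _ _
  obtain ⟨c, -, hc⟩ := π_eq e
  rw [cmul, cmul, coe_uS, coe_vS] at hc
  have h00 := congrFun (congrFun hc 0) 0
  have h01 := congrFun (congrFun hc 0) 1
  simp [Matrix.mul_apply, Fin.sum_univ_two] at h00 h01
  rw [← h01, one_mul] at h00
  exact one_ne_zero (α := F) (by linear_combination -h00)

/-- A homomorphism from a non-abelian simple group to a commutative group is trivial. -/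
theorem hom_trivial {K M : Type*} [Group K] [CommGroup M] [IsSimpleGroup K]
    (hK : ¬ IsMulCommutative K) (f : K →* M) (x : K) : f x = 1 := by
  rcases (inferInstance : f.ker.Normal).eq_bot_or_eq_top with e | e
  · exfalso
    refine hK ⟨⟨fun a b => (MonoidHom.ker_eq_bot_iff f).1 e ?_⟩⟩
    rw [map_mul, map_mul, mul_comm]
  · exact MonoidHom.mem_ker.1 (e ▸ Subgroup.mem_top x)

theorem center_trivial {K : Type*} [Group K] [IsSimpleGroup K] (hK : ¬ IsMulCommutative K) {x : K}
    (h : ∀ y, Commute x y) : x = 1 := by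
  rcases (inferInstance : (center K).Normal).eq_bot_or_eq_top with e | e
  · exact Subgroup.mem_bot.1 (e ▸ Subgroup.mem_center_iff.2 fun y => (h y).symm)
  · exfalso
    exact hK ⟨⟨fun a b =>
      (Subgroup.mem_center_iff.1 (e ▸ Subgroup.mem_top a : a ∈ center K) b).symm⟩⟩

variable {G : Type*} [Group G] [Finite G]

theorem exists_model {P : Type*} [Group P] [Finite P] [IsSimpleGroup P] (hP : ¬ IsMulCommutative P)
    (t : G) (ht : orderOf t = 2)
    (hL : Nonempty (↥(Subgroup.closure {x : (↥(Subgroup.centralizer ({t} : Set G)) ⧸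
      Cfsg.oddCore ↥(Subgroup.centralizer ({t} : Set G))) | ∃ k : ℕ, orderOf x = 2 ^ k}) ≃*
      (Z2 × P))) : Nonempty (Model G P) := by
  classical
  obtain ⟨ι⟩ := hL
  set C := Subgroup.centralizer ({t} : Set G) with hC
  set O := Cfsg.oddCore ↥C with hO
  set Lb := Subgroup.closure {x : ↥C ⧸ O | ∃ k : ℕ, orderOf x = 2 ^ k} with hLb
  let q : ↥C →* ↥C ⧸ O := QuotientGroup.mk' O
  let L : Subgroup G := (Lb.comap q).map C.subtype
  have hLC : L ≤ C := Subgroup.map_subtype_le _
  have hmem : ∀ x : L, q (Subgroup.inclusion hLC x) ∈ Lb := by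
    rintro ⟨_, x, hx, rfl⟩
    exact hx
  let pr : L →* Z2 × P :=
    ι.toMonoidHom.comp ((q.comp (Subgroup.inclusion hLC)).codRestrict Lb hmem)
  have hLb2 : ∀ x : G, IsTwoEl x → ∀ hx : x ∈ C, q ⟨x, hx⟩ ∈ Lb := by
    rintro x ⟨i, hi⟩ hx
    refine Subgroup.subset_closure ?_
    have h1 : orderOf (q ⟨x, hx⟩) ∣ 2 ^ i := orderOf_dvd_of_pow_eq_one (by
      rw [← map_pow, show (⟨x, hx⟩ : C) ^ 2 ^ i = 1 from Subtype.ext hi, map_one])
    obtain ⟨j, -, hj⟩ := (Nat.dvd_prime_pow Nat.prime_two).1 h1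
    exact ⟨j, hj⟩
  have htC : t ∈ C := Subgroup.mem_centralizer_singleton_iff.2 rfl
  have hL2 : ∀ x : G, IsTwoEl x → Commute x t → x ∈ L := fun x hx hc =>
    ⟨⟨x, Subgroup.mem_centralizer_singleton_iff.2 hc.eq⟩, hLb2 x hx _, rfl⟩
  have hOodd : Odd (Nat.card O) := Cfsg.Lib.ZStarApps.odd_card_pPrimeCore
  have hLbN : Lb.Normal := by
    refine ⟨fun n hn g => ?_⟩
    induction hn using Subgroup.closure_induction with
    | mem x hx =>
      obtain ⟨k, hk⟩ := hx
      exact Subgroup.subset_closure ⟨k, ((MulAut.conj g).orderOf_eq x).trans hk⟩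
    | one => simp
    | mul a b _ _ ha hb =>
      rw [show g * (a * b) * g⁻¹ = g * a * g⁻¹ * (g * b * g⁻¹) by group]
      exact mul_mem ha hb
    | inv a _ ha =>
      rw [show g * a⁻¹ * g⁻¹ = (g * a * g⁻¹)⁻¹ by group]
      exact inv_mem ha
  refine ⟨{ t := t
            ht := ht
            L := L
            pr := pr
            L_t := fun x hx => Subgroup.mem_centralizer_singleton_iff.1 (hLC hx)
            twoEl_L := hL2
            norm := ?_
            surj := ?_
            odd := ?_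
            pr_t := ?_
            act := ?_ }⟩
  · intro c hc x hx
    obtain ⟨x', hx', rfl⟩ := hx
    refine ⟨⟨c, Subgroup.mem_centralizer_singleton_iff.2 hc.eq⟩ * x' *
      (⟨c, Subgroup.mem_centralizer_singleton_iff.2 hc.eq⟩ : C)⁻¹, ?_, rfl⟩
    show q _ ∈ Lb
    rw [map_mul, map_mul, map_inv]
    exact hLbN.conj_mem _ hx' _
  · intro y
    obtain ⟨⟨z, hz⟩, rfl⟩ := ι.surjective y
    obtain ⟨x, rfl⟩ := QuotientGroup.mk'_surjective O z
    exact ⟨⟨x, x, hz, rfl⟩, congrArg ι (Subtype.ext rfl)⟩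
  · have hk : ∀ x : pr.ker, Subgroup.inclusion hLC (x : L) ∈ O := by
      rintro ⟨x, hx⟩
      have h1 : (q.comp (Subgroup.inclusion hLC)).codRestrict Lb hmem x = 1 :=
        ι.injective (by rw [map_one]; exact hx)
      exact (QuotientGroup.eq_one_iff _).1 (congrArg Subtype.val h1 :)
    exact hOodd.of_dvd_nat (Subgroup.card_dvd_of_injective
      (((Subgroup.inclusion hLC).comp pr.ker.subtype).codRestrict O hk)
      fun a b e => Subtype.ext (Subtype.ext (congrArg (fun z : O => ((z : C) : G)) e)))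
  · intro htL
    set tb : Lb := (q.comp (Subgroup.inclusion hLC)).codRestrict Lb hmem ⟨t, htL⟩ with htb
    have hcen : ∀ y : Lb, Commute tb y := by
      rintro ⟨y, hy⟩
      obtain ⟨x, rfl⟩ := QuotientGroup.mk'_surjective O y
      refine Subtype.ext ?_
      show q ⟨t, htC⟩ * q x = q x * q ⟨t, htC⟩
      rw [← map_mul, ← map_mul]
      exact congrArg q (Subtype.ext (Subgroup.mem_centralizer_singleton_iff.1 x.2).symm)
    have hne : tb ≠ 1 := by
      intro e
      have h1 : (⟨t, htC⟩ : C) ∈ O := (QuotientGroup.eq_one_iff _).1 (congrArg Subtype.val e :)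
      have h2 : orderOf (⟨⟨t, htC⟩, h1⟩ : O) ∣ Nat.card O := orderOf_dvd_natCard _
      rw [← Subgroup.orderOf_coe, ← Subgroup.orderOf_coe, ht] at h2
      exact Nat.not_even_iff_odd.2 hOodd (even_iff_two_dvd.2 h2)
    show ι tb = (g1, 1)
    have h2 : (ι tb).2 = 1 := center_trivial hP fun y => by
      have := (hcen (ι.symm (1, y))).map ι.toMonoidHom
      simp only [MulEquiv.coe_toMonoidHom, MulEquiv.apply_symm_apply] at this
      exact congrArg Prod.snd this.eq
    refine Prod.ext ?_ h2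
    refine (Z2_cases (ι tb).1).resolve_left fun h1 => hne (ι.injective ?_)
    rw [map_one]
    exact Prod.ext h1 h2
  · intro c hc
    set cb : ↥C ⧸ O := q ⟨c, Subgroup.mem_centralizer_singleton_iff.2 hc.eq⟩ with hcb
    let f : Lb →* Lb :=
      { toFun := fun y => ⟨cb * y * cb⁻¹, hLbN.conj_mem _ y.2 _⟩
        map_one' := Subtype.ext (by simp)
        map_mul' := fun a b => Subtype.ext (by push_cast; group) }
    let a : Z2 × P →* Z2 × P := (ι.toMonoidHom.comp f).comp ι.symm.toMonoidHom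
    let a2 : P →* Z2 × P := a.comp (MonoidHom.inr Z2 P)
    refine ⟨(MonoidHom.snd Z2 P).comp a2, fun x hx hx' h1 => ?_⟩
    set y := pr ⟨x, hx⟩ with hy
    have hy' : y = (1, y.2) := Prod.ext h1 rfl
    have he : pr ⟨c * x * c⁻¹, hx'⟩ = a y := by
      show ι _ = ι (f (ι.symm (ι _)))
      rw [MulEquiv.symm_apply_apply]
      exact congrArg ι (Subtype.ext rfl)
    rw [he]
    refine Prod.ext ?_ ?_
    · rw [hy']
      exact hom_trivial hP ((MonoidHom.fst Z2 P).comp a2) y.2
    · show (a y).2 = (a (1, y.2)).2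
      rw [← hy']

theorem main {G : Type*} [Group G] [Finite G] [IsSimpleGroup G]
    (hG : ¬ IsMulCommutative G) (t : G) (ht : orderOf t = 2) {F : Type*} [Field F] [Fintype F]
    (hF : 3 < Fintype.card F)
    (hL : Nonempty (↥(Subgroup.closure {x : (↥(Subgroup.centralizer ({t} : Set G)) ⧸
      Cfsg.oddCore ↥(Subgroup.centralizer ({t} : Set G))) | ∃ k : ℕ, orderOf x = 2 ^ k}) ≃*
      (Multiplicative (ZMod 2) × Matrix.ProjectiveSpecialLinearGroup (Fin 2) F))) (T : Sylow 2 G) :
    Nat.card ↥(T : Subgroup G) = 8 ∧ ∀ x ∈ (T : Subgroup G), x ^ 2 = 1 := by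
  haveI : IsSimpleGroup (Matrix.ProjectiveSpecialLinearGroup (Fin 2) F) :=
    Matrix.ProjectiveSpecialLinearGroup.rank_two_simple (by rw [Nat.card_eq_fintype_card]; omega)
  obtain ⟨Δ⟩ := exists_model psl_noncomm t ht hL
  obtain ⟨p, hchar, n, hp, hcard⟩ := FiniteField.card' F
  by_cases h2 : p = 2
  · subst h2
    refine even_case Δ hG (n := n) ?_ hcard T
    by_contra hn
    have h1 : 2 ^ (n : ℕ) ≤ 2 ^ 1 := Nat.pow_le_pow_right two_pos (by omega)
    omega
  · have hodd : Fintype.card F % 2 = 1 := by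
      rw [hcard]
      exact Nat.odd_iff.1 ((hp.odd_of_ne_two h2).pow)
    rcases (show Fintype.card F % 8 = 3 ∨ Fintype.card F % 8 = 5 ∨
      (Fintype.card F % 8 = 1 ∨ Fintype.card F % 8 = 7) by omega) with h | h | h
    · exact klein_case Δ hG (Or.inl h) T
    · exact klein_case Δ hG (Or.inr h) T
    · exact (dihedral_case hG h Δ).elim

end Cfsg.Lib.TwoTimesPSL
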